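import Cfsg.Agent.H87.Frob

/-! The standard form of the character table of a Frobenius block with `l = e`. -/

set_option autoImplicit false
set_option linter.unusedSectionVars false

open MonoidAlgebra Subgroup ComplexConjugate

namespace Cfsg.Agent.H87

open Cfsg Cfsg.Agent.H32 Cfsg.Agent.H86 Cfsg.Agent.H34

section Grp

variable {A : Type*} [Group A] [Finite A] {Γ : Subgroup (MulAut A)} {p : ℕ} [hp : Fact p.Prime]

theorem eq_one_of_fix_omega (hA : ∀ a b : A, a * b = b * a) (hP : IsPGroup p A) {γ : MulAut A}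
    (hγ : ¬ p ∣ orderOf γ) (h : ∀ x, x ^ p = 1 → γ x = x) : γ = 1 := by
  let : CommGroup A := { mul_comm := hA }
  have h1 : ∀ n : ℕ, ∀ x : A, x ^ p ^ n = 1 → γ x = x := fun n => by
    induction n with
    | zero => intro x hx; rw [pow_zero, pow_one] at hx; rw [hx, map_one]
    | succ n ih =>
      intro x hx
      have h2 : (γ x * x⁻¹) ^ p = 1 := by
        rw [mul_pow, ← map_pow, ih (x ^ p) (by rwa [← pow_mul, ← pow_succ']), inv_pow, mul_inv_cancel]
      have h3 : ∀ m : ℕ, (γ ^ m) x = (γ x * x⁻¹) ^ m * x := fun m => by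
        induction m with
        | zero => simp
        | succ m ih =>
          rw [pow_succ', MulAut.mul_apply, ih, map_mul, map_pow, h _ h2, pow_succ, mul_assoc,
            inv_mul_cancel_right]
      have h4 := h3 (orderOf γ)
      rw [pow_orderOf_eq_one, MulAut.one_apply, right_eq_mul] at h4
      exact mul_inv_eq_one.1 (eq_one_of_pow_eq_one hγ h4 (n := 1) (by rwa [pow_one]))
  exact MulEquiv.ext fun x => (hP x).elim fun n hn => h1 n x hn

theorem fpf_of_omega (hA : ∀ a b : A, a * b = b * a) (hP : IsPGroup p A) (hΓ : ¬ p ∣ Nat.card Γ)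
    (h : ∀ γ ∈ Γ, ∀ y, orderOf y = p → γ y = y → ∀ x, x ^ p = 1 → γ x = x) : FpfA Γ :=
  fun γ hγ y hy => or_iff_not_imp_right.2 fun h1 => by
    obtain ⟨n, hn⟩ := IsPGroup.iff_orderOf.1 hP y
    have h2 : p ∣ orderOf y := hn ▸ dvd_pow_self p fun h0 => h1 (orderOf_eq_one_iff.1 (by simp [hn, h0]))
    exact eq_one_of_fix_omega hA hP (fun h3 => hΓ (h3.trans (Subgroup.orderOf_dvd_natCard Γ hγ)))
      (h γ hγ _ (orderOf_pow_orderOf_div (orderOf_pos y).ne' h2) (by rw [map_pow, hy]))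

theorem FpfA.card_dvd (h : FpfA Γ) : Nat.card Γ ∣ Nat.card {x : A // orderOf x = p} := by
  let : MulAction Γ {x : A // orderOf x = p} :=
    { smul γ x := ⟨(γ : MulAut A) x, by rw [MulEquiv.orderOf_eq, x.2]⟩
      one_smul _ := rfl
      mul_smul _ _ _ := rfl }
  have := index_dvd_card_of_stabilizer_le (X := {x : A // orderOf x = p}) (⊥ : Subgroup Γ)
    fun x γ hγ => Subtype.ext ((h γ γ.2 x (congrArg Subtype.val hγ)).resolve_right fun h1 =>
      hp.out.one_lt.ne (by rw [← x.2, h1, orderOf_one]))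
  rwa [index_bot] at this

theorem fpf_of_cyclic [IsCyclic A] (hP : IsPGroup p A) (hΓ : ¬ p ∣ Nat.card Γ) : FpfA Γ := by
  let : CommGroup A := IsCyclic.commGroup
  refine fpf_of_omega mul_comm hP hΓ fun γ _ y hy h x hx => ?_
  have h1 : zpowers y = (powMonoidHom p : A →* A).ker := by
    refine eq_of_le_of_card_ge (zpowers_le.2 (by simp [← hy])) ?_
    rw [Nat.card_zpowers, hy, IsCyclic.card_powMonoidHom_ker]
    exact Nat.gcd_le_right _ hp.out.pos
  obtain ⟨k, rfl⟩ : x ∈ zpowers y := h1 ▸ hx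
  rw [map_zpow, h]

theorem FpfA.card_dvd_pred [IsCyclic A] (h : FpfA Γ) (h1 : p ∣ Nat.card A) :
    Nat.card Γ ∣ p - 1 := by
  classical
  have := Fintype.ofFinite A
  have h2 := FpfA.card_dvd (p := p) h
  rwa [Nat.card_eq_fintype_card (α := {x : A // orderOf x = p}), Fintype.card_subtype,
    IsCyclic.card_orderOf_eq_totient (Nat.card_eq_fintype_card (α := A) ▸ h1),
    Nat.totient_prime hp.out] at h2

/-- Abelian `2`-groups with three involutions. -/
theorem fpf_of_three (hA : ∀ a b : A, a * b = b * a) (hP : IsPGroup 2 A) (hΓ : ¬ 2 ∣ Nat.card Γ)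
    (h3 : Nat.card {x : A // orderOf x = 2} = 3) : FpfA Γ := by
  refine fpf_of_omega hA hP hΓ fun γ hγ y hy h x hx => by_contra fun h1 => ?_
  have h2 : orderOf x = 2 := orderOf_eq_prime hx fun h0 => h1 (by rw [h0, map_one])
  have h4 : γ (γ x) = x := by
    obtain ⟨a, b, c, -, -, -, h5⟩ := Set.ncard_eq_three.1 (show Set.ncard {x : A | orderOf x = 2} = 3 from h3)
    have h6 : ∀ z, orderOf z = 2 → z = a ∨ z = b ∨ z = c := fun z hz => by
      have : z ∈ ({a, b, c} : Set A) := h5 ▸ hz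
      simpa using this
    have h7 : x ≠ y := fun h0 => h1 (by rw [h0, h])
    have h8 : γ x ≠ y := fun h0 => h7 (γ.injective (h0.trans h.symm))
    have h9 : γ (γ x) ≠ y := fun h0 => h8 (γ.injective (h0.trans h.symm))
    have h10 : γ (γ x) ≠ γ x := fun h0 => h1 (γ.injective h0)
    have e1 := h6 y hy
    have e2 := h6 x h2
    have e3 := h6 (γ x) (by rw [MulEquiv.orderOf_eq, h2])
    have e4 := h6 (γ (γ x)) (by rw [MulEquiv.orderOf_eq, MulEquiv.orderOf_eq, h2])
    grind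
  obtain ⟨k, hk⟩ : Odd (orderOf γ) := Nat.odd_iff.2 (Nat.two_dvd_ne_zero.1
    fun h3 => hΓ (h3.trans (Subgroup.orderOf_dvd_natCard Γ hγ)))
  have h5 : ∀ m : ℕ, ((γ ^ 2) ^ m) x = x := fun m => by
    induction m with
    | zero => rfl
    | succ m ih => rw [pow_succ, MulAut.mul_apply, sq γ, MulAut.mul_apply, h4, ← sq, ih]
  have h6 := pow_orderOf_eq_one γ
  rw [hk, pow_succ', pow_mul] at h6
  exact h1 (by rw [← h5 k, ← MulAut.mul_apply, h6, h5 k]; rfl)

end Grp

variable {M : Ideal AlgInt} [hMm : M.IsMaximal] {G : Type*} [Group G] [Finite G]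
  {p : ℕ} {B : Set (IrrCharacter G)} {P : Subgroup G} {e : (Res M)[G]} {χ ψ : G → ℂ}
  {Γ : Subgroup (MulAut P)} {δ : P → ℂ}

theorem div_card_Phi_mem (i : IBr M G) (g : G) :
    Phi i g / Nat.card (centralizer ({g} : Set G)) ∈ locRing M := by
  classical
  have := Fintype.ofFinite G
  have h0 : (Nat.card (centralizer ({g} : Set G)) : ℂ) ≠ 0 := Nat.cast_ne_zero.2 Nat.card_pos.ne'
  rw [Phi, projC_apply, ← Finset.sum_fiberwise (g := fun x => x⁻¹ * g⁻¹ * x), Finset.sum_div]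
  refine sum_mem fun y _ => ?_
  rw [Finset.sum_congr rfl (g := fun _ => (pim i).coeff y) fun x hx => by
    rw [(Finset.mem_filter.1 hx).2], Finset.sum_const, nsmul_eq_mul]
  rcases (Finset.univ.filter fun x => x⁻¹ * g⁻¹ * x = y).eq_empty_or_nonempty with h | ⟨z, hz⟩
  · simp [h]
  rw [← Nat.card_eq_finsetCard, ← Nat.card_congr (Equiv.subtypeEquiv (Equiv.mulRight z)
    (p := (· ∈ centralizer ({g} : Set G))) fun c => ?_), mul_div_cancel_left₀ _ h0]
  · exact pim_mem_RG i y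
  · rw [Finset.mem_filter, ← (Finset.mem_filter.1 hz).2, mem_centralizer_singleton_iff]
    simp only [Finset.mem_univ, true_and, Equiv.coe_mulRight, mul_inv_rev, mul_assoc, mul_right_inj,
      inv_mul_eq_iff_eq_mul]
    rw [← mul_assoc, ← mul_assoc, mul_left_inj, eq_mul_inv_iff_mul_eq]

theorem card_centralizer_mul (hp : p.Prime) {C : Subgroup G} {u : G} (hC : IsCent C u)
    (hu : ∃ k, orderOf u = p ^ k) {s : C} (hs : ¬ p ∣ orderOf s) :
    Nat.card (centralizer ({s} : Set C)) = Nat.card (centralizer ({u * s} : Set G)) := by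
  rw [← card_map_of_injective C.subtype_injective]
  congr 2
  ext x
  simp only [mem_map, mem_centralizer_singleton_iff, subtype_apply]
  refine ⟨?_, fun hx => ?_⟩
  · rintro ⟨y, hy, rfl⟩
    rw [← mul_assoc, ← (hC.commute y).eq, mul_assoc, ← coe_mul, hy, coe_mul, mul_assoc]
  · have h2 := (H33.IsPPart.commute_of_commute hp (hC.isPPart hu hs) (w := x) hx).eq
    refine ⟨⟨x, (hC x).2 h2⟩, Subtype.ext (mul_left_cancel (a := u) ?_), rfl⟩
    change u * (x * s) = u * (s * x)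
    rw [← mul_assoc, ← h2, mul_assoc, hx, mul_assoc]

theorem card_centralizer_conj (g x : G) :
    Nat.card (centralizer ({g * x * g⁻¹} : Set G)) = Nat.card (centralizer ({x} : Set G)) := by
  rw [← Ce_zpowers, ← Ce_zpowers, ← cjS_zpowers, ← cjS_Ce, card_cjS]

theorem R1.tau_div_mem (h : Ctx M p B P e) {v y : G} (hv : v ∈ P) (h1 : R1 p P e v)
    (S : Submodule (locRing M) ℂ) (hχ : IsClassFunction G χ)
    (hS : D p P e v χ / (p : ℂ) ^ df p P e v ∈ S) (hy : IsPPart p y v) :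
    tau χ y (bi p P e v) / Nat.card (centralizer ({y} : Set G)) ∈ S := by
  have hM := h.hM
  obtain ⟨i, hi⟩ := h1.exists_ibr h hv
  obtain ⟨s, hs, rfl⟩ := (isCent_zpowers v).exists_eq hy
  have hb := (h.blk_spec hv).1
  rw [tau_idm_gen hM hχ (isCent_zpowers v) hb hs, gen_eq_dn hM hχ (isCent_zpowers v) hb hi,
    ← card_centralizer_mul hM.1 (isCent_zpowers v) (h.pElt hv) hs]
  convert S.smul_mem ⟨_, div_card_Phi_mem i s⟩ hS using 1
  have := pow_ne_zero (blockDefect p (blk p P e v)) (p_ne_zero_complex hM.1)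
  simp only [Subring.smul_def]
  simp only [Phi_eq_pow_smul hM hb hi, Pi.smul_apply, smul_eq_mul, df]
  field_simp

/-- Values on singular elements in terms of the subsections. -/
theorem apply_div_mem (h : Ctx M p B P e) (S : Submodule (locRing M) ℂ)
    (hχ : IsClassFunction G χ) (hB : blockPart B χ = χ)
    (hS : ∀ u : P, u ≠ 1 → ∀ y : G, IsPPart p y u →
      tau χ y (bi p P e u) / Nat.card (centralizer ({y} : Set G)) ∈ S) {x : G}
    (hx : p ∣ orderOf x) : χ x / Nat.card (centralizer ({x} : Set G)) ∈ S := by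
  have hM := h.hM
  have hu := pp_spec hM.1 x
  rw [← sum_tau (M := M) hχ hu, Finset.sum_div]
  refine sum_mem fun f hf => ?_
  have hf' := (mem_prs (H33.IsPPart.pElt hu)).1 hf
  by_cases hb : BPair p ⊤ ⊤ (eB M B) (zpowers (pp p x)) f
  swap
  · rw [← hB, tau_blockPart_of_not hM hχ h.hB hu hf' hb, zero_div]; exact zero_mem _
  obtain ⟨g, hg⟩ := h.bpair_iff_into.1 hb
  have h2 := hS ⟨_, hg.mem⟩ (fun h1 => (H33.IsPPart.eq_one_iff hM.1 hu).1 (by
    simpa [mul_inv_eq_iff_eq_mul] using congrArg Subtype.val h1) hx) _ (H33.IsPPart.conj hM.1 hu g)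
  have h3 := H86.Pair.inv_of_isPPart hu hf'
  rwa [card_centralizer_conj, Subtype.coe_mk, ← h.cj_bi hg,
    tau_cj hχ g h3 hf'.blk.idem] at h2

theorem Frob.apply_div_mem (h : Frob M p B P e Γ δ) (S : Submodule (locRing M) ℂ)
    (hχ : IsClassFunction G χ) (hB : blockPart B χ = χ)
    (hS : ∀ u : P, u ≠ 1 → D p P e u χ / Nat.card P ∈ S) {x : G} (hx : p ∣ orderOf x) :
    χ x / Nat.card (centralizer ({x} : Set G)) ∈ S :=
  H87.apply_div_mem h.ctx S hχ hB (fun u hu _ hy =>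
    (h.r1 u hu).tau_div_mem h.ctx u.2 S hχ (h.pow_df u ▸ hS u hu) hy) hx

theorem Frob.apply_eq_zero (h : Frob M p B P e Γ δ) (hχ : IsClassFunction G χ)
    (hB : blockPart B χ = χ) (hS : ∀ u : P, u ≠ 1 → D p P e u χ = 0) {x : G} (hx : p ∣ orderOf x) :
    χ x = 0 := by
  have := h.apply_div_mem ⊥ hχ hB (fun u hu => by simp [hS u hu]) hx
  exact (div_eq_zero_iff.1 this).resolve_right (Nat.cast_ne_zero.2 Nat.card_pos.ne')

variable (M p B P e Γ δ) in
/-- The standard form: `e` non-exceptional characters `X` and exceptional characters `ζ l`. -/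
structure Std (ε : ℤ) (ζ : (P →* ℂˣ) → IrrCharacter G) (X : Finset (IrrCharacter G))
    (s : IrrCharacter G → ℤ) : Prop extends Frob M p B P e Γ δ where
  sign : ε = 1 ∨ ε = -1
  signX : ∀ χ ∈ X, s χ = 1 ∨ s χ = -1
  card : X.card = Nat.card Γ
  mem_iff : ∀ χ, χ ∈ B ↔ χ ∈ X ∨ ∃ l ≠ 1, ζ l = χ
  notMem : ∀ l ≠ 1, ζ l ∉ X
  eq_iff : ∀ l ≠ 1, ∀ m ≠ 1, ζ l = ζ m ↔ cR Γ l m
  valX : ∀ χ ∈ X, ∀ u : P, u ≠ 1 → D p P e u χ = δ u * s χ
  valY : ∀ l ≠ 1, ∀ u : P, u ≠ 1 → D p P e u (ζ l) = δ u * (ε * orb Γ l u)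
  reg : ∀ l ≠ 1, ∀ g, ¬ p ∣ orderOf g →
    ∑ χ ∈ X, (s χ : ℂ) * (χ : G → ℂ) g = ε * (ζ l : G → ℂ) g

namespace Frob

variable (h : Frob M p B P e Γ δ) (hP : P ≠ ⊥)
include h

open Classical in
theorem card_sdiff [Fintype P] [Fintype (P →* ℂˣ)] {a : (P →* ℂˣ) → IrrCharacter G → ℤ}
    (hg : Gram (fs B) (Finset.univ.erase 1) (cR Γ) a (Nat.card Γ)) {ε c : ℤ} {ζ b}
    (f : Form (fs B) (Finset.univ.erase 1) (cR Γ) a ε c ζ b) :
    (fs B \ (Finset.univ.erase 1).image ζ).card = blockRank p B ∧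
      (Finset.univ.erase (1 : P →* ℂˣ)).card + 1 = Nat.card P := by
  have h1 : (Finset.univ.erase (1 : P →* ℂˣ)).card + 1 = Nat.card P := by
    rw [Finset.card_erase_add_one (Finset.mem_univ _), Finset.card_univ, ← Nat.card_eq_fintype_card,
      card_lc h.comm]
  have h2 := h.card_eq
  rw [← card_fs, f.card_eq, ← h1, ← f.card_mul hg, add_mul] at h2
  exact ⟨Nat.eq_of_mul_eq_mul_right (m := Nat.card Γ) Nat.card_pos (by omega), h1⟩

include hP

theorem rank_le : blockRank p B ≤ Nat.card Γ := by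
  classical
  have := Fintype.ofFinite P
  have := Fintype.ofFinite (P →* ℂˣ)
  obtain ⟨a, -, hg, -⟩ := h.exists_gram hP
  obtain ⟨ε, c, ζ, b, f⟩ := hg.exists_form
  exact (h.card_sdiff hg f).1 ▸ f.card_le hg

theorem rank_small (he : Nat.card Γ ≤ 3) :
    blockRank p B = Nat.card Γ ∨ Nat.card P = 7 ∨ Nat.card P = 13 := by
  classical
  have : Fact p.Prime := ⟨h.ctx.hM.1⟩
  have h0 : 1 ≤ blockRank p B :=
    have := Fintype.ofFinite G; one_le_blockRank h.ctx.hM.1 (isPBlock_nonempty h.ctx.hB)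
  have := Fintype.ofFinite P
  have := Fintype.ofFinite (P →* ℂˣ)
  obtain ⟨a, -, hg, -⟩ := h.exists_gram hP
  obtain ⟨ε, c, ζ, b, f⟩ := hg.exists_form
  obtain ⟨h1, h2⟩ := h.card_sdiff hg f
  have h3 := f.small hg he (h1 ▸ h0)
  have h4 : Nat.card P ≠ 10 := fun h4 => by
    obtain ⟨n, hn⟩ := h.ctx.pgp.exists_card_eq
    have h5 := (Nat.prime_dvd_prime_iff_eq Nat.prime_two h.ctx.hM.1).1
      (Nat.prime_two.dvd_of_dvd_pow (n := n) (by rw [← hn, h4]; decide))
    have h6 := (Nat.prime_dvd_prime_iff_eq Nat.prime_five h.ctx.hM.1).1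
      (Nat.prime_five.dvd_of_dvd_pow (n := n) (by rw [← hn, h4]; decide))
    omega
  omega

theorem exists_std (hl : blockRank p B = Nat.card Γ) : ∃ ε ζ X s, Std M p B P e Γ δ ε ζ X s := by
  classical
  have := Fintype.ofFinite P
  have := Fintype.ofFinite (P →* ℂˣ)
  obtain ⟨a, ha, hg, hr⟩ := h.exists_gram hP
  obtain ⟨ε, c, ζ, b, f⟩ := hg.exists_form
  obtain ⟨ε, ζ, b, f, -⟩ := f.exists_zero hg ((h.card_sdiff hg f).1.trans hl)
  have h1 := (h.card_sdiff hg f).1.trans hl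
  have hT : ∀ {l : P →* ℂˣ}, l ≠ 1 → l ∈ Finset.univ.erase 1 := fun hl => by simpa using hl
  have h2 : ∀ (χ : IrrCharacter G) (u : P), u ≠ 1 → D p P e u χ =
      δ u * ∑ l ∈ Finset.univ.erase 1, a l χ * lc l u := fun χ u hu => by
    rw [h.D_eq hu, fourier_off_one h.comm (th p P e δ χ) hu,
      ← Finset.add_sum_erase _ _ (Finset.mem_univ 1),
      show lc (1 : P →* ℂˣ) - 1 = 0 from funext fun u => by simp [lc_one_left],
      H5.classInner_zero_right, zero_mul, zero_add]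
    simp only [ha]
  have h3 : ∀ l ≠ 1, ∀ m ≠ 1, a m (ζ l) = if cR Γ l m then ε else 0 := fun l hl m hm => by
    rw [f.val m (hT hm) _ (f.mem l (hT hl)), f.const l (hT hl), zero_add]
    simp only [f.eq_iff l (hT hl) m (hT hm)]
  refine ⟨ε, ζ, _, fun χ => -b χ, h, f.sign, fun χ hχ => ?_, h1, fun χ => ?_,
    fun l hl h4 => (Finset.mem_sdiff.1 h4).2 (Finset.mem_image_of_mem _ (hT hl)),
    fun l hl m hm => f.eq_iff l (hT hl) m (hT hm), fun χ hχ u hu => ?_, fun l hl u hu => ?_,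
    fun l hl g hg' => ?_⟩
  · rcases f.b_sign hg h1 hχ with h4 | h4 <;> simp [h4]
  · refine mem_fs.symm.trans ((Finset.ext_iff.1 (Finset.sdiff_union_of_subset f.subset) χ).symm.trans
      (Finset.mem_union.trans (or_congr_right ?_)))
    simp
  · rw [h2 χ u hu, Finset.sum_congr rfl fun l hl => by rw [f.val_of_notMem hl hχ],
      ← Finset.mul_sum, Finset.sum_erase_eq_sub (Finset.mem_univ _), sum_lc_apply h.comm, if_neg hu,
      lc_one_left]
    simp
  · rw [h2 _ u hu, orb_eq_sum h.fpf hl, Finset.mul_sum (a := (ε : ℂ)),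
      ← Finset.add_sum_erase _ _ (Finset.mem_univ 1), if_neg fun hr => hl (hr.eq_one_iff.1 rfl),
      mul_zero, zero_add]
    exact congrArg _ (Finset.sum_congr rfl fun m hm => by
      rw [h3 l hl m (Finset.ne_of_mem_erase hm)]; split_ifs <;> simp)
  · have h4 := hr l g hg'
    rw [← Finset.sum_sdiff f.subset, Finset.sum_eq_single_of_mem (ζ l)
      (Finset.mem_image_of_mem _ (hT hl)) fun χ hχ hne => ?_, h3 l hl l hl,
      if_pos ((cR_equivalence Γ).refl l)] at h4
    · rw [← neg_eq_of_add_eq_zero_right h4, ← Finset.sum_neg_distrib]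
      exact Finset.sum_congr rfl fun χ hχ => by rw [f.val_of_notMem (hT hl) hχ]; simp
    · obtain ⟨m, hm, rfl⟩ := Finset.mem_image.1 hχ
      rw [h3 m (Finset.ne_of_mem_erase hm) l hl, if_neg fun hr => hne ((f.eq_iff m hm l (hT hl)).2 hr)]
      simp

end Frob

end Cfsg.Agent.H87
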