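import Cfsg.Agent.H87.Std

/-! Perfect isometries between Frobenius blocks in standard form. -/

set_option autoImplicit false
set_option linter.unusedSectionVars false

open MonoidAlgebra Subgroup ComplexConjugate

namespace Cfsg.Agent.H87

open Cfsg Cfsg.Agent.H32 Cfsg.Agent.H86 Cfsg.Agent.H34

variable {M : Ideal AlgInt} [hMm : M.IsMaximal] {G H : Type*} [Group G] [Finite G] [Group H]
  [Finite H] {p : ℕ} {B : Set (IrrCharacter G)} {P : Subgroup G} {e : (Res M)[G]}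
  {Γ : Subgroup (MulAut P)} {δ : P → ℂ} {B' : Set (IrrCharacter H)} {P' : Subgroup H}
  {e' : (Res M)[H]} {Γ' : Subgroup (MulAut P')} {δ' : P' → ℂ}

theorem R1.exists_col (h : Ctx M p B P e) {u : G} (hu : u ∈ P) (h1 : R1 p P e u) (y : G) :
    ∃ t ∈ locRing M, (u ≠ 1 → ¬ p ∣ orderOf y → t = 0) ∧
      ∑ χ ∈ fs B, conj (D p P e u χ) * (χ : G → ℂ) y = (p : ℂ) ^ df p P e u * t := by
  have := Fintype.ofFinite G
  have := Fintype.ofFinite (Ce (zpowers u))
  have hM := h.hM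
  obtain ⟨i, hi⟩ := h1.exists_ibr h hu
  have hb := (h.blk_spec hu).1
  have h2 := congrFun (sec_Phi_eq_sum hM (isCent_zpowers u) (h.pElt hu)
    (i := i) (blk_of_ibr hi ▸ h.induced hu)) y
  refine ⟨sec p (isCent_zpowers u) (phi i) y, sec_mem (locRing M) hM.1 _ (h.pElt hu)
    (isClassFunction_phi i) (fun y _ => phi_mem_locRing hM i y) y, fun hu1 hy =>
      sec_eq_zero hM.1 _ (h.pElt hu) _ (z := 1) ?_ fun hc => hu1 (isConj_one_right.1 hc), ?_⟩
  · exact (H33.IsPPart.eq_one_iff hM.1 (pp_spec hM.1 y)).2 hy ▸ pp_spec hM.1 y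
  · rw [Phi_eq_pow_smul hM hb hi, sec_smul, Finset.sum_apply] at h2
    refine Eq.trans (Finset.sum_congr rfl fun χ _ => ?_) h2.symm
    rw [D, dn_eq_gdec hM (irr_cf χ.2) (isCent_zpowers u) hb hi]; rfl

theorem div_card_mem_of_vanish (hM : IsPModular p M) {F : G → ℂ} (hF : F ∈ VR G (locRing M))
    (h : ∀ g, p ∣ orderOf g → F g = 0) (x : G) :
    F x / Nat.card (centralizer ({x} : Set G)) ∈ locRing M := by
  have := Fintype.ofFinite G
  rw [eq_sum_Phi hM hF.1 h, Finset.sum_apply, Finset.sum_div]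
  refine sum_mem fun i _ => ?_
  rw [Pi.smul_apply, smul_eq_mul, mul_div_assoc, ← reg_hat_phi hM, ← classInner_reg, reg_eq_self h]
  exact mul_mem (hF.2.virt (virt_hat_phi hM i)) (div_card_Phi_mem i x)

theorem Frob.half (h : Frob M p B P e Γ δ) (h' : Frob M p B' P' e' Γ' δ') {ι : Type*}
    {s : Finset ι} {χ : ι → IrrCharacter G} {η : ι → IrrCharacter H} (hχ : ∀ i ∈ s, χ i ∈ B)
    (hη : Set.BijOn η s B') (E : ι → ℤ) (α : P ≃* P') {ω : P → ℂ} (hω : ∀ u, ω u ∈ locRing M)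
    (hD : ∀ i ∈ s, ∀ u : P, u ≠ 1 →
      E i * D p P e u (χ i) = ω u * conj (D p P' e' (α u) (η i))) (x : G) (y : H) :
    (p ∣ orderOf x → ¬ p ∣ orderOf y → ∑ i ∈ s, (E i : ℂ) * (χ i : G → ℂ) x * (η i : H → ℂ) y = 0) ∧
    (p ∣ orderOf x ∨ ¬ p ∣ orderOf y → (∑ i ∈ s, (E i : ℂ) * (χ i : G → ℂ) x * (η i : H → ℂ) y) /
      Nat.card (centralizer ({x} : Set G)) ∈ locRing M) := by
  have := Fintype.ofFinite G
  have := Fintype.ofFinite H
  let F : G → ℂ := ∑ i ∈ s, ((E i : ℂ) * (η i : H → ℂ) y) • (χ i : G → ℂ)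
  have hF : F ∈ VR G (locRing M) := sum_mem fun i _ => mul_mem (const_mem_VR (mul_mem
    (intCast_mem _ _) (virt_mem_locRing (H53.virt_of_irr (η i).2) y)))
      (mem_VR_of_virt _ (H53.virt_of_irr (χ i).2))
  have h1 : ∑ i ∈ s, (E i : ℂ) * (χ i : G → ℂ) x * (η i : H → ℂ) y = F x := by
    simp only [F, Finset.sum_apply, Pi.smul_apply, smul_eq_mul, mul_right_comm]
  have h2 : blockPart B F = F := by
    rw [blockPart_sum]
    exact Finset.sum_congr rfl fun i hi => by rw [blockPart_smul, blockPart_irr_of_mem (hχ i hi)]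
  have h3 : ∀ u : P, u ≠ 1 → ∃ t ∈ locRing M, (¬ p ∣ orderOf y → t = 0) ∧
      D p P e u F / Nat.card P = t := fun u hu => by
    have hu' : α u ≠ 1 := by simpa using hu
    obtain ⟨t, ht, h3, h4⟩ := (h'.r1 _ hu').exists_col h'.ctx (α u).2 y
    refine ⟨ω u * t, mul_mem (hω u) ht, fun hy => by
      rw [h3 (fun h => hu' (Subtype.ext h)) hy, mul_zero], ?_⟩
    rw [div_eq_iff (Nat.cast_ne_zero.2 Nat.card_pos.ne'), Nat.card_congr α.toEquiv, ← h'.pow_df (α u),
      mul_assoc, mul_comm t, ← h4, D, dn_sum, Finset.mul_sum]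
    refine Finset.sum_nbij η (fun i hi => mem_fs.2 (hη.mapsTo hi)) hη.injOn
      (fun b hb => hη.surjOn (mem_fs.1 hb)) fun i hi => ?_
    rw [dn_smul, mul_right_comm, hD i hi u hu, mul_assoc]
  have h4 : ¬ p ∣ orderOf y → ∀ g, p ∣ orderOf g → F g = 0 := fun hy g hg =>
    h.apply_eq_zero hF.1 h2 (fun u hu => by
      obtain ⟨t, -, h3, h4⟩ := h3 u hu
      exact (div_eq_zero_iff.1 (h4.trans (h3 hy))).resolve_right
        (Nat.cast_ne_zero.2 Nat.card_pos.ne')) hg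
  rw [h1]
  refine ⟨fun hx hy => h4 hy x hx, fun h5 => h5.elim (fun hx => ?_) fun hy =>
    div_card_mem_of_vanish h.ctx.hM hF (h4 hy) x⟩
  obtain ⟨r, hr⟩ := h.apply_div_mem 1 hF.1 h2 (fun u hu => by
    obtain ⟨t, ht, -, h4⟩ := h3 u hu
    exact Submodule.mem_one.2 ⟨⟨t, ht⟩, h4.symm⟩) hx |> Submodule.mem_one.1
  exact hr ▸ r.2

theorem Frob.perfect (h : Frob M p B P e Γ δ) (h' : Frob M p B' P' e' Γ' δ')
    {I : IrrCharacter H → IrrCharacter G} {E : IrrCharacter H → ℤ} (hI : Set.BijOn I B' B)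
    (hE : ∀ η ∈ B', E η = 1 ∨ E η = -1) (α : P ≃* P')
    (hD : ∀ η ∈ B', ∀ u : P, u ≠ 1 →
      E η * th p P e δ (I η) u = conj (th p P' e' δ' η (α u))) : IsPerfectIsometry p M B' B I E := by
  refine ⟨hI, hE, fun x y => ?_⟩
  have h1 := h.half h' (s := fs B') (χ := I) (η := id) (fun i hi => hI.mapsTo (mem_fs.1 hi))
    (by simpa [fs] using Set.bijOn_id B') E α (ω := fun u => δ u * δ' (α u))
    (fun u => mem_locRing_of_isIntegral ((h.int _).mul (h'.int _))) (fun η hη u hu => by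
      rw [h.D_eq hu, h'.D_eq (by simpa using hu), mul_left_comm, hD η (mem_fs.1 hη) u hu, map_mul,
        mul_assoc, ← mul_assoc (δ' _), h'.norm, one_mul]; rfl) x y
  have h2 := h'.half h (s := fs B') (χ := id) (η := I) (fun i hi => mem_fs.1 hi)
    (by simpa [fs] using hI) E α.symm (ω := fun u => δ' u * δ (α.symm u))
    (fun u => mem_locRing_of_isIntegral ((h'.int _).mul (h.int _))) (fun η hη u hu => by
      have hu' : α.symm u ≠ 1 := by simpa using hu
      have h2 := congrArg conj (hD η (mem_fs.1 hη) _ hu')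
      rw [Complex.conj_conj, α.apply_symm_apply, map_mul, map_intCast] at h2
      rw [h.D_eq hu', h'.D_eq hu, id, ← h2, map_mul, mul_assoc, ← mul_assoc (δ _), h.norm, one_mul]
      rcases hE η (mem_fs.1 hη) with h3 | h3 <;> simp [h3]) y x
  rw [signedBijectionKernel, finsum_mem_fs]
  simp only [id, mul_right_comm _ _ ((I _ : G → ℂ) x)] at h1 h2
  refine ⟨?_, ?_, ?_⟩
  · by_cases h3 : p ∣ orderOf x ∨ ¬ p ∣ orderOf y
    · exact h1.2 h3
    · push Not at h3
      rw [h2.1 h3.2 h3.1, zero_div]; exact zero_mem (locRing M)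
  · by_cases h3 : p ∣ orderOf y ∨ ¬ p ∣ orderOf x
    · exact h2.2 h3
    · push Not at h3
      rw [h1.1 h3.2 h3.1, zero_div]; exact zero_mem (locRing M)
  · by_cases hx : p ∣ orderOf x <;> by_cases hy : p ∣ orderOf y
    · exact Or.inl (iff_of_false (not_not.2 hx) (not_not.2 hy))
    · exact Or.inr (h1.1 hx hy)
    · exact Or.inr (h2.1 hy hx)
    · exact Or.inl (iff_of_true hx hy)

section Tr

variable {A A' : Type*} [Group A] [Group A'] [Finite A] [Finite A'] {Δ : Subgroup (MulAut A)}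
  {Δ' : Subgroup (MulAut A')} (α : A ≃* A') (hα : ∀ γ, γ ∈ Δ ↔ MulAut.congr α γ ∈ Δ')

/-- Transport of linear characters, combined with inversion. -/
def trc : (A' →* ℂˣ) ≃ (A →* ℂˣ) := α.monoidHomCongrLeftEquiv.symm.trans (Equiv.inv _)

theorem trc_apply (l : A' →* ℂˣ) (u : A) : trc α l u = (l (α u))⁻¹ := rfl

theorem trc_ne_one {l : A' →* ℂˣ} : trc α l ≠ 1 ↔ l ≠ 1 := by
  rw [show (1 : A →* ℂˣ) = trc α 1 from MonoidHom.ext fun u => by simp [trc_apply],
    (trc α).injective.ne_iff]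

theorem congr_apply_apply (γ : MulAut A) (u : A) : MulAut.congr α γ (α u) = α (γ u) :=
  congrArg (fun x => α (γ x)) (α.symm_apply_apply u)

include hα

theorem card_eq_of_congr : Nat.card Δ = Nat.card Δ' :=
  Nat.card_congr ((MulAut.congr α).toEquiv.subtypeEquiv hα)

theorem cR_trc {l m : A' →* ℂˣ} : cR Δ (trc α l) (trc α m) ↔ cR Δ' l m := by
  constructor
  · rintro ⟨γ, hγ, h⟩
    refine ⟨_, (hα γ).1 hγ, MonoidHom.ext fun u => ?_⟩
    simpa [cpA_apply, trc_apply] using DFunLike.congr_fun h (α.symm u)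
  · rintro ⟨γ, hγ, rfl⟩
    exact ⟨(MulAut.congr α).symm γ, (hα _).2 (by rwa [MulEquiv.apply_symm_apply]), MonoidHom.ext fun u => by
      simp [cpA_apply, trc_apply]⟩

theorem orb_trc (l : A' →* ℂˣ) (u : A) : orb Δ (trc α l) u = conj (orb Δ' l (α u)) := by
  have := Fintype.ofFinite Δ
  have := Fintype.ofFinite Δ'
  rw [← orb_inv_left, orb_apply, orb_apply]
  exact Fintype.sum_equiv ((MulAut.congr α).toEquiv.subtypeEquiv hα) _ _ fun γ => by
    simp [lc_apply, trc_apply]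

end Tr

theorem Std.exists_perfect {ε ε' : ℤ} {ζ X s ζ' X' s'} (h : Std M p B P e Γ δ ε ζ X s)
    (h' : Std M p B' P' e' Γ' δ' ε' ζ' X' s') (α : P ≃* P')
    (hα : ∀ γ, γ ∈ Γ ↔ MulAut.congr α γ ∈ Γ') :
    ∃ I E, IsPerfectIsometry p M B' B I E ∧ ∀ l ≠ 1, E (ζ' l) = ε * ε' := by
  classical
  obtain ⟨β⟩ : Nonempty (X' ≃ X) := ⟨Finset.equivOfCardEq
    (by rw [h.card, h'.card, card_eq_of_congr α hα])⟩
  let I : IrrCharacter H → IrrCharacter G := fun η => if hη : η ∈ X' then β ⟨η, hη⟩ else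
    if hl : ∃ l ≠ 1, ζ' l = η then ζ (trc α hl.choose) else ζ 1
  have hX : ∀ η : X', I η = β η := fun η => dif_pos η.2
  have hY : ∀ l ≠ 1, I (ζ' l) = ζ (trc α l) := fun l hl => by
    have h1 : ∃ m ≠ 1, ζ' m = ζ' l := ⟨l, hl, rfl⟩
    simp only [I, dif_neg (h'.notMem l hl), dif_pos h1]
    exact (h.eq_iff _ ((trc_ne_one α).2 h1.choose_spec.1) _ ((trc_ne_one α).2 hl)).2
      ((cR_trc α hα).2 ((h'.eq_iff _ h1.choose_spec.1 _ hl).1 h1.choose_spec.2))
  refine ⟨I, fun η => if η ∈ X' then s (I η) * s' η else ε * ε', h.toFrob.perfect h'.toFrob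
    ⟨fun η hη => ?_, fun η hη η' hη' h1 => ?_, fun χ hχ => ?_⟩ (fun η hη => ?_) α fun η hη u hu => ?_,
    fun l hl => if_neg (h'.notMem l hl)⟩
  · rcases (h'.mem_iff η).1 hη with h1 | ⟨l, hl, rfl⟩
    · exact (h.mem_iff _).2 (Or.inl (hX ⟨η, h1⟩ ▸ (β _).2))
    · exact (h.mem_iff _).2 (Or.inr ⟨_, (trc_ne_one α).2 hl, (hY l hl).symm⟩)
  · rcases (h'.mem_iff η).1 hη with h2 | ⟨l, hl, rfl⟩ <;>
      rcases (h'.mem_iff η').1 hη' with h3 | ⟨m, hm, rfl⟩
    · exact congrArg Subtype.val (β.injective (Subtype.ext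
        ((hX ⟨η, h2⟩).symm.trans (h1.trans (hX ⟨η', h3⟩)))))
    · exact absurd (hY m hm ▸ h1 ▸ hX ⟨η, h2⟩ ▸ (β _).2) (h.notMem _ ((trc_ne_one α).2 hm))
    · exact absurd (hY l hl ▸ h1 ▸ hX ⟨η', h3⟩ ▸ (β _).2) (h.notMem _ ((trc_ne_one α).2 hl))
    · rw [hY l hl, hY m hm, h.eq_iff _ ((trc_ne_one α).2 hl) _ ((trc_ne_one α).2 hm),
        cR_trc α hα] at h1
      exact (h'.eq_iff l hl m hm).2 h1
  · rcases (h.mem_iff χ).1 hχ with h1 | ⟨l, hl, rfl⟩
    · exact ⟨_, (h'.mem_iff _).2 (Or.inl (β.symm ⟨χ, h1⟩).2), by rw [hX, β.apply_symm_apply]⟩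
    · obtain ⟨m, rfl⟩ := (trc α).surjective l
      have hm := (trc_ne_one α).1 hl
      exact ⟨_, (h'.mem_iff _).2 (Or.inr ⟨m, hm, rfl⟩), hY m hm⟩
  · split_ifs with h1
    · rcases h.signX _ (hX ⟨η, h1⟩ ▸ (β _).2 : I η ∈ X) with h2 | h2 <;>
        rcases h'.signX η h1 with h3 | h3 <;> simp [h2, h3]
    · rcases h.sign with h2 | h2 <;> rcases h'.sign with h3 | h3 <;> simp [h2, h3]
  · have hu' : α u ≠ 1 := by simpa using hu
    rw [th_of_ne hu, th_of_ne hu']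
    rcases (h'.mem_iff η).1 hη with h1 | ⟨l, hl, rfl⟩
    · have h2 : I η ∈ X := hX ⟨η, h1⟩ ▸ (β _).2
      rw [if_pos h1, h.valX _ h2 u hu, h'.valX _ h1 _ hu', mul_right_comm (δ _), h.norm,
        mul_right_comm (δ' _), h'.norm]
      rcases h.signX _ h2 with h3 | h3 <;> simp [h3]
    · rw [if_neg (h'.notMem l hl), hY l hl, h.valY _ ((trc_ne_one α).2 hl) u hu, h'.valY l hl _ hu',
        mul_right_comm (δ _), h.norm, mul_right_comm (δ' _), h'.norm, orb_trc α hα]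
      rcases h.sign with h3 | h3 <;> simp [h3]

/-- Passage to a subgroup `N` controlling the maximal pair. -/
theorem exists_ctx_of_induced (hM : IsPModular p M) {N : Subgroup G} (hN : No P ≤ N)
    {c : Set (IrrCharacter N)} (hcD : IsDefectGroup p M c (P.subgroupOf N))
    (hc : IsInducedBlock M N c B) (hP : IsDefectGroup p M B P) :
    ∃ (e : (Res M)[G]) (e' : (Res M)[N]) (α : P ≃* P.subgroupOf N), Ctx M p B P e ∧
      Ctx M p c (P.subgroupOf N) e' ∧
      ∀ γ, γ ∈ iq P e ↔ MulAut.congr α γ ∈ iq (P.subgroupOf N) e' := by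
  have : Fact p.Prime := ⟨hM.1⟩
  have := res_charP hM
  obtain ⟨hcb, hB, hI⟩ := isInducedBlock_iff.1 hc
  obtain ⟨e', h'⟩ := exists_ctx hM hcb hcD
  have hE := emb_subtype N
  have hPN : P ≤ N := le_normalizer.trans hN
  have hCN : Ce P ≤ N := (Ce_le_No P).trans hN
  have h1 := (bpair_up_iff hE.inj).2 h'.hm.bpair
  rw [hE.map_top, map_subgroupOf_eq_of_le hPN] at h1
  have h2 : Pair p ⊤ P (up N.subtype e') := ⟨h1.pair.pgp, le_top.trans top_le_No_top, by
    have := h1.pair.blk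
    rwa [inf_eq_right.2 hCN, ← top_inf_eq (Ce P)] at this⟩
  have h3 := hI.Br_mul_Br hM hE emb_id le_top h1.pair.pgp le_top (inf_le_right.trans hCN)
    (inv_of_le_fix hPN) hcb hB
  have h : Ctx M p B P (up N.subtype e') := ⟨hM, hB, BPair.maxPair_of_isDef ⟨h2, le_top, by
    rw [← h1.br, ← mul_assoc, ← idm_id]; exact congrArg (· * _) h3⟩
      ((isDefectGroup_iff_isDef hM hB).1 hP)⟩
  obtain ⟨α, hα⟩ : ∃ α : P ≃* P.subgroupOf N, ∀ x, ((α x : N) : G) = x :=
    ⟨(subgroupOfEquivOfLe hPN).symm, fun _ => rfl⟩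
  refine ⟨_, e', α, h, h', fun γ => ?_⟩
  have h4 : ∀ g : N, (g : G) ∈ No P ⊓ stab (up N.subtype e') ↔ g ∈ No (P.subgroupOf N) ⊓ stab e' :=
    fun g => and_congr (by
      have := mem_No_map_iff hE.inj (Q := P.subgroupOf N) (x := g)
      rwa [map_subgroupOf_eq_of_le hPN] at this) (by
      change _ ∈ stab _ ↔ _ ∈ stab _
      rw [mem_stab, mem_stab, ← (up_injective hE.inj).eq_iff, ← cj_up]; rfl)
  rw [mem_iq, mem_iq]
  constructor
  · rintro ⟨g, hg, h5⟩
    refine ⟨⟨g, hN hg.1⟩, (h4 _).1 hg, fun x => Subtype.ext ?_⟩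
    obtain ⟨y, rfl⟩ := α.surjective x
    rw [congr_apply_apply, hα, h5, ← hα y]; rfl
  · rintro ⟨g, hg, h5⟩
    refine ⟨g, (h4 g).2 hg, fun x => ?_⟩
    have h6 := congrArg Subtype.val (h5 (α x))
    rwa [congr_apply_apply, hα, coe_mul, coe_mul, coe_inv, hα] at h6

/-- Abelian defect groups with three involutions. -/
theorem exists_std_of_three (h : Ctx M 2 B P e) (hab : P ≤ Ce P)
    (h3 : Nat.card {x : P // orderOf x = 2} = 3) :
    (Nat.card (iq P e) = 1 ∨ Nat.card (iq P e) = 3) ∧ blockRank 2 B = Nat.card (iq P e) ∧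
      ∃ δ ε ζ X s, Std M 2 B P e (iq P e) δ ε ζ X s := by
  have hf := fpf_of_three (fun a b => Subtype.ext (mem_Ce.1 (hab b.2) a a.2)) h.pgp
    (not_dvd_card_iq h hab) h3
  have h4 := FpfA.card_dvd (p := 2) hf
  rw [h3, Nat.dvd_prime Nat.prime_three] at h4
  obtain ⟨δ, hδ⟩ := exists_frob h hab hf
  have hP : P ≠ ⊥ := fun h => by
    subst h
    have := Finite.card_subtype_le (fun x : (⊥ : Subgroup G) => orderOf x = 2)
    rw [h3, card_bot] at this
    omega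
  obtain ⟨n, hn⟩ := h.pgp.exists_card_eq
  have h5 : blockRank 2 B = Nat.card (iq P e) := (hδ.rank_small hP (by omega)).resolve_right (by
    rw [hn]
    cases n with
    | zero => decide
    | succ n => omega)
  exact ⟨h4, h5, δ, hδ.exists_std hP h5⟩

theorem card_inv_of_klein {A : Type*} [Group A] [IsKleinFour A] :
    Nat.card {x : A // orderOf x = 2} = 3 := by
  classical
  have : Finite A := Nat.finite_of_card_ne_zero (by simp)
  have := Fintype.ofFinite A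
  have h4 : ∀ x : A, orderOf x = 2 ↔ x ≠ 1 := fun x =>
    ⟨fun h h' => by simp [h'] at h, orderOf_eq_prime (by rw [sq, IsKleinFour.mul_self])⟩
  simp [h4, Fintype.card_subtype_compl]

end Cfsg.Agent.H87
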