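import Cfsg.Agent.H87.CycD
import Cfsg.Agent.H87.Perf

/-! Consequences of the standard form. -/

set_option autoImplicit false
set_option linter.unusedSectionVars false

open MonoidAlgebra Subgroup ComplexConjugate

namespace Cfsg.Agent.H87

open Cfsg Cfsg.Agent.H32 Cfsg.Agent.H86 Cfsg.Agent.H34

variable {M : Ideal AlgInt} [hMm : M.IsMaximal] {G : Type*} [Group G] [Finite G]
  {p : ℕ} {B : Set (IrrCharacter G)} {P : Subgroup G} {e : (Res M)[G]}
  {Γ : Subgroup (MulAut P)} {δ : P → ℂ}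

theorem stabilizesBlock_iff' {H : Subgroup G} {c : Set (IrrCharacter H)} {g : G} (hg : g ∈ No H) :
    (∀ θ ∈ c, ∀ θ' : IrrCharacter H, IsConjCharOf H g (θ : H → ℂ) θ' → θ' ∈ c) ↔
      StabilizesBlock H c g := by
  have h := mem_No_iff_cjS.1 hg
  refine ⟨fun H => ⟨hg, fun χ hχ => ?_⟩, fun H θ hθ θ' h1 => ?_⟩
  · have := (conj_rel_iff g h χ (irrComap (cjEquiv g h).symm χ)).2 (irrComap_irrComap_symm _ _)
    exact ⟨_, H χ hχ _ this, this⟩
  · obtain ⟨χ, h2, h3⟩ := H.2 θ hθ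
    rwa [(irrComap _).injective (((conj_rel_iff g h θ θ').1 h1).trans
      ((conj_rel_iff g h θ χ).1 h3).symm)]

theorem card_iq_of_iff {c : Set (IrrCharacter (Ce P))} (hc : IsPBlock M c)
    (he : Pair p ⊤ P (idm M (Ce P).subtype c)) {T : Subgroup G}
    (hT : ∀ g, g ∈ T ↔ g ∈ No P ∧ ∀ θ ∈ c, ∀ θ' : IrrCharacter (Ce P),
      IsConjCharOf (Ce P) g (θ : Ce P → ℂ) θ' → θ' ∈ c) :
    Nat.card (iq P (idm M (Ce P).subtype c)) = (Ce P).relIndex T := by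
  rw [card_iq he, ← stab_eq_of_iff hc fun g => (hT g).trans
    (and_congr_right fun hg => stabilizesBlock_iff' (No_le_No_Ce P hg))]

/-- The exceptional characters. -/
def exc (ζ : (P →* ℂˣ) → IrrCharacter G) : Set (IrrCharacter G) := {ψ | ∃ l ≠ 1, ζ l = ψ}

/-- The virtual projective character attached to a non-exceptional character. -/
noncomputable def prj (ε : ℤ) (ζ : (P →* ℂˣ) → IrrCharacter G) (s : IrrCharacter G → ℤ)
    (χ : IrrCharacter G) : G → ℂ := s χ • (χ : G → ℂ) + ε • ∑ ψ ∈ fs (exc ζ), (ψ : G → ℂ)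

theorem virt_prj (ε : ℤ) (ζ : (P →* ℂˣ) → IrrCharacter G) (s : IrrCharacter G → ℤ)
    (χ : IrrCharacter G) : IsGeneralizedCharacter G (prj ε ζ s χ) :=
  H53.virt_add (H53.virt_zsmul _ (H53.virt_of_irr χ.2))
    (H53.virt_zsmul _ (H53.virt_sum _ _ fun ψ _ => H53.virt_of_irr ψ.2))

namespace Std
variable {ε : ℤ} {ζ : (P →* ℂˣ) → IrrCharacter G} {X : Finset (IrrCharacter G)}
  {s : IrrCharacter G → ℤ} (h : Std M p B P e Γ δ ε ζ X s)
include h

theorem mem_X {χ : IrrCharacter G} (hχ : χ ∈ X) : χ ∈ B := (h.mem_iff χ).2 (Or.inl hχ)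

theorem mem_exc {χ : IrrCharacter G} (hχ : χ ∈ exc ζ) : χ ∈ B := (h.mem_iff χ).2 (Or.inr hχ)

theorem notMem_X {χ : IrrCharacter G} (hχ : χ ∈ exc ζ) : χ ∉ X := by
  obtain ⟨l, hl, rfl⟩ := hχ
  exact h.notMem l hl

theorem sq_eq : ε * ε = 1 := by rcases h.sign with h1 | h1 <;> simp [h1]

theorem sq_eqX {χ : IrrCharacter G} (hχ : χ ∈ X) : s χ * s χ = 1 := by
  rcases h.signX χ hχ with h1 | h1 <;> simp [h1]

open Classical in
theorem sum_exc [Fintype (P →* ℂˣ)] {A : Type*} [AddCommMonoid A] (F : IrrCharacter G → A) :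
    ∑ l ∈ Finset.univ.erase 1, F (ζ l) = Nat.card Γ • ∑ ψ ∈ fs (exc ζ), F ψ := by
  rw [← Finset.sum_fiberwise_of_maps_to (g := ζ) (t := fs (exc ζ))
    (fun l hl => mem_fs.2 ⟨l, Finset.ne_of_mem_erase hl, rfl⟩), Finset.smul_sum]
  refine Finset.sum_congr rfl fun ψ hψ => ?_
  obtain ⟨m, hm, rfl⟩ := mem_fs.1 hψ
  rw [Finset.sum_congr rfl fun l hl => congrArg F (Finset.mem_filter.1 hl).2, Finset.sum_const,
    ← h.fpf.card_cR hm]
  congr 2
  ext l
  simp only [Finset.mem_filter, Finset.mem_erase, Finset.mem_univ, and_true, true_and]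
  exact ⟨fun h1 => (h.eq_iff m hm l h1.1).1 h1.2.symm, fun h1 =>
    have h2 : l ≠ 1 := fun h2 => hm (h1.eq_one_iff.1 h2)
    ⟨h2, ((h.eq_iff m hm l h2).2 h1).symm⟩⟩

theorem card_exc : Nat.card (exc ζ) * Nat.card Γ + 1 = Nat.card P := by
  classical
  have := Fintype.ofFinite (P →* ℂˣ)
  have h1 := h.sum_exc fun _ => 1
  simp only [Finset.sum_const, smul_eq_mul, mul_one, card_fs] at h1
  rw [mul_comm, ← h1, Finset.card_erase_add_one (Finset.mem_univ _), Finset.card_univ,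
    ← Nat.card_eq_fintype_card, card_lc h.comm]

theorem not_dvd (hP : P ≠ ⊥) : ¬ p ∣ Nat.card Γ := fun h1 => by
  have : Fact p.Prime := ⟨h.ctx.hM.1⟩
  have h2 := h.ctx.pgp.card_eq_or_dvd.resolve_left ((one_lt_card_iff_ne_bot P).2 hP).ne'
  rw [← h.card_exc, Nat.dvd_add_right (h1.mul_left _), Nat.dvd_one] at h2
  exact h.ctx.hM.1.one_lt.ne' h2

theorem height_eq_zero (hP : P ≠ ⊥) {χ : IrrCharacter G} (hχ : χ ∈ B) :
    blockHeight p B (χ : G → ℂ) = 0 := by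
  have := (nontrivial_iff_ne_bot P).2 hP
  obtain ⟨u, hu⟩ := exists_ne (1 : P)
  refine ((h.r1 u hu).not_mem_iff h.ctx u.2 hχ).1 fun h1 => ?_
  have h2 := not_mem_of_norm (M := M) (h.int u) (h.norm u)
  have h3 : ∀ n : ℤ, n * n = 1 → (n : ℂ) ∉ locMax M := fun n hn =>
    not_mem_of_norm (isIntegral_intCast n) (by rw [map_intCast]; exact_mod_cast hn)
  rcases (h.mem_iff χ).1 hχ with h4 | ⟨l, hl, rfl⟩
  · rw [h.valX χ h4 u hu] at h1
    exact mul_not_mem_locMax (mem_locRing_of_isIntegral (h.int u)) (intCast_mem _ _) h2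
      (h3 _ (h.sq_eqX h4)) h1
  · rw [h.valY l hl u hu] at h1
    have h5 := mem_locRing_of_isIntegral (M := M) (H53.virt_isIntegral (virt_orb (Γ := Γ) l) u)
    refine mul_not_mem_locMax (mem_locRing_of_isIntegral (h.int u)) (mul_mem (intCast_mem _ _) h5)
      h2 (mul_not_mem_locMax (intCast_mem _ _) h5 (h3 _ h.sq_eq) fun h6 => ?_) h1
    have h7 := sub_mem h6 (virt_sub_one_mem h.ctx.hM h.ctx.pgp (virt_orb (Γ := Γ) l) u)
    rw [sub_sub_cancel, orb_one] at h7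
    exact h.not_dvd hP ((natCast_mem_locMax_iff h.ctx.hM).1 h7)

theorem D_sum_exc {u : P} (hu : u ≠ 1) :
    D p P e u (∑ ψ ∈ fs (exc ζ), (ψ : G → ℂ)) = -(δ u * ε) := by
  classical
  have := Fintype.ofFinite (P →* ℂˣ)
  have := Fintype.ofFinite Γ
  refine mul_left_cancel₀ (Nat.cast_ne_zero.2 (Nat.card_pos (α := Γ)).ne') ?_
  rw [D, dn_sum, ← nsmul_eq_mul, ← h.sum_exc, Finset.sum_congr rfl fun l hl =>
    h.valY l (Finset.ne_of_mem_erase hl) u hu, ← Finset.mul_sum, ← Finset.mul_sum]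
  simp only [orb_apply]
  rw [Finset.sum_comm, Finset.sum_congr rfl (g := fun _ => -1) fun γ _ => by
    rw [Finset.sum_erase_eq_sub (Finset.mem_univ _), sum_lc_apply h.comm,
      if_neg (by simpa using hu), lc_one_left, zero_sub]]
  simp only [Finset.sum_const, Finset.card_univ, Nat.card_eq_fintype_card, nsmul_eq_mul]
  ring

theorem blockPart_prj {χ : IrrCharacter G} (hχ : χ ∈ X) :
    blockPart B (prj ε ζ s χ) = prj ε ζ s χ := by
  have := Fintype.ofFinite G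
  rw [prj, ← Int.cast_smul_eq_zsmul ℂ, ← Int.cast_smul_eq_zsmul ℂ, H86.blockPart_add,
    H86.blockPart_smul, H86.blockPart_smul, H86.blockPart_sum,
    H86.blockPart_irr_of_mem (h.mem_X hχ), Finset.sum_congr rfl fun ψ hψ =>
      H86.blockPart_irr_of_mem (h.mem_exc (mem_fs.1 hψ))]

theorem prj_eq_zero {χ : IrrCharacter G} (hχ : χ ∈ X) {g : G} (hg : p ∣ orderOf g) :
    prj ε ζ s χ g = 0 := by
  refine h.apply_eq_zero (H53.virt_classFun (virt_prj ε ζ s χ)) (h.blockPart_prj hχ)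
    (fun u hu => ?_) hg
  have h1 := h.D_sum_exc hu
  have h2 := h.valX χ hχ u hu
  rw [D] at h1 h2 ⊢
  rw [prj, ← Int.cast_smul_eq_zsmul ℂ, ← Int.cast_smul_eq_zsmul ℂ, dn_add, dn_smul, dn_smul, h1, h2]
  have h3 : (s χ : ℂ) * s χ = 1 := by exact_mod_cast h.sq_eqX hχ
  have h4 : (ε : ℂ) * ε = 1 := by exact_mod_cast h.sq_eq
  linear_combination δ u * h3 - δ u * h4

theorem reg_eq {ψ ψ' : IrrCharacter G} (h1 : ψ ∈ exc ζ) (h2 : ψ' ∈ exc ζ) {g : G}
    (hg : ¬ p ∣ orderOf g) : (ψ : G → ℂ) g = (ψ' : G → ℂ) g := by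
  obtain ⟨l, hl, rfl⟩ := h1
  obtain ⟨m, hm, rfl⟩ := h2
  have h4 : (ε : ℂ) * ε = 1 := by exact_mod_cast h.sq_eq
  exact mul_left_cancel₀ (left_ne_zero_of_mul_eq_one h4) ((h.reg l hl g hg).symm.trans (h.reg m hm g hg))

theorem dvd_degree {χ ψ : IrrCharacter G} (hχ : χ ∈ X) (hψ : ψ ∈ exc ζ) : (Nat.card P : ℤ) ∣
    s χ * charDegree (χ : G → ℂ) + ε * (Nat.card (exc ζ) * charDegree (ψ : G → ℂ)) := by
  have : Fact p.Prime := ⟨h.ctx.hM.1⟩
  have := Fintype.ofFinite G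
  obtain ⟨k, hk⟩ := pa_dvd_of_virt_of_vanish h.ctx.hM.1 (virt_prj ε ζ s χ)
    fun g hg => h.prj_eq_zero hχ hg
  obtain ⟨a, ha⟩ := h.ctx.pgp.exists_card_eq
  have h1 : Nat.card P ∣ p ^ (Nat.card G).factorization p := ha ▸ pow_dvd_pow p
    ((h.ctx.hM.1.pow_dvd_iff_le_factorization Nat.card_pos.ne').1 (ha ▸ P.card_subgroup_dvd_card))
  refine (Int.natCast_dvd_natCast.2 h1).trans ⟨k, ?_⟩
  rw [prj, Pi.add_apply, Pi.smul_apply, Pi.smul_apply, Finset.sum_apply, zsmul_eq_mul, zsmul_eq_mul,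
    Finset.sum_congr rfl fun ψ' h2 => h.reg_eq (mem_fs.1 h2) hψ (g := 1)
    (by simpa using h.ctx.hM.1.one_lt.ne'), Finset.sum_const, card_fs, nsmul_eq_mul,
    ← H33.charDegree_cast (H5.isCharacter_of_isIrr χ.2),
    ← H33.charDegree_cast (H5.isCharacter_of_isIrr ψ.2)] at hk
  exact_mod_cast hk

end Std

end Cfsg.Agent.H87
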