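import Cfsg.Agent.H87.Cen
import Cfsg.Agent.H87.CycS
import Cfsg.Agent.H33.Major

/-! Bounds for `k(B)` through major subsections. -/

set_option autoImplicit false
set_option linter.unusedSectionVars false

open MonoidAlgebra Subgroup ComplexConjugate

namespace Cfsg.Agent.H87

open Cfsg Cfsg.Agent.H32 Cfsg.Agent.H86 Cfsg.Agent.H34

variable {M : Ideal AlgInt} [hMm : M.IsMaximal] {G : Type*} [Group G] [Finite G]
  {p : ℕ} {B : Set (IrrCharacter G)} {P : Subgroup G} {e : (Res M)[G]}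

section std

variable {Γ : Subgroup (MulAut P)} {δ : P → ℂ} {ε : ℤ} {ζ : (P →* ℂˣ) → IrrCharacter G}
  {X : Finset (IrrCharacter G)} {s : IrrCharacter G → ℤ} [Fintype G]

theorem ci_prj (F : G → ℂ) (χ : IrrCharacter G) : classInner F (prj ε ζ s χ) =
    s χ * classInner F χ + ε * ∑ ψ ∈ fs (exc ζ), classInner F ψ := by
  rw [prj, H5.classInner_add_right, H5.classInner_zsmul_right, H5.classInner_zsmul_right,
    H5.classInner_sum_right]

open Classical in
theorem Std.ci_prj_prj (h : Std M p B P e Γ δ ε ζ X s) {χ ψ : IrrCharacter G} (hχ : χ ∈ X)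
    (hψ : ψ ∈ X) : classInner (prj ε ζ s χ) (prj ε ζ s ψ) =
      (if χ = ψ then 1 else 0) + Nat.card (exc ζ) := by
  have h1 : ∀ θ : IrrCharacter G, classInner (prj ε ζ s χ) θ =
      (if χ = θ then s χ else 0) + if θ ∈ exc ζ then ε else 0 := fun θ => by
    rw [prj, H5.classInner_add_left, H5.classInner_zsmul_left, H5.classInner_zsmul_left,
      H5.classInner_sum_left]
    simp [H5.classInner_irrCharacter, mem_fs]
  have h3 : (s χ : ℂ) * s χ = 1 := by exact_mod_cast h.sq_eqX hχ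
  have h4 : (ε : ℂ) * ε = 1 := by exact_mod_cast h.sq_eq
  rw [ci_prj, h1, if_neg fun h2 => h.notMem_X h2 hψ, Finset.sum_congr rfl (g := fun _ => (ε : ℂ))
    fun θ hθ => by
      rw [h1, if_neg fun h2 : χ = θ => h.notMem_X (mem_fs.1 hθ) (h2 ▸ hχ), if_pos (mem_fs.1 hθ)]
      simp, Finset.sum_const, card_fs, nsmul_eq_mul, mul_left_comm, h4]
  split_ifs with h5
  · subst h5; simp [h3]
  · simp

theorem Std.eq_zero_of_ci_prj (h : Std M p B P e Γ δ ε ζ X s) {F : G → ℂ}
    (h1 : pRegularPart p F = F) (h2 : blockPart B F = F)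
    (h3 : ∀ χ ∈ X, classInner F (prj ε ζ s χ) = 0) : F = 0 := by
  have h4 : (ε : ℂ) * ε = 1 := by exact_mod_cast h.sq_eq
  have h5 : ∀ ψ ∈ exc ζ, ε * classInner F ψ = ∑ χ ∈ X, s χ * classInner F χ := by
    rintro _ ⟨l, hl, rfl⟩
    have : pRegularPart p (ε • (ζ l : G → ℂ)) = pRegularPart p (∑ χ ∈ X, s χ • (χ : G → ℂ)) :=
      reg_congr fun g hg => by simpa using (h.reg l hl g hg).symm
    rw [← H5.classInner_zsmul_right, ← h1, classInner_reg, this, ← classInner_reg, h1,
      H5.classInner_sum_right]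
    simp only [H5.classInner_zsmul_right]
  simp only [ci_prj, Finset.mul_sum] at h3
  simp only [Finset.sum_congr rfl fun ψ hψ => h5 ψ (mem_fs.1 hψ), Finset.sum_const,
    nsmul_eq_mul] at h3
  have h6 := Finset.sum_eq_zero h3
  rw [Finset.sum_add_distrib, Finset.sum_const, nsmul_eq_mul, ← mul_assoc, ← one_add_mul,
    mul_eq_zero_iff_left (by norm_cast; omega)] at h6
  rw [← h2, blockPart_eq]
  refine Finset.sum_eq_zero fun χ hχ => smul_eq_zero_of_left ?_ _
  rcases (h.mem_iff χ).1 (mem_fs.1 hχ) with h7 | h7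
  · have := h3 χ h7
    rw [h6, mul_zero, add_zero] at this
    exact (mul_eq_zero.1 this).resolve_left
      (Int.cast_ne_zero.2 (left_ne_zero_of_mul_eq_one (h.sq_eqX h7)))
  · exact (mul_eq_zero.1 ((h5 χ h7).trans h6)).resolve_left (left_ne_zero_of_mul_eq_one h4)

end std

theorem two_mul_le_card_ne {ι A : Type*} [DecidableEq A] (Y : Finset ι) (a : ι → A) {i j : ι}
    (hi : i ∈ Y) (hj : j ∈ Y) (h : a i ≠ a j) :
    2 * (Y.card - 1) ≤ ((Y ×ˢ Y).filter fun x => a x.1 ≠ a x.2).card := by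
  classical
  set S := Y.filter fun k => a k = a i
  set T := Y.filter fun k => ¬ a k = a i
  have h1 : S.card + T.card = Y.card := Finset.card_filter_add_card_filter_not _
  have h2 : 0 < S.card := Finset.card_pos.2 ⟨i, Finset.mem_filter.2 ⟨hi, rfl⟩⟩
  have h3 : 0 < T.card := Finset.card_pos.2 ⟨j, Finset.mem_filter.2 ⟨hj, h.symm⟩⟩
  have h4 : Disjoint (S ×ˢ T) (T ×ˢ S) := Finset.disjoint_left.2 fun x h5 h6 =>
    (Finset.mem_filter.1 (Finset.mem_product.1 h6).1).2
      (Finset.mem_filter.1 (Finset.mem_product.1 h5).1).2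
  refine le_trans ?_ (Finset.card_le_card (s := S ×ˢ T ∪ T ×ˢ S) fun x hx => ?_)
  · rw [Finset.card_union_of_disjoint h4, Finset.card_product, Finset.card_product, ← h1]
    obtain ⟨m, hm⟩ := Nat.exists_eq_add_of_le' h2
    obtain ⟨n, hn⟩ := Nat.exists_eq_add_of_le' h3
    rw [hm, hn, show m + 1 + (n + 1) - 1 = m + n + 1 by omega]
    nlinarith [Nat.zero_le (m * n)]
  · simp only [Finset.mem_union, Finset.mem_product, Finset.mem_filter, S, T] at hx ⊢
    rcases hx with ⟨⟨a1, a2⟩, a3, a4⟩ | ⟨⟨a1, a2⟩, a3, a4⟩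
    · exact ⟨⟨a1, a3⟩, fun h5 => a4 (h5.symm.trans a2)⟩
    · exact ⟨⟨a1, a3⟩, fun h5 => a2 (h5.trans a4)⟩

section major

variable [Fintype G] {C : Subgroup G} [Fintype C] {u : G} {b : Set (IrrCharacter C)}
  (hM : IsPModular p M) (hC : IsCent C u) (hu : ∃ k, orderOf u = p ^ k)
  (hind : IsInducedBlock M C b B) (hd : blockDefect p b = blockDefect p B)
include hM hC hu hind hd

open Classical in
/-- Külshammer–Wada for the form `A_e` and Gram matrix `N (δ + m)`. -/
theorem card_le_of_gram {ι : Type*} {X : Finset ι} (hX : X.Nonempty) (Φ : ι → C → ℂ)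
    (hΦ : ∀ i ∈ X, IsGeneralizedCharacter C (Φ i)) (h1 : ∀ i ∈ X, pRegularPart p (Φ i) = Φ i)
    (h2 : ∀ i ∈ X, blockPart b (Φ i) = Φ i) {N m : ℕ}
    (h3 : ∀ i ∈ X, ∀ j ∈ X, classInner (Φ i) (Φ j) = N * ((if i = j then 1 else 0) + m))
    (h4 : ∀ F, pRegularPart p F = F → blockPart b F = F → (∀ i ∈ X, classInner F (Φ i) = 0) →
      F = 0) : Nat.card B ≤ N * (X.card + m) := by
  let v : Option ι → C → ℂ := fun i => i.elim 0 Φ
  have hv : ∀ {T : (C → ℂ) → Prop}, T 0 → (∀ i ∈ X, T (Φ i)) → ∀ i ∈ X.insertNone, T (v i) :=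
    fun a1 a2 i hi => by
      cases i with
      | none => exact a1
      | some i => exact a2 i (Finset.some_mem_insertNone.1 hi)
  have h5 := mul_card_le_sum hM hC hu hind (X.insertNone ×ˢ X.insertNone) (fun x => v x.1 - v x.2)
    (fun x hx => H53.virt_sub (hv H53.virt_zero hΦ _ (Finset.mem_product.1 hx).1)
      (hv H53.virt_zero hΦ _ (Finset.mem_product.1 hx).2))
    (fun x hx => by
      rw [reg_sub, hv (T := fun F => pRegularPart p F = F) reg_zero h1 _ (Finset.mem_product.1 hx).1,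
        hv (T := fun F => pRegularPart p F = F) reg_zero h1 _ (Finset.mem_product.1 hx).2])
    (fun x hx => by
      rw [H86.blockPart_sub, hv (T := fun F => blockPart b F = F) (H86.blockPart_zero _) h2 _
        (Finset.mem_product.1 hx).1, hv (T := fun F => blockPart b F = F) (H86.blockPart_zero _) h2 _
        (Finset.mem_product.1 hx).2])
    (m := 2 * X.card) (T := fs B) subset_rfl fun χ hχ => by
      obtain ⟨i, hi, h6⟩ : ∃ i ∈ X, classInner (gen p C u b χ) (Φ i) ≠ 0 := by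
        by_contra! h6
        exact gen_ne_zero_of_major hM hC hu hind hd (mem_fs.1 hχ)
          (h4 _ (reg_gen hM hind.1 _) (blockPart_gen _ _) h6)
      rw [gen, H86.classInner_blockPart, h2 i hi, classInner_reg, h1 i hi] at h6
      have h7 := two_mul_le_card_ne X.insertNone (fun i => classInner (shift C u χ) (v i))
        (Finset.some_mem_insertNone.2 hi) Finset.none_mem_insertNone
        (by simpa [v, H5.classInner_zero_right] using h6)
      rw [Finset.card_insertNone, Nat.add_sub_cancel] at h7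
      exact ⟨_, Finset.filter_subset _ _, h7, fun x hx => by
        rw [H5.classInner_sub_right, sub_ne_zero]; exact (Finset.mem_filter.1 hx).2⟩
  have h6 : ∀ i ∈ X, ∑ j ∈ X, classInner (Φ i) (Φ j) = N * (1 + X.card * m) := fun i hi => by
    rw [Finset.sum_congr rfl (h3 i hi), ← Finset.mul_sum, Finset.sum_add_distrib]
    simp [hi]
  have h7 : ∑ i ∈ X, classInner (Φ i) (Φ i) = X.card * (N * (1 + m)) := by
    rw [Finset.sum_congr rfl fun i hi => h3 i hi i hi]; simp
  have h8 : ∑ x ∈ X.insertNone ×ˢ X.insertNone, classInner (v x.1 - v x.2) (v x.1 - v x.2) =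
      ((2 * X.card * (N * (X.card + m)) : ℕ) : ℂ) := by
    simp only [H5.classInner_sub_left, H5.classInner_sub_right, Finset.sum_product,
      Finset.sum_sub_distrib, Finset.sum_insertNone, v, Option.elim, H5.classInner_zero_left,
      H5.classInner_zero_right, Finset.sum_add_distrib, Finset.sum_const, h7, nsmul_eq_mul,
      ← Finset.mul_sum]
    rw [Finset.sum_comm (s := X) (t := X) (f := fun i j => classInner (Φ j) (Φ i)),
      Finset.sum_congr rfl h6, Finset.sum_const, nsmul_eq_mul, Finset.card_insertNone]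
    push_cast
    ring
  rw [← Complex.re_sum, h8, Complex.natCast_re, card_fs] at h5
  exact Nat.le_of_mul_le_mul_left (by exact_mod_cast h5) (Nat.mul_pos two_pos hX.card_pos)

theorem card_le_pow_mul_rank : Nat.card B ≤ p ^ blockDefect p B * blockRank p b := by
  obtain ⟨n, hn⟩ := hu
  have hφ : (0 : ℝ) < (p ^ n).totient := by
    exact_mod_cast Nat.totient_pos.2 (pow_pos hM.1.pos n)
  have h1 := Finset.card_nsmul_le_sum (fs B) _ _ fun χ hχ => (le_mul_of_one_le_right hφ.le
    (one_le_pow₀ (by exact_mod_cast hM.1.pos))).trans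
      (H33.totient_mul_le_sum_con hM hn.dvd hC hind hd (mem_fs.1 hχ))
  rw [← Finset.mul_sum, Finset.sum_comm, Finset.sum_congr rfl (g := fun _ => (blockRank p b : ℝ))
    fun k hk => by
      rw [← Complex.re_sum, sum_con_self hM (hC.pow (hn ▸ coprime_of_mem_cop hk))
        (pElt_pow_coprime hn (coprime_of_mem_cop hk)) hind, Complex.natCast_re],
    Finset.sum_const, card_cop, card_fs, nsmul_eq_mul, nsmul_eq_mul, mul_left_comm, mul_comm,
    mul_le_mul_iff_right₀ hφ] at h1
  exact_mod_cast h1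

omit hd in
theorem card_sq_le (h0 : ∀ χ ∈ B, blockHeight p B (χ : G → ℂ) = 0) :
    Nat.card B ^ 2 ≤ p ^ (2 * blockDefect p b) * blockRank p b := by
  obtain ⟨n, hn⟩ := hu
  obtain ⟨ω, hω⟩ := exists_primitiveRoot hM.1 n
  have hφ : (0 : ℝ) < (p ^ n).totient := by
    exact_mod_cast Nat.totient_pos.2 (pow_pos hM.1.pos n)
  have H := hermFam_con hM hC hn hω hind
  set Y : IrrCharacter G → IrrCharacter G → ℕ → ℂ :=
    fun χ ψ k => (p : ℂ) ^ blockDefect p b * con p C (u ^ k) b χ ψ with hY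
  have h1 := Finset.card_nsmul_le_sum (fs B) _ _ fun χ hχ => H.row_le hM hω hχ subset_rfl
    (fun _ => 0) (fun ψ _ => by
      rw [pow_zero, div_one, hY]
      exact mem_locRing_of_isIntegral (pow_mul_con_isIntegral hM (by rwa [pow_one]) hind.1
        (H53.virt_of_irr χ.2) (H53.virt_of_irr ψ.2)))
    (fun ψ hψ => ne_zero_of_not_mem_locMax (M := M) (by
      simp only [hY]
      rw [pow_one, pow_mul_con_mem_iff hM hC ⟨n, hn⟩ hind (mem_fs.1 hχ) (mem_fs.1 hψ),
        h0 χ (mem_fs.1 hχ), h0 ψ (mem_fs.1 hψ)]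
      simp))
    (a := (∑ k ∈ cop (p ^ n), ‖Y χ χ k‖) / (p ^ n).totient) (by
      rw [← Complex.ofReal_natCast, ← Complex.ofReal_mul, mul_div_cancel₀ _ hφ.ne',
        Complex.ofReal_sum]
      exact Finset.sum_congr rfl fun k hk => H.diag_eq_norm hM.1 hχ (coprime_of_mem_cop hk))
  have h2 : ∀ k ∈ cop (p ^ n), ∑ χ ∈ fs B, ‖Y χ χ k‖ = p ^ blockDefect p b * blockRank p b :=
    fun k hk => Complex.ofReal_injective (by
      rw [Complex.ofReal_sum, ← Finset.sum_congr rfl fun χ hχ =>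
        H.diag_eq_norm hM.1 hχ (coprime_of_mem_cop hk),
        sum_pow_mul_con_self hM hC hn hind k (coprime_of_mem_cop hk)]
      simp)
  rw [← Finset.mul_sum, ← Finset.sum_div, Finset.sum_comm, Finset.sum_congr rfl h2] at h1
  simp only [pow_zero, one_pow, Finset.sum_const, nsmul_eq_mul, mul_one, card_cop, card_fs,
    mul_div_cancel_left₀ _ hφ.ne'] at h1
  rw [two_mul, pow_add, mul_assoc, sq]
  exact_mod_cast h1

end major

theorem add_le_of_mul_add_one {a b c : ℕ} (ha : 0 < a) (h : b * a + 1 = c) (hc : c ≠ 1) :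
    a + b ≤ c := by
  rcases b with _ | b
  · omega
  · obtain ⟨a, rfl⟩ := Nat.exists_eq_add_of_le' ha
    nlinarith [Nat.zero_le (a * b)]

/-- The data of a major subsection and of the dominated block. -/
theorem exists_major (h : Ctx M p B P e) {u : G} (hu : u ∈ P) (hc : u ∈ Ce P) :
    ∃ (C : Subgroup G) (hC : IsCent C u) (b : Set (IrrCharacter C)) (Z : Subgroup C) (_ : Z.Normal),
      IsInducedBlock M C b B ∧ blockDefect p b = blockDefect p B ∧ CZ p Z ∧ P ≤ C ∧
      Z = zpowers hC.elt ∧ Nat.card Z = orderOf u ∧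
      IsDefectGroup p M (dom Z b) ((P.subgroupOf C).map (QuotientGroup.mk' Z)) ∧
      Nat.card ((P.subgroupOf C).map (QuotientGroup.mk' Z)) * orderOf u = Nat.card P := by
  have : Fact p.Prime := ⟨h.hM.1⟩
  have := res_charP h.hM
  have hC := isCent_zpowers u
  have h1 : P ≤ Ce (zpowers u) := le_Ce_comm.1 (zpowers_le_of_mem hc)
  obtain ⟨h2, h3⟩ := h.blk_spec hu
  have h4 := (h.hm.isDef_inf_iff le_rfl top_le_No_top (blk_eB h.hB) h3 inf_le_right le_top
    (Ce_le_No _) ((emb_subtype _).blk_idm h2).inv).2 fun x _ _ => by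
      rw [inf_eq_left.2 h1]; exact card_le_of_le inf_le_left
  rw [inf_eq_left.2 h1, ← isDefectGroup_subgroupOf_iff h.hM h1 h2] at h4
  have h5 : zpowers hC.elt ≤ center _ := zpowers_le_of_mem hC.elt_mem_center
  have h6 : Nat.card (zpowers hC.elt) = orderOf u := by
    rw [Nat.card_zpowers, ← Subgroup.orderOf_coe, hC.coe_elt]
  have h7 := Nat.card_congr (subgroupOfEquivOfLe h1).toEquiv
  have : (zpowers hC.elt).Normal := ⟨fun z hz g => by
    rwa [mem_center_iff.1 (h5 hz) g, mul_inv_cancel_right]⟩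
  obtain ⟨n, hn⟩ := h.pElt hu
  have h8 : CZ p (zpowers hC.elt) := ⟨h.hM.1, IsPGroup.of_card (h6.trans hn), h5⟩
  refine ⟨_, hC, _, _, this, h.induced hu, Nat.pow_right_injective h.hM.1.two_le ?_, h8, h1, rfl, h6,
    (h8.isPBlock_dom h.hM h2).2 _ h4, ?_⟩
  · exact (H32.card_defectGroup h.hM h2 h4).symm.trans
      (h7.trans (H32.card_defectGroup h.hM h.hB h.isDefectGroup))
  · rw [← h6, h8.card_map_mul (zpowers_le_of_mem (by exact hu)), h7]

/-- **Brauer**: `k(B) ≤ |P|` if `P / ⟨u⟩` is cyclic for a central element `u`. -/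
theorem card_le_of_quot_cyclic (h : Ctx M p B P e) {u v : G} (hu : u ∈ P) (hc : u ∈ Ce P)
    (hv : v ∈ P) (huv : ∀ g ∈ P, ∃ i j : ℤ, g = u ^ i * v ^ j) : Nat.card B ≤ Nat.card P := by
  have : Fact p.Prime := ⟨h.hM.1⟩
  have hM := h.hM
  obtain ⟨C, hC, b, Z, _, h1, h2, h3, h4, hZ, h5, h6, h7⟩ := exists_major h hu hc
  have := Fintype.ofFinite G
  have := Fintype.ofFinite C
  have := Fintype.ofFinite (C ⧸ Z)
  have hb := (h3.isPBlock_dom hM h1.1).1
  set Q := (P.subgroupOf C).map (QuotientGroup.mk' Z)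
  by_cases hQ : Q = ⊥
  · rw [H32.card_defectGroup hM h.hB h.isDefectGroup]
    refine card_le_of_rank_le_two hM hC (h.pElt hu) h1 h2 ?_
    have h8 := H32.card_defectGroup hM hb h6
    rw [hQ, card_bot, eq_comm, Nat.pow_eq_one, or_iff_right hM.1.ne_one] at h8
    rw [← h3.rank_dom hM h1.1]
    exact (blockRank_le_card _).trans ((card_eq_one_of_defect_zero hM hb h8).trans_le one_le_two)
  have : IsCyclic Q := by
    refine (Subgroup.isCyclic_iff_exists_zpowers_eq_top Q).2 ⟨(⟨v, h4 hv⟩ : C), le_antisymm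
      (zpowers_le_of_mem ⟨_, hv, rfl⟩) ?_⟩
    rintro _ ⟨g, hg, rfl⟩
    obtain ⟨i, j, h8⟩ := huv g hg
    rw [show g = hC.elt ^ i * ⟨v, h4 hv⟩ ^ j from Subtype.ext h8, map_mul,
      QuotientGroup.mk'_apply, (QuotientGroup.eq_one_iff (hC.elt ^ i)).2 (hZ ▸ zpow_mem_zpowers _ i),
      one_mul, map_zpow]
    exact zpow_mem_zpowers _ j
  obtain ⟨e', h'⟩ := exists_ctx hM hb h6
  obtain ⟨δ, ε, ζ, X, s, hs⟩ := exists_std_of_cyclic h' hQ
  have h8 : 0 < X.card := hs.card ▸ Nat.card_pos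
  have h9 : (Nat.card Z : ℂ) ≠ 0 := Nat.cast_ne_zero.2 Nat.card_pos.ne'
  have h10 : ∀ χ ∈ X, pRegularPart p (prj ε ζ s χ) = prj ε ζ s χ := fun χ hχ =>
    reg_eq_self fun _ => hs.prj_eq_zero hχ
  refine (card_le_of_gram hM hC (h.pElt hu) h1 h2 (Finset.card_pos.1 h8)
    (fun χ => (Nat.card Z : ℂ) • lif p (prj ε ζ s χ))
    (fun χ hχ => h3.virt_lif hM (virt_prj ε ζ s χ) fun _ => hs.prj_eq_zero hχ)
    (fun χ _ => by rw [reg_smul, reg_lif]) (fun χ hχ => by
      rw [H86.blockPart_smul, blockPart_lif hM h1.1 (H53.virt_classFun (virt_prj ε ζ s χ)),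
        hs.blockPart_prj hχ]) (N := Nat.card Z) (m := Nat.card (exc ζ)) (fun χ hχ ψ hψ => by
      rw [H5.classInner_smul_left, H5.classInner_smul_right, map_natCast, h3.ci_lif, h10 χ hχ,
        hs.ci_prj_prj hχ hψ]
      congr!) fun F a1 a2 a3 => ?_).trans ?_
  · have a4 := h3.isClassFunction_dsc (a2 ▸ H86.isClassFunction_blockPart b F)
    have a5 : lif p (blockPart (dom Z b) (pRegularPart p (dsc p Z F))) = F := by
      rw [← blockPart_lif hM h1.1 (isClassFunction_reg a4), lif_reg, h3.lif_dsc, a1, a2]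
    rw [← a5, hs.eq_zero_of_ci_prj (F := blockPart (dom Z b) (pRegularPart p (dsc p Z F)))
      (by rw [blockPart_reg hM hb, reg_reg]) (H86.blockPart_blockPart _ _) fun χ hχ => ?_]
    · exact reg_zero
    · have a6 := a3 χ hχ
      rwa [H5.classInner_smul_right, map_natCast, ← a5, h3.ci_lif, blockPart_reg hM hb, reg_reg,
        ← blockPart_reg hM hb] at a6
  · rw [← h7, h5, mul_comm, hs.card]
    exact Nat.mul_le_mul_right _ (add_le_of_mul_add_one Nat.card_pos hs.card_exc
      fun a => hQ (card_eq_one.1 a))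

end Cfsg.Agent.H87
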