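import Cfsg.Agent.H87.QbA
import Cfsg.Agent.H87.QbC
import Cfsg.Agent.H51.ElemRep
import Cfsg.Agent.H54.FT

/-!
`q`-Baer groups: solvability of `G / O_{q'}(G)`.
-/

set_option autoImplicit false

namespace Cfsg.Agent.H87.Qb

open Cfsg Subgroup H83 H34 Matrix

universe u

variable {q : ℕ} [hq : Fact q.Prime]

theorem ker_conj {G : Type*} [Group G] (V : Subgroup G) [V.Normal] :
    (MulAut.conjNormal : G →* MulAut V).ker = centralizer (V : Set G) := by
  ext g
  rw [MonoidHom.mem_ker, MulEquiv.ext_iff, mem_centralizer_iff]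
  exact ⟨fun h v hv => (mul_inv_eq_iff_eq_mul.mp (congrArg Subtype.val (h ⟨v, hv⟩))).symm,
    fun h v => Subtype.ext (mul_inv_eq_iff_eq_mul.mpr (h v v.2).symm)⟩

theorem min_case {G : Type*} [Group G] [Finite G] (hq2 : q ≠ 2) (V : Subgroup G) [V.Normal]
    (hc : V ≤ centralizer (V : Set G)) (hp : ∀ a ∈ V, a ^ q = 1)
    (hi : ¬ q ∣ (centralizer (V : Set G)).index)
    (hper : commutator G ⊔ centralizer (V : Set G) = ⊤) (hcs : ∀ v ∈ V, ∃ k, cs(v) = 2 ^ k)
    (hmin : ∀ W : Subgroup G, W.Normal → W ≤ V → W = ⊥ ∨ W = V) :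
    centralizer (V : Set G) = ⊤ := by
  obtain ⟨n, e, ρ, -, he, hρ, hρe⟩ := H51.exists_matrix_rep V q
    (fun a b => Subtype.ext (hc b.2 a a.2)) fun a => Subtype.ext (hp a a.2)
  set φ : G →* MulAut V := MulAut.conjNormal with hφ
  have hs := φ.rangeRestrict_surjective
  have e1 : e 1 = 0 := by simpa using he 1 1
  have h : LH (ρ.comp φ.range.subtype) :=
    { inj := hρ.comp Subtype.val_injective
      q2 := hq2
      nd := by rwa [← index_ker, ker_conj]
      per := by
        have := congrArg (Subgroup.map φ.rangeRestrict) hper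
        rwa [Subgroup.map_sup, map_top_of_surjective _ hs, _root_.commutator_def, map_commutator,
          map_top_of_surjective _ hs, (Subgroup.map_eq_bot_iff (centralizer (V : Set G))).mpr (by
            rw [MonoidHom.ker_rangeRestrict, ker_conj]), sup_bot_eq] at this
      irr := fun W hW => by
        let W' : Subgroup V :=
          { carrier := {v | e v ∈ W}
            one_mem' := by change e 1 ∈ W; rw [e1]; exact W.zero_mem
            mul_mem' := fun {a b} ha hb => by change e _ ∈ W; rw [he]; exact W.add_mem ha hb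
            inv_mem' := fun {a} ha => by
              change e _ ∈ W
              rw [eq_neg_of_add_eq_zero_left ((he a⁻¹ a).symm.trans (by rw [inv_mul_cancel, e1]))]
              exact W.neg_mem ha }
        rcases hmin (W'.map V.subtype) ⟨by
          rintro _ ⟨v, hv, rfl⟩ g
          exact ⟨φ g v, show e (φ g v) ∈ W from hρe (φ g) v ▸ hW ⟨φ g, g, rfl⟩ _ hv, rfl⟩⟩ (map_subtype_le _)
          with h | h
        · refine Or.inl (eq_bot_iff.mpr fun w hw => ?_)
          obtain ⟨v, rfl⟩ := e.surjective w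
          have : (v : G) ∈ (⊥ : Subgroup G) := h ▸ ⟨v, hw, rfl⟩
          rw [show v = 1 from Subtype.ext this, e1]
          exact AddSubgroup.zero_mem _
        · refine Or.inr (top_le_iff.mp fun w _ => ?_)
          obtain ⟨v, rfl⟩ := e.surjective w
          obtain ⟨u, hu, e'⟩ := h.ge v.2
          rwa [← show u = v from Subtype.ext e']
      idx := fun w => by
        obtain ⟨v, rfl⟩ := e.surjective w
        obtain ⟨k, hk⟩ := hcs v v.2
        refine ⟨k, ?_⟩
        rw [← index_comap_of_surjective _ hs, ← hk]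
        congr 1
        ext g
        change ρ (φ g) *ᵥ e v = e v ↔ _
        rw [← hρe, e.injective.eq_iff, mem_cent', Subtype.ext_iff]
        rfl }
  have := h.trivial
  rw [← ker_conj, ← MonoidHom.ker_rangeRestrict]
  exact top_le_iff.mp fun g _ => Subsingleton.elim _ _

theorem two_cent (hq2 : q ≠ 2) (m : ℕ) : ∀ (G : Type u) [Group G] [Finite G] (V : Subgroup G)
    [V.Normal], Nat.card V = m → V ≤ centralizer (V : Set G) → IsPGroup q V →
    ¬ q ∣ (centralizer (V : Set G)).index → commutator G ⊔ centralizer (V : Set G) = ⊤ →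
    (∀ v ∈ V, ∃ k, cs(v) = 2 ^ k) → centralizer (V : Set G) = ⊤ := by
  induction m using Nat.strong_induction_on with
  | _ m ih =>
  intro G _ _ V hV hm hc hp hi hper hcs
  by_cases hmin : ∀ W : Subgroup G, W.Normal → W ≤ V → W = ⊥ ∨ W = V
  · by_cases h0 : V = ⊥
    · subst h0
      exact top_le_iff.mp fun g _ v hv => by rw [mem_bot.mp hv]; simp
    obtain ⟨w, hw, -, hw1⟩ := Gz.exists_Z0 hp le_rfl h0 fun y _ a ha => hV.conj_mem a ha y
    have h1 := (hmin (Gz.Z0 q V) ⟨fun a ha g => Gz.Z0_conj (by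
      rw [normalizer_eq_top]; trivial) ha⟩ Gz.Z0_le).resolve_left fun e => hw1 (mem_bot.mp (e ▸ hw))
    exact min_case hq2 V hc (fun a ha => (h1.ge ha).2.2) hi hper hcs hmin
  push Not at hmin
  obtain ⟨W, hW, hle, hW0, hWV⟩ := hmin
  have hCW : centralizer (V : Set G) ≤ centralizer (W : Set G) := centralizer_le hle
  have h1 := ih _ (hm ▸ lt_of_le_of_ne (card_le_of_le hle) fun e => hWV
    (eq_of_le_of_card_ge hle e.ge)) G W rfl (hle.trans (hc.trans hCW)) (hp.to_le hle)
    (fun e => hi (e.trans (index_dvd_of_le hCW)))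
    (top_le_iff.mp (hper ▸ sup_le_sup_left hCW _)) fun v hv => hcs v (hle hv)
  set π := QuotientGroup.mk' W
  have hπ := QuotientGroup.mk'_surjective W
  have := hV.map π hπ
  have hCV : (centralizer (V : Set G)).map π ≤ centralizer ((V.map π : Subgroup _) : Set _) := by
    rintro _ ⟨g, hg, rfl⟩ _ ⟨v, hv, rfl⟩
    rw [← map_mul, hg v hv, map_mul]
  have h2 := ih _ (by
      have a1 := (W.subgroupOf V).card_mul_index
      have a2 : 1 < Nat.card (W.subgroupOf V) := by
        rw [Nat.card_congr (subgroupOfEquivOfLe hle).toEquiv]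
        exact (one_lt_card_iff_ne_bot W).mpr hW0
      have a3 : Nat.card (V.map π) = (W.subgroupOf V).index := by
        rw [← relIndex_ker, QuotientGroup.ker_mk', relIndex]
      have a4 := Nat.pos_of_ne_zero (index_ne_zero_of_finite (H := W.subgroupOf V))
      rw [← hm, a3, ← a1]
      nlinarith) (G ⧸ W) (V.map π) rfl ((map_mono hc).trans hCV) (hp.map π)
    (fun e => hi (e.trans ((index_dvd_of_le hCV).trans (index_map_dvd _ hπ))))
    (top_le_iff.mp (by
      rw [← map_top_of_surjective π hπ, ← hper, Subgroup.map_sup, _root_.commutator_def,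
        map_commutator]
      exact sup_le_sup (commutator_mono le_top le_top) hCV)) (by
      rintro _ ⟨v, hv, rfl⟩
      obtain ⟨k, hk⟩ := hcs v hv
      obtain ⟨j, -, hj⟩ := (Nat.dvd_prime_pow Nat.prime_two).mp (hk ▸ cs_map_dvd π hπ v)
      exact ⟨j, hj⟩)
  obtain ⟨k, hk⟩ := hp.exists_card_eq
  refine top_le_iff.mp fun g _ => ?_
  have h3 : g ^ q ^ k ∈ centralizer (V : Set G) := fun v hv => by
    have a1 : v⁻¹ * (g * v * g⁻¹) ∈ W := QuotientGroup.eq.mp (by
      have := (h2 ▸ mem_top (π g) : π g ∈ centralizer ((V.map π : Subgroup _) : Set _))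
        _ ⟨v, hv, rfl⟩
      change π v = π g * π v * (π g)⁻¹
      rw [← this, mul_inv_cancel_right])
    set d := v⁻¹ * (g * v * g⁻¹) with hd
    have a2 : ∀ x, d * x = x * d := fun x => (h1 ▸ mem_top x : x ∈ centralizer (W : Set G)) d a1
    have a3 : ∀ j : ℕ, g ^ j * v = v * d ^ j * g ^ j := fun j => by
      induction j with
      | zero => simp
      | succ j ih =>
        calc _ = g ^ j * v * d * g := by rw [hd]; group
          _ = v * d ^ j * (g ^ j * d) * g := by rw [ih]; group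
          _ = _ := by rw [← a2]; group
    have a4 : d ^ q ^ k = 1 := congrArg Subtype.val (hk ▸ pow_card_eq_one' (x := (⟨d, hle a1⟩ : V)))
    rw [a3, a4, mul_one]
  refine (QuotientGroup.eq_one_iff g).mp (H33.eq_one_of_pElt_of_regular (p := q) ?_
    fun e => hi (e.trans (_root_.orderOf_dvd_natCard _)))
  obtain ⟨j, -, hj⟩ := (Nat.dvd_prime_pow hq.out).mp (orderOf_dvd_of_pow_eq_one
    (x := (g : G ⧸ centralizer (V : Set G))) ((QuotientGroup.eq_one_iff _).mpr h3))
  exact ⟨j, hj⟩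

theorem solv_two (hq2 : q ≠ 2) (m : ℕ) : ∀ (G : Type u) [Group G] [Finite G] (V : Subgroup G)
    [V.Normal], Nat.card G = m → centralizer (V : Set G) = V → IsPGroup q V →
    ¬ q ∣ V.index → (∀ v ∈ V, ∃ k, cs(v) = 2 ^ k) → Group.IsSolvable G := by
  induction m using Nat.strong_induction_on with
  | _ m ih =>
  intro G _ _ V hV hm hc hp hi hcs
  by_cases hper : commutator G ⊔ V = ⊤
  · have h1 := two_cent hq2 _ G V rfl hc.ge hp (by rwa [hc]) (by rwa [hc]) hcs
    rw [hc] at h1
    subst h1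
    have := (hp.of_equiv topEquiv).isNilpotent
    exact IsNilpotent.to_isSolvable
  set Γ := commutator G ⊔ V
  have hle : V ≤ Γ := le_sup_right
  have h1 := ih _ (hm ▸ lt_of_le_of_ne (card_le_card_group Γ) fun e => hper (eq_top_of_card_eq _ e))
    Γ (V.subgroupOf Γ) rfl (le_antisymm (fun g hg => hc.le fun v hv =>
      congrArg Subtype.val (hg ⟨v, hle hv⟩ hv)) fun g hg v hv => Subtype.ext (hc.ge hg v hv))
    hp.comap_subtype (fun e => hi (e.trans (relIndex_dvd_index_of_le hle))) fun v hv => by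
      obtain ⟨k, hk⟩ := hcs v hv
      obtain ⟨j, -, hj⟩ := (Nat.dvd_prime_pow Nat.prime_two).mp (hk ▸ cs_normal_dvd Γ v)
      exact ⟨j, hj⟩
  have h2 : IsMulCommutative (G ⧸ Γ) :=
    Normal.quotient_commutative_iff_commutator_le.mpr le_sup_left
  have := Group.isSolvable_of_comm h2.is_comm.comm
  exact Group.isSolvable_of_ker_le_range Γ.subtype (QuotientGroup.mk' Γ) (by simp)

theorem solv_all {G : Type*} [Group G] [Finite G] {p : ℕ} (hp : p.Prime) (V : Subgroup G)
    [hV : V.Normal] (hc : centralizer (V : Set G) = V) (hP : IsPGroup q V) (hi : ¬ q ∣ V.index)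
    (hcs : ∀ v ∈ V, ∃ k, cs(v) = p ^ k) : Group.IsSolvable G := by
  by_cases h2 : 2 ∣ V.index
  swap
  · have := H54.odd_order_solvable (G := G ⧸ V) (Nat.odd_iff.mpr (Nat.two_dvd_ne_zero.mp h2))
    have := hP.isNilpotent
    exact Group.isSolvable_of_ker_le_range V.subtype (QuotientGroup.mk' V) (by simp)
  have hq2 : q ≠ 2 := fun e => hi (e ▸ h2)
  by_cases hp2 : p = 2
  · exact solv_two hq2 _ G V rfl hc hP hi (hp2 ▸ hcs)
  exfalso
  have := Fact.mk Nat.prime_two
  obtain ⟨g, hg⟩ := exists_prime_orderOf_dvd_card' (G := G ⧸ V) 2 h2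
  obtain ⟨g, rfl⟩ := QuotientGroup.mk_surjective g
  have h3 : g ^ 2 ∈ V := (QuotientGroup.eq_one_iff _).mp (hg ▸ pow_orderOf_eq_one (g : G ⧸ V))
  have h4 : g ∉ V := fun e => by
    rw [(QuotientGroup.eq_one_iff g).mpr e, orderOf_one] at hg
    omega
  refine h4 (hc.le fun u hu => ?_)
  have h5 := hV.conj_mem u hu g
  have h6 := mul_mem (inv_mem hu) h5
  obtain ⟨k, hk⟩ := hcs _ h6
  have h7 := sq_eq_one_of_isConj_inv (hk ▸ not_dvd_pow hp Nat.prime_two hp2) (isConj_iff.mpr ⟨g, by
    have a1 := hc.ge h3 u hu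
    have a2 := hc.ge hu _ (inv_mem h5)
    calc _ = (g * u * g⁻¹)⁻¹ * (g ^ 2 * u) * (g ^ 2)⁻¹ := by rw [pow_two]; group
      _ = _ := by rw [← a1]; group⟩)
  have h8 := H33.eq_one_of_pElt_of_regular (pElt_of_le hP h6) fun e => hq2
    ((Nat.prime_dvd_prime_iff_eq hq.out Nat.prime_two).mp (e.trans (orderOf_dvd_of_pow_eq_one h7)))
  rw [inv_mul_eq_one, eq_mul_inv_iff_mul_eq] at h8
  exact h8

theorem solv_quot {G : Type*} [Group G] [Finite G] {p : ℕ} (hp : p.Prime) (hpq : p ≠ q)
    (Q : Sylow q G) (h : ∀ x : G, (∃ k : ℕ, orderOf x = q ^ k) → ∃ a : ℕ, cs(x) = p ^ a)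
    [(pPrimeCore q G).Normal] : Group.IsSolvable (G ⧸ pPrimeCore q G) := by
  have := Fact.mk hp
  obtain ⟨h1, h2⟩ := case_ne hp hpq Q h
  set π := QuotientGroup.mk' (pPrimeCore q G)
  have hπ := QuotientGroup.mk'_surjective (pPrimeCore q G)
  set R := Q.mapSurjective hπ
  have h3 : (R : Subgroup (G ⧸ pPrimeCore q G)).Normal := by
    have := h2.map π hπ
    rwa [Subgroup.map_sup, (Subgroup.map_eq_bot_iff (pCore p G)).mpr (by
      rw [QuotientGroup.ker_mk']; exact H44.pCore_le_pPrimeCore hpq), bot_sup_eq] at this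
  have h4 : (R : Subgroup (G ⧸ pPrimeCore q G)) ≤
      centralizer ((R : Subgroup (G ⧸ pPrimeCore q G)) : Set (G ⧸ pPrimeCore q G)) := by
    rintro _ ⟨a, ha, rfl⟩ _ ⟨b, hb, rfl⟩
    rw [← map_mul, ← map_mul]
    exact congrArg (π ∘ Subtype.val) (h1.is_comm.comm ⟨b, hb⟩ ⟨a, ha⟩)
  refine solv_all hp (R : Subgroup (G ⧸ pPrimeCore q G)) (le_antisymm (fun c hc => ?_) h4) R.isPGroup'
    R.not_dvd_index ?_
  · set C := centralizer ((R : Subgroup (G ⧸ pPrimeCore q G)) : Set (G ⧸ pPrimeCore q G))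
    have a1 := H8.hasNormalPComplement_of_sup_cent (R.subtype h4) (top_le_iff.mp fun x _ =>
      mem_sup_right fun y hy => Subtype.ext (x.2 y hy))
    have a2 := H44.le_pPrimeCore (H44.pPrimeCoreOf_normal (p := q) C) (H44.pPrimeCoreOf_coprime C)
    rw [H44.pPrimeCore_quotient_pPrimeCore] at a2
    obtain ⟨z, hz⟩ := H33.exists_isPPart hq.out c
    have a3 := H33.IsPPart.mem_of_mem hq.out hz _ hc
    have a4 := a2 ⟨⟨_, mul_mem (inv_mem a3) hc⟩, (Gz.core_facts a1).2 _
      (by simpa using H33.IsPPart.regular hz), rfl⟩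
    rw [← inv_mul_eq_one.mp (mem_bot.mp a4)]
    exact Gz.Hyp.mem_of_pElt (by rw [normalizer_eq_top]; trivial) (H33.IsPPart.pElt hz)
  · rintro _ ⟨x, hx, rfl⟩
    obtain ⟨a, ha⟩ := h x (pElt_of_le Q.isPGroup' hx)
    obtain ⟨j, -, hj⟩ := (Nat.dvd_prime_pow hp).mp (ha ▸ cs_map_dvd π hπ x)
    exact ⟨j, hj⟩

end Cfsg.Agent.H87.Qb
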