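import Cfsg.Agent.H34.AbLat

/-! Integer vectors with Gram matrix `e + δ`. -/

set_option autoImplicit false
set_option linter.unusedSectionVars false

open Finset

namespace Cfsg.Agent.H87

variable {I J : Type*} [DecidableEq I] {s : Finset I} {T : Finset J} {R : J → J → Prop}
  [DecidableRel R] {a : J → I → ℤ} {e : ℕ} {ε c : ℤ} {ζ : J → I} {b : I → ℤ}

variable (s T R a e) in
/-- Vectors indexed by `T` with Gram matrix `e + δ`, classes of size `e`. -/
structure Gram : Prop where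
  equiv : Equivalence R
  gram : ∀ l ∈ T, ∀ m ∈ T, ∑ i ∈ s, a l i * a m i = e + if R l m then 1 else 0
  deg : ∃ d : I → ℤ, (∀ i, 0 < d i) ∧ ∀ l ∈ T, ∑ i ∈ s, a l i * d i = 0
  ne : ∀ i ∈ s, ∃ l ∈ T, a l i ≠ 0
  cls : ∀ l ∈ T, (T.filter fun m => R l m).card = e
  nonempty : T.Nonempty

variable (s T R a ε c ζ b) in
/-- The shape `a l = b + ε 1_{ζ l}`. -/
structure Form : Prop where
  sign : ε = 1 ∨ ε = -1
  mem : ∀ l ∈ T, ζ l ∈ s
  eq_iff : ∀ l ∈ T, ∀ m ∈ T, ζ l = ζ m ↔ R l m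
  val : ∀ l ∈ T, ∀ i ∈ s, a l i = b i + if i = ζ l then ε else 0
  const : ∀ l ∈ T, b (ζ l) = c

theorem Gram.eq_of_rel (h : Gram s T R a e) {l m : J} (hl : l ∈ T) (hm : m ∈ T) (hr : R l m)
    {i : I} (hi : i ∈ s) : a l i = a m i := by
  have h1 : ∑ i ∈ s, (a l i - a m i) * (a l i - a m i) = 0 := by
    simp only [sub_mul, mul_sub, sum_sub_distrib, h.gram l hl l hl, h.gram l hl m hm,
      h.gram m hm l hl, h.gram m hm m hm, h.equiv.refl, hr, h.equiv.symm hr]
    simp
  exact sub_eq_zero.1 (mul_self_eq_zero.1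
    ((sum_eq_zero_iff_of_nonneg fun i _ => mul_self_nonneg _).1 h1 i hi))

theorem Gram.exists_form (h : Gram s T R a e) : ∃ ε c ζ b, Form s T R a ε c ζ b := by
  obtain ⟨l₀, hl₀⟩ := h.nonempty
  by_cases h1 : ∀ l ∈ T, R l₀ l
  · obtain ⟨i₀, hi₀⟩ : s.Nonempty := by
      refine nonempty_of_sum_ne_zero (f := fun i => a l₀ i * a l₀ i) ?_
      rw [h.gram l₀ hl₀ l₀ hl₀, if_pos (h.equiv.refl _)]; positivity
    refine ⟨1, a l₀ i₀ - 1, fun _ => i₀, fun i => a l₀ i - if i = i₀ then 1 else 0, Or.inl rfl,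
      fun _ _ => hi₀, fun l hl m hm => iff_of_true rfl (h.equiv.trans (h.equiv.symm (h1 l hl)) (h1 m hm)),
      fun l hl i hi => ?_, fun _ _ => by simp⟩
    rw [sub_add_cancel, h.eq_of_rel hl₀ hl (h1 l hl) hi]
  push Not at h1
  obtain ⟨l₁, hl₁, hne⟩ := h1
  obtain ⟨d, hd, h0⟩ := h.deg
  have hG : ∀ x ∈ T, ∀ y ∈ T, ∀ z ∈ T, ∑ i ∈ s, (a x i - a y i) * a z i =
      (if R z x then 1 else 0) - (if R z y then 1 else 0) := fun x hx y hy z hz => by
    simp only [mul_comm _ (a z _)]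
    simp only [mul_sub, sum_sub_distrib, h.gram z hz x hx, h.gram z hz y hy]
    ring
  obtain ⟨ε, ζ, h1, h2, h3, h4⟩ := H34.exists_coherent s (T : Set J) R h.equiv a d hd hG
    (fun x hx y hy => by simp only [sub_mul, sum_sub_distrib, h0 x hx, h0 y hy, sub_self])
    hl₀ hl₁ hne
  have h5 : ∀ l ∈ T, ∀ i ∈ s, a l i = (a l₀ i - if i = ζ l₀ then ε else 0) +
      if i = ζ l then ε else 0 := fun l hl i hi => by
    have := h4 l hl l₀ hl₀ i hi
    split_ifs at this ⊢ <;> linarith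
  refine ⟨ε, a l₀ (ζ l₀) - ε, ζ, _, h1, h2, h3, h5, fun l hl => ?_⟩
  by_cases h6 : ζ l = ζ l₀
  · simp [h6]
  have h7 := hG l hl l₀ hl₀ l₀ hl₀
  rw [sum_congr rfl fun i hi => by rw [h4 l hl l₀ hl₀ i hi, mul_assoc], ← mul_sum,
    H34.sum_mul_single_sub s _ (h2 l hl) (h2 l₀ hl₀), if_pos (h.equiv.refl _),
    if_neg fun hr => h6 ((h3 l₀ hl₀ l hl).2 hr).symm] at h7
  rw [if_neg h6]
  rcases h1 with rfl | rfl <;> linarith

theorem Form.card_mul (f : Form s T R a ε c ζ b) (h : Gram s T R a e) :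
    (T.image ζ).card * e = T.card := by
  classical
  rw [card_eq_sum_card_image ζ T, sum_congr rfl (g := fun _ => e), sum_const, smul_eq_mul]
  intro i hi
  obtain ⟨l, hl, rfl⟩ := mem_image.1 hi
  rw [← h.cls l hl]
  exact congrArg card (filter_congr fun m hm => by rw [eq_comm, f.eq_iff l hl m hm])

theorem Form.subset (f : Form s T R a ε c ζ b) : T.image ζ ⊆ s := image_subset_iff.2 f.mem

theorem Form.mul_self (f : Form s T R a ε c ζ b) : ε * ε = 1 := by rcases f.sign with rfl | rfl <;> rfl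

theorem Form.val_of_notMem (f : Form s T R a ε c ζ b) {l : J} (hl : l ∈ T) {i : I}
    (hi : i ∈ s \ T.image ζ) : a l i = b i := by
  rw [f.val l hl i (mem_sdiff.1 hi).1, if_neg, add_zero]
  rintro rfl
  exact (mem_sdiff.1 hi).2 (mem_image_of_mem _ hl)

theorem Form.b_ne (f : Form s T R a ε c ζ b) (h : Gram s T R a e) {i : I}
    (hi : i ∈ s \ T.image ζ) : b i ≠ 0 := by
  obtain ⟨l, hl, h1⟩ := h.ne i (mem_sdiff.1 hi).1
  rwa [f.val_of_notMem hl hi] at h1

theorem Form.norm (f : Form s T R a ε c ζ b) (h : Gram s T R a e) :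
    ∑ i ∈ s \ T.image ζ, b i ^ 2 + ((c + ε) ^ 2 + ((T.image ζ).card - 1) * c ^ 2) = e + 1 := by
  obtain ⟨l, hl⟩ := h.nonempty
  have h1 := h.gram l hl l hl
  have h2 := mem_image_of_mem ζ hl
  have h3 : ∑ i ∈ s \ T.image ζ, a l i * a l i = ∑ i ∈ s \ T.image ζ, b i ^ 2 :=
    sum_congr rfl fun i hi => by rw [f.val_of_notMem hl hi, pow_two]
  have h4 : ∑ i ∈ (T.image ζ).erase (ζ l), a l i * a l i = ∑ _ ∈ (T.image ζ).erase (ζ l), c ^ 2 :=
    sum_congr rfl fun i hi => by
      obtain ⟨m, hm, rfl⟩ := mem_image.1 (mem_of_mem_erase hi)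
      rw [f.val l hl _ (f.mem m hm), if_neg (ne_of_mem_erase hi), f.const m hm, add_zero, pow_two]
  rwa [if_pos (h.equiv.refl _), ← sum_sdiff f.subset, ← add_sum_erase _ _ h2, h3, h4,
    f.val l hl _ (f.mem l hl), f.const l hl, if_pos rfl, sum_const,
    card_erase_of_mem h2, nsmul_eq_mul, Nat.cast_sub (card_pos.2 ⟨_, h2⟩), ← pow_two] at h1

theorem Form.two_le (f : Form s T R a ε c ζ b) (h : Gram s T R a e) (hc : c + ε = 0) :
    2 ≤ (T.image ζ).card := by
  obtain ⟨l, hl⟩ := h.nonempty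
  obtain ⟨m, hm, h1⟩ := h.ne _ (f.mem l hl)
  refine one_lt_card.2 ⟨_, mem_image_of_mem ζ hl, _, mem_image_of_mem ζ hm, fun h2 => h1 ?_⟩
  rw [f.val m hm _ (f.mem l hl), if_pos h2, f.const l hl, hc]

theorem Form.card_le_sum (f : Form s T R a ε c ζ b) (h : Gram s T R a e) :
    ((s \ T.image ζ).card : ℤ) ≤ ∑ i ∈ s \ T.image ζ, b i ^ 2 := by
  rw [card_eq_sum_ones, Nat.cast_sum]
  exact sum_le_sum fun i hi => by
    have := f.b_ne h hi
    push_cast
    exact Int.add_one_le_of_lt (a := 0) (by positivity)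

theorem Form.one_le (f : Form s T R a ε c ζ b) (h : Gram s T R a e) :
    1 ≤ (c + ε) ^ 2 + ((T.image ζ).card - 1) * c ^ 2 := by
  have h1 : (1 : ℤ) ≤ (T.image ζ).card := by
    exact_mod_cast card_pos.2 (h.nonempty.image ζ)
  by_cases hc : c + ε = 0
  · have h2 : (2 : ℤ) ≤ (T.image ζ).card := by exact_mod_cast f.two_le h hc
    have h3 : c ^ 2 = 1 := by rw [eq_neg_of_add_eq_zero_left hc, neg_sq, sq, f.mul_self]
    rw [hc, h3]; linarith
  · have : 0 < (c + ε) ^ 2 := by positivity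
    nlinarith [sq_nonneg c]

theorem Form.card_eq (f : Form s T R a ε c ζ b) :
    s.card = (s \ T.image ζ).card + (T.image ζ).card := (card_sdiff_add_card_eq_card f.subset).symm

theorem Form.card_le (f : Form s T R a ε c ζ b) (h : Gram s T R a e) :
    (s \ T.image ζ).card ≤ e := by
  have := f.norm h
  have := f.card_le_sum h
  have := f.one_le h
  zify; linarith

theorem Form.b_sign (f : Form s T R a ε c ζ b) (h : Gram s T R a e)
    (he : (s \ T.image ζ).card = e) {i : I} (hi : i ∈ s \ T.image ζ) : b i = 1 ∨ b i = -1 := by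
  have h1 := f.norm h
  have h2 := f.one_le h
  have h3 : ∀ j ∈ s \ T.image ζ, 1 ≤ b j ^ 2 := fun j hj => by
    have := f.b_ne h hj
    exact Int.add_one_le_of_lt (a := 0) (by positivity)
  refine sq_eq_one_iff.1 ((sum_eq_sum_iff_of_le h3).1 (le_antisymm (sum_le_sum h3) ?_)
    i hi).symm
  rw [sum_const, he, nsmul_eq_mul]; linarith

/-- In the extremal case the constant may be taken to be zero. -/
theorem Form.exists_zero (f : Form s T R a ε c ζ b) (h : Gram s T R a e)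
    (he : (s \ T.image ζ).card = e) :
    ∃ ε ζ' b, Form s T R a ε 0 ζ' b ∧ T.image ζ' = T.image ζ := by
  by_cases hc : c = 0
  · exact ⟨ε, ζ, b, hc ▸ f, rfl⟩
  have h1 := f.norm h
  have h2 := f.card_le_sum h
  have h3 : (1 : ℤ) ≤ (T.image ζ).card := by
    exact_mod_cast card_pos.2 (h.nonempty.image ζ)
  have h4 : 1 ≤ c ^ 2 := Int.add_one_le_of_lt (a := 0) (by positivity)
  have hε : -ε = 1 ∨ -ε = -1 := by rcases f.sign with rfl | rfl <;> simp
  rw [he] at h2
  by_cases hc' : c + ε = 0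
  · have h5 : (T.image ζ).card = 2 := by
      have := f.two_le h hc'
      rw [hc'] at h1
      zify at this ⊢
      nlinarith
    obtain ⟨x, y, hxy, h6⟩ := card_eq_two.1 h5
    have h7 : ∀ l ∈ T, ζ l = x ∨ ζ l = y := fun l hl => by
      simpa [h6] using mem_image_of_mem ζ hl
    have hx : x ∈ T.image ζ := by simp [h6]
    have hy : y ∈ T.image ζ := by simp [h6]
    have hb : ∀ i ∈ T.image ζ, b i = -ε := fun i hi => by
      obtain ⟨l, hl, rfl⟩ := mem_image.1 hi
      rw [f.const l hl, eq_neg_of_add_eq_zero_left hc']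
    refine ⟨-ε, fun l => Equiv.swap x y (ζ l), fun i => b i + if i = x ∨ i = y then ε else 0,
      ⟨hε, fun l hl => f.subset ?_, fun l hl m hm => ?_, fun l hl i hi => ?_, fun l hl => ?_⟩, ?_⟩
    · rcases h7 l hl with h | h <;> simp [h, hx, hy]
    · rw [(Equiv.injective _).eq_iff, f.eq_iff l hl m hm]
    · rw [f.val l hl i hi]
      rcases h7 l hl with h | h <;> by_cases h1 : i = x <;> by_cases h2 : i = y <;>
        simp_all
    · rcases h7 l hl with h | h <;> simp [h, hb x hx, hb y hy]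
    · rw [← Function.comp_def, ← image_image, h6]
      simp [pair_comm]
  · have h5 : 1 ≤ (c + ε) ^ 2 := Int.add_one_le_of_lt (a := 0) (by positivity)
    have h6 : (T.image ζ).card = 1 := by zify; nlinarith
    have h7 : c = -2 * ε := by
      have : (c + ε) ^ 2 = 1 := by rw [h6] at h1; push_cast at h1; linarith
      rcases sq_eq_one_iff.1 this with h | h <;> rcases f.sign with rfl | rfl <;> omega
    obtain ⟨x, hx⟩ := card_eq_one.1 h6
    have h8 : ∀ l ∈ T, ζ l = x := fun l hl => by simpa [hx] using mem_image_of_mem ζ hl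
    refine ⟨-ε, ζ, fun i => b i + if i = x then 2 * ε else 0,
      ⟨hε, f.mem, f.eq_iff, fun l hl i hi => ?_, fun l hl => ?_⟩, rfl⟩
    · rw [f.val l hl i hi, h8 l hl]; split_ifs <;> ring
    · rw [f.const l hl, if_pos (h8 l hl), h7]; ring

/-- The exceptions for small `e`. -/
theorem Form.small (f : Form s T R a ε c ζ b) (h : Gram s T R a e) (he : e ≤ 3)
    (h0 : 1 ≤ (s \ T.image ζ).card) : (s \ T.image ζ).card = e ∨
      (e = 2 ∧ T.card = 6) ∨ (e = 3 ∧ (T.card = 9 ∨ T.card = 12)) := by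
  have h1 := f.norm h
  have h2 := f.one_le h
  have h3 := f.card_le h
  have h4 := f.card_mul h
  have h5 : ∀ j ∈ s \ T.image ζ, 1 ≤ b j ^ 2 := fun j hj => by
    have := f.b_ne h hj
    exact Int.add_one_le_of_lt (a := 0) (by positivity)
  have h6 : ∑ i ∈ s \ T.image ζ, b i ^ 2 = (s \ T.image ζ).card := by
    rw [card_eq_sum_ones, Nat.cast_sum]
    refine sum_congr rfl fun i hi => ?_
    have h7 := single_le_sum (f := fun i => b i ^ 2) (fun j hj => sq_nonneg _) hi
    have h8 : b i ^ 2 ≤ 3 := by zify at he; linarith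
    have h9 := f.b_ne h hi
    obtain ⟨h10, h11⟩ : -1 ≤ b i ∧ b i ≤ 1 := by constructor <;> nlinarith
    interval_cases b i <;> simp_all
  rw [h6] at h1
  have h7 : 1 ≤ (T.image ζ).card := card_pos.2 (h.nonempty.image ζ)
  generalize (s \ T.image ζ).card = x at *
  generalize (T.image ζ).card = m at *
  by_cases hc : c = 0
  · left
    rw [hc, zero_add, sq, f.mul_self] at h1
    zify; linarith
  by_cases hc' : c + ε = 0
  · rw [hc', eq_neg_of_add_eq_zero_left hc', neg_sq, sq ε, f.mul_self] at h1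
    have : x + m = e + 2 := by zify; linarith
    have := f.sign
    interval_cases e <;> omega
  have h8 : (c + ε) ^ 2 ≤ 3 ∧ ((m : ℤ) - 1) * c ^ 2 ≤ 3 := by
    zify at he h0 h7
    constructor <;> nlinarith [sq_nonneg c, sq_nonneg (c + ε)]
  have h9 : c = -2 * ε := by
    obtain ⟨h10, h11⟩ : -1 ≤ c + ε ∧ c + ε ≤ 1 := by constructor <;> nlinarith [h8.1]
    rcases f.sign with rfl | rfl <;> omega
  have h10 : c ^ 2 = 4 := by rw [h9, mul_pow, sq ε, f.mul_self]; rfl
  have h11 : (c + ε) ^ 2 = 1 := by rw [h9, ← f.mul_self]; ring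
  rw [h10] at h8
  rw [h10, h11] at h1
  left; omega

end Cfsg.Agent.H87
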