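import Cfsg.Agent.H87.Glue
import Cfsg.Agent.H87.Lat

/-! Characters of blocks with abelian defect group and Frobenius inertial quotient. -/

set_option autoImplicit false
set_option linter.unusedSectionVars false

open MonoidAlgebra Subgroup ComplexConjugate

namespace Cfsg.Agent.H87

open Cfsg Cfsg.Agent.H32 Cfsg.Agent.H86 Cfsg.Agent.H34

section Ab

variable {A : Type*} [Group A] [Finite A] {Γ : Subgroup (MulAut A)} {f : A → ℂ}

variable (Γ) in
/-- The sum of the conjugates of a linear character. -/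
noncomputable def orb (l : A →* ℂˣ) : A → ℂ := fun u => ∑ᶠ γ : Γ, lc l ((γ : MulAut A) u)

theorem orb_apply [Fintype Γ] (l : A →* ℂˣ) (u : A) :
    orb Γ l u = ∑ γ : Γ, lc l ((γ : MulAut A) u) := finsum_eq_sum_of_fintype _

theorem orb_eq [Fintype Γ] (l : A →* ℂˣ) : orb Γ l = ∑ γ : Γ, lc (cpA l γ) :=
  funext fun u => by rw [orb_apply, Finset.sum_apply]; rfl

theorem orb_one (l : A →* ℂˣ) : orb Γ l 1 = Nat.card Γ := by
  have := Fintype.ofFinite Γ
  simp [orb_apply, lc_one_right]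

theorem orb_inv (l : A →* ℂˣ) {γ : MulAut A} (hγ : γ ∈ Γ) (u : A) : orb Γ l (γ u) = orb Γ l u := by
  have := Fintype.ofFinite Γ
  rw [orb_apply, orb_apply,
    ← Equiv.sum_comp (Equiv.mulRight (⟨γ, hγ⟩ : Γ)) fun β : Γ => lc l ((β : MulAut A) u)]
  rfl

theorem virt_lc' (l : A →* ℂˣ) : IsGeneralizedCharacter A (lc l) :=
  H53.virt_of_char (H5.isCharacter_monoidHom l)

theorem virt_orb (l : A →* ℂˣ) : IsGeneralizedCharacter A (orb Γ l) := by
  have := Fintype.ofFinite Γ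
  exact orb_eq (Γ := Γ) l ▸ H53.virt_sum _ _ fun _ _ => virt_lc' _

theorem orb_inv_left (l : A →* ℂˣ) (u : A) : orb Γ l⁻¹ u = conj (orb Γ l u) := by
  have := Fintype.ofFinite Γ
  rw [orb_apply, orb_apply, map_sum]
  exact Finset.sum_congr rfl fun γ _ => by rw [← lc_inv, lc_apply, lc_apply, map_inv]; rfl

theorem orb_eq_sum [Fintype (A →* ℂˣ)] [DecidableRel (cR Γ)] (h : FpfA Γ) {l : A →* ℂˣ} (hl : l ≠ 1)
    (u : A) : orb Γ l u = ∑ m, if cR Γ l m then lc m u else 0 := by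
  have := Fintype.ofFinite Γ
  rw [orb_apply]
  exact (h.sum_cpA hl fun m => lc m u).trans (by convert rfl)

variable [Fintype A]

theorem ci_lc (l m : A →* ℂˣ) [Decidable (l = m)] :
    classInner (lc l) (lc m) = if l = m then 1 else 0 := by
  rw [classInner, sum_lc_mul_conj]
  split_ifs
  · exact inv_mul_cancel₀ H5.natCard_ne_zero
  · exact mul_zero _

theorem ci_orb_sub (hf : ∀ γ ∈ Γ, ∀ u, f (γ u) = f u) (l : A →* ℂˣ) :
    classInner f (orb Γ l - fun _ => (Nat.card Γ : ℂ)) = Nat.card Γ * classInner f (lc l - 1) := by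
  have := Fintype.ofFinite Γ
  have h1 : (orb Γ l - fun _ => (Nat.card Γ : ℂ)) =
      ∑ γ : Γ, fun u => (lc l - 1 : A → ℂ) ((γ : MulAut A) u) := funext fun u => by
    simp [orb_apply]
  rw [h1, H5.classInner_sum_right, Finset.sum_congr rfl (g := fun _ => classInner f (lc l - 1)),
    Finset.sum_const, Finset.card_univ, nsmul_eq_mul, Nat.card_eq_fintype_card]
  intro γ _
  rw [← H5.classInner_comp_equiv (γ : MulAut A) f (lc l - 1), funext (hf γ γ.2)]

theorem ci_congr_one {g κ : A → ℂ} (h : ∀ u ≠ 1, f u = g u) (h1 : κ 1 = 0) :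
    classInner f κ = classInner g κ :=
  congrArg _ (Finset.sum_congr rfl fun u _ => by
    by_cases hu : u = 1
    · simp [hu, h1]
    · rw [h u hu])

theorem fourier_off_one [Fintype (A →* ℂˣ)] (hA : ∀ a b : A, a * b = b * a) (f : A → ℂ) {u : A}
    (hu : u ≠ 1) : f u = ∑ l : A →* ℂˣ, classInner f (lc l - 1) * lc l u := by
  simp only [H5.classInner_sub_right, sub_mul, Finset.sum_sub_distrib, ← Finset.mul_sum,
    sum_lc_apply hA, if_neg hu, mul_zero, sub_zero]
  simpa only [classInner, lc_inv] using fourier_lc hA f u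

theorem ci_orb_gram [DecidableRel (cR Γ)] (h : FpfA Γ) {l m : A →* ℂˣ} (hl : l ≠ 1) (hm : m ≠ 1) :
    classInner (orb Γ l - fun _ => (Nat.card Γ : ℂ)) (lc m - 1) =
      Nat.card Γ + if cR Γ l m then 1 else 0 := by
  classical
  have := Fintype.ofFinite Γ
  have h1 : (1 : A → ℂ) = lc 1 := funext fun u => (lc_one_left u).symm
  have h2 : (fun _ : A => (Nat.card Γ : ℂ)) = (Nat.card Γ : ℂ) • lc 1 :=
    funext fun u => by simp [lc_one_left]
  have h3 := h.sum_ite_cpA m l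
  rw [h1, h2, orb_eq, H5.classInner_sub_left, H5.classInner_smul_left, H5.classInner_sum_left]
  simp only [H5.classInner_sub_right, ci_lc, cpA_eq_one_iff, hl, hm.symm, if_false, if_true,
    sub_zero, eq_comm (b := m)]
  rw [eG, if_neg hl] at h3
  rw [(by convert rfl : (∑ γ : Γ, if m = cpA l γ then (1 : ℂ) else 0) = _).trans h3]
  split_ifs <;> simp [add_comm]

end Ab

variable {M : Ideal AlgInt} [hMm : M.IsMaximal] {G : Type*} [Group G] [Finite G]
  {p : ℕ} {B : Set (IrrCharacter G)} {P : Subgroup G} {e : (Res M)[G]} {χ ψ : G → ℂ}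

theorem wt_one' (h : Ctx M p B P e) : H86.wt p P e 1 = 1 := by
  have : Nat.card {v : P // Fz p P e 1 v} = 1 := Nat.card_eq_one_iff_exists.2
    ⟨⟨1, h.fz_refl P.one_mem⟩, fun v => Subtype.ext (Subtype.ext (isConj_one_right.1 v.2.isConj))⟩
  rw [h.wt_eq P.one_mem, this, Nat.cast_one, _root_.inv_one]

theorem stab_of_one (h : Ctx M p B P e) {η : P → ℂ}
    (hη : ∀ u v : P, u ≠ 1 → v ≠ 1 → Fz p P e u v → η v = η u) : Stab p P e η :=
  h.stab_iff.2 fun u v huv => by
    by_cases hu : u = 1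
    · subst hu
      rw [show v = 1 from Subtype.ext (isConj_one_right.1 huv.isConj)]
    · exact hη u v hu (fun hv => hu (Subtype.ext (isConj_one_left.1 (hv ▸ huv.isConj :)))) huv

theorem cn_one [Fintype G] (h : Ctx M p B P e) (hχ : IsClassFunction G χ)
    (hψ : IsClassFunction G ψ) :
    cn p P e 1 χ ψ = classInner (pRegularPart p (blockPart B χ)) ψ := by
  classical
  have := Fintype.ofFinite P
  have hη : Stab p P e fun u : P => if u = 1 then (1 : ℂ) else 0 :=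
    stab_of_one h fun u v hu hv _ => by simp [hu, hv]
  have h1 := h.ci_eq (h.cf_st hη hχ) (h.blockPart_st hη hχ) hψ
  rw [Finset.sum_eq_single 1 (fun u _ hu => by simp [h.cn_st_left hη hχ, hu]) (by simp),
    h.cn_st_left hη hχ, h.st_eq_smul_reg hη (fun u hu => if_neg hu) hχ] at h1
  simpa [wt_one' h] using h1.symm

/-- `k(B) = ∑ l(b)` over the subsections. -/
theorem card_eq_sum_wt [Fintype P] [DecidableEq P] (h : Ctx M p B P e) : (Nat.card B : ℝ) =
    blockRank p B + ∑ u ∈ Finset.univ.erase (1 : P), H86.wt p P e u * blockRank p (blk p P e u) := by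
  have := Fintype.ofFinite G
  have h1 : ∑ χ ∈ fs B, classInner (χ : G → ℂ) χ = Nat.card B := by
    rw [← card_fs]
    simp [fun χ : IrrCharacter G => H5.classInner_irr_self χ.2]
  rw [Finset.sum_congr rfl fun χ hχ => h.ci_eq (irr_cf χ.2) (blockPart_irr_of_mem (mem_fs.1 hχ))
    (irr_cf χ.2), Finset.sum_comm, ← Finset.add_sum_erase _ _ (Finset.mem_univ 1)] at h1
  apply Complex.ofReal_injective
  push_cast
  rw [← h1, ← sum_ci_reg_self h.hM h.hB]
  congr 1
  · exact Finset.sum_congr rfl fun χ hχ => by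
      rw [coe_one, wt_one' h, cn_one h (irr_cf χ.2) (irr_cf χ.2), blockPart_irr_of_mem (mem_fs.1 hχ),
        Complex.ofReal_one, one_mul]
  · refine Finset.sum_congr rfl fun u _ => ?_
    have := Fintype.ofFinite (Ce (zpowers (u : G)))
    rw [← Finset.mul_sum, ← sum_con_self h.hM (isCent_zpowers _) (h.pElt u.2) (h.induced u.2)]
    simp only [cn_eq]

variable (p P e) in
open Classical in
/-- The normalized generalized decomposition numbers as a function on `P`. -/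
noncomputable def th (δ : P → ℂ) (χ : G → ℂ) : P → ℂ :=
  fun u => if u = 1 then 0 else D p P e u χ * conj (δ u)

variable {Γ : Subgroup (MulAut P)} {δ : P → ℂ}

theorem th_one : th p P e δ χ 1 = 0 := if_pos rfl

theorem th_of_ne {u : P} (hu : u ≠ 1) : th p P e δ χ u = D p P e u χ * conj (δ u) := if_neg hu

namespace Frob

variable (h : Frob M p B P e Γ δ)
include h

theorem comm (a b : P) : a * b = b * a := Subtype.ext (mem_Ce.1 (h.ab b.2) a a.2)

theorem D_eq {u : P} (hu : u ≠ 1) : D p P e u χ = δ u * th p P e δ χ u := by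
  rw [th_of_ne hu, mul_left_comm, h.norm, mul_one]

theorem stab {η : P → ℂ} (hη : ∀ γ ∈ Γ, ∀ u ≠ 1, η (γ u) = η u) : Stab p P e η :=
  stab_of_one h.ctx fun u v hu _ huv => by
    obtain ⟨γ, hγ, rfl⟩ := (h.fz u v).1 huv
    exact hη γ hγ u hu

theorem D_inv (hχ : IsClassFunction G χ) {γ : MulAut P} (hγ : γ ∈ Γ) (u : P) :
    D p P e (γ u) χ = D p P e u χ := D_fz h.ctx hχ u.2 ((h.fz u _).2 ⟨γ, hγ, rfl⟩)

theorem th_inv (hχ : IsClassFunction G χ) {γ : MulAut P} (hγ : γ ∈ Γ) (u : P) :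
    th p P e δ χ (γ u) = th p P e δ χ u := by
  by_cases hu : u = 1
  · rw [hu, map_one]
  · rw [th_of_ne hu, th_of_ne (by simpa using hu), h.D_inv hχ hγ, h.inv γ hγ]

theorem wt_eq {u : P} (hu : u ≠ 1) : H86.wt p P e u = (Nat.card Γ : ℝ)⁻¹ := by
  rw [h.ctx.wt_eq u.2, ← Nat.card_congr (Equiv.ofBijective
    (fun γ : Γ => (⟨(γ : MulAut P) u, (h.fz u _).2 ⟨γ, γ.2, rfl⟩⟩ : {v : P // Fz p P e u v}))
    ⟨fun a b hab => h.fpf.injective_apply hu (congrArg Subtype.val hab), fun v => ?_⟩)]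
  obtain ⟨γ, hγ, h1⟩ := (h.fz u v).1 v.2
  exact ⟨⟨γ, hγ⟩, Subtype.ext h1⟩

theorem pow_df (u : P) : (p : ℂ) ^ df p P e u = Nat.card P := by
  rw [h.ctx.df_of_central u.2 (h.ab u.2), h.ctx.card_eq, Nat.cast_pow]

theorem cn_eq (hχ : IsClassFunction G χ) (hψ : IsClassFunction G ψ) {u : P} (hu : u ≠ 1) :
    cn p P e u χ ψ = (Nat.card P : ℂ)⁻¹ * (th p P e δ χ u * conj (th p P e δ ψ u)) := by
  rw [eq_inv_mul_iff_mul_eq₀ (Nat.cast_ne_zero.2 Nat.card_pos.ne'), ← h.pow_df u,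
    (h.r1 u hu).pow_mul_cn h.ctx u.2 hχ hψ, h.D_eq hu, h.D_eq hu, map_mul, mul_mul_mul_comm,
    h.norm, one_mul]

theorem ci_eq [Fintype G] [Fintype P] (hχ : IsClassFunction G χ) (hB : blockPart B χ = χ)
    (hψ : IsClassFunction G ψ) : classInner χ ψ = classInner (pRegularPart p χ) ψ +
      (Nat.card Γ : ℂ)⁻¹ * classInner (th p P e δ χ) (th p P e δ ψ) := by
  classical
  rw [h.ctx.ci_eq hχ hB hψ, ← Finset.add_sum_erase _ _ (Finset.mem_univ 1), coe_one, wt_one' h.ctx,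
    cn_one h.ctx hχ hψ, hB, Complex.ofReal_one, one_mul, classInner.eq_1 (th p P e δ χ),
    ← Finset.add_sum_erase _ _ (Finset.mem_univ 1), th_one, zero_mul, zero_add, Finset.mul_sum,
    Finset.mul_sum]
  exact congrArg _ (Finset.sum_congr rfl fun u hu => by
    rw [h.wt_eq (Finset.ne_of_mem_erase hu), h.cn_eq hχ hψ (Finset.ne_of_mem_erase hu)]; simp)

theorem card_eq : Nat.card B * Nat.card Γ + 1 = blockRank p B * Nat.card Γ + Nat.card P := by
  classical
  have := Fintype.ofFinite P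
  have h1 := card_eq_sum_wt h.ctx
  rw [Finset.sum_congr rfl (g := fun _ => (Nat.card Γ : ℝ)⁻¹) fun u hu => by
    rw [h.wt_eq (Finset.ne_of_mem_erase hu), h.r1 u (Finset.ne_of_mem_erase hu), Nat.cast_one,
      mul_one], Finset.sum_const, Finset.card_erase_of_mem (Finset.mem_univ _), Finset.card_univ,
    nsmul_eq_mul, Nat.cast_pred Fintype.card_pos, ← Nat.card_eq_fintype_card] at h1
  have h2 : (Nat.card Γ : ℝ) ≠ 0 := Nat.cast_ne_zero.2 Nat.card_pos.ne'
  apply Nat.cast_injective (R := ℝ)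
  push_cast
  rw [h1]; field_simp; ring

theorem exists_col {κ : P → ℂ} (hκ : ∀ γ ∈ Γ, ∀ u, κ (γ u) = κ u) (h1 : κ 1 = 0) :
    ∃ Ψ, IsClassFunction G Ψ ∧ blockPart B Ψ = Ψ ∧ pRegularPart p Ψ = 0 ∧ th p P e δ Ψ = κ := by
  classical
  obtain ⟨χ, hχ, h0⟩ := H86.exists_height_zero (p := p) (isPBlock_nonempty h.ctx.hB)
  have hη : Stab p P e fun u : P => κ u * δ u / D p P e u χ :=
    h.stab fun γ hγ u _ => by rw [hκ γ hγ, h.inv γ hγ, h.D_inv (irr_cf χ.2) hγ]
  refine ⟨_, h.ctx.cf_st hη (irr_cf χ.2), h.ctx.blockPart_st hη (irr_cf χ.2),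
    reg_eq_zero_iff.2 fun g hg => ?_, funext fun u => ?_⟩
  · rw [h.ctx.st_apply_of_regular hη (irr_cf χ.2) hg, h1]; simp
  · by_cases hu : u = 1
    · rw [hu, th_one, h1]
    · rw [th_of_ne hu, D_st h.ctx hη (irr_cf χ.2), div_mul_cancel₀ _ (ne_zero_of_not_mem_locMax
        (((h.r1 u hu).not_mem_iff h.ctx u.2 hχ).2 h0)), mul_assoc, h.norm, mul_one]

theorem th_ne_zero {χ : IrrCharacter G} (hχ : χ ∈ B) {u : P} (hu : u ≠ 1) :
    th p P e δ χ u ≠ 0 := fun h1 => h.ctx.cn_self_ne_zero_of_central u.2 (h.ab u.2) hχ (by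
  rw [h.cn_eq (irr_cf χ.2) (irr_cf χ.2) hu, h1, zero_mul, mul_zero])

open Classical in
theorem exists_gram [Fintype P] [Fintype (P →* ℂˣ)] (hP : P ≠ ⊥) :
    ∃ a : (P →* ℂˣ) → IrrCharacter G → ℤ,
      (∀ l (χ : IrrCharacter G), classInner (th p P e δ χ) (lc l - 1) = a l χ) ∧
      Gram (fs B) (Finset.univ.erase 1) (cR Γ) a (Nat.card Γ) ∧
      ∀ l, ∀ g, ¬ p ∣ orderOf g → ∑ χ ∈ fs B, (a l χ : ℂ) * (χ : G → ℂ) g = 0 := by
  have := Fintype.ofFinite G
  have hΓ : (Nat.card Γ : ℂ) ≠ 0 := H5.natCard_ne_zero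
  have h1 : ∀ l (χ : IrrCharacter G), ∃ n : ℤ, classInner (th p P e δ χ) (lc l - 1) = n :=
    fun l χ => by
      obtain ⟨θ, hθ, h1⟩ := h.virt χ (H53.virt_of_irr χ.2)
      rw [ci_congr_one (g := θ) (fun u hu => by
        rw [th_of_ne hu, h1 u hu, mul_right_comm, h.norm, one_mul]) (by simp [lc_one_right])]
      exact H53.virt_ci_int hθ (H53.virt_sub (virt_lc' l) H53.virt_one)
  choose a ha using h1
  choose Ψ h1 h2 h3 h4 using fun l : P →* ℂˣ => h.exists_col
    (κ := orb Γ l - fun _ => (Nat.card Γ : ℂ))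
    (fun γ hγ u => by simp only [Pi.sub_apply, orb_inv l hγ]) (by simp [orb_one])
  have h5 : ∀ l χ, IsClassFunction G χ → blockPart B χ = χ →
      classInner χ (Ψ l) = classInner (th p P e δ χ) (lc l - 1) := fun l χ hχ hB => by
    rw [h.ci_eq hχ hB (h1 l), classInner_reg, h3, H5.classInner_zero_right, zero_add, h4,
      ci_orb_sub fun γ hγ u => h.th_inv hχ hγ u, inv_mul_cancel_left₀ hΓ]
  have h6 : ∀ l, ∀ χ ∈ B, classInner (χ : G → ℂ) (Ψ l) = a l χ := fun l χ hχ => by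
    rw [h5 l χ (irr_cf χ.2) (blockPart_irr_of_mem hχ), ha]
  have h7 : ∀ l, ∀ χ ∈ B, classInner (Ψ l) (χ : G → ℂ) = a l χ := fun l χ hχ => by
    rw [← H5.conj_classInner, h6 l χ hχ, map_intCast]
  have h8 : ∀ l, ∀ g, ¬ p ∣ orderOf g → ∑ χ ∈ fs B, (a l χ : ℂ) * (χ : G → ℂ) g = 0 :=
    fun l g hg => by
      rw [← reg_eq_zero_iff.1 (h3 l) g hg, ← h2 l, blockPart_apply]
      exact Finset.sum_congr rfl fun χ hχ => by rw [h7 l χ (mem_fs.1 hχ)]
  obtain ⟨u, hu⟩ := @exists_ne P ((nontrivial_iff_ne_bot P).2 hP) 1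
  refine ⟨a, ha, ⟨cR_equivalence Γ, fun l hl m hm => ?_, ⟨fun χ => charDegree (χ : G → ℂ),
    fun χ => Int.natCast_pos.2 (charDegree_pos χ), fun l _ => ?_⟩, fun χ hχ => ?_,
    fun l hl => ?_, ?_⟩, h8⟩
  · apply Int.cast_injective (α := ℂ)
    have h9 := h5 m _ (h1 l) (h2 l)
    rw [h4, ci_orb_gram h.fpf (Finset.ne_of_mem_erase hl) (Finset.ne_of_mem_erase hm), ← h2 l,
      classInner_blockPart_left] at h9
    push_cast
    rw [← h9]
    exact Finset.sum_congr rfl fun χ hχ => by rw [h7 l χ (mem_fs.1 hχ), h6 m χ (mem_fs.1 hχ)]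
  · apply Int.cast_injective (α := ℂ)
    have h9 := h8 l 1 (by simpa using h.ctx.hM.1.one_lt.ne')
    push_cast
    rw [← h9]
    exact Finset.sum_congr rfl fun χ _ => by rw [cast_charDegree_irr]
  · by_contra! h9
    refine h.th_ne_zero (mem_fs.1 hχ) hu ?_
    rw [fourier_off_one h.comm (th p P e δ χ) hu]
    refine Finset.sum_eq_zero fun l _ => ?_
    by_cases hl : l = 1
    · rw [hl, show lc (1 : P →* ℂˣ) - 1 = 0 from funext fun u => by simp [lc_one_left],
        H5.classInner_zero_right, zero_mul]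
    · rw [ha, h9 l (by simpa using hl), Int.cast_zero, zero_mul]
  · have hl' := Finset.ne_of_mem_erase hl
    rw [← h.fpf.card_cR hl']
    exact congrArg Finset.card (Finset.ext fun m => by
      simpa using fun hr hm => hl' (hr.eq_one_iff.1 hm))
  · obtain ⟨l, hl⟩ := exists_lc_ne_one h.comm hu
    exact ⟨l, by simpa using fun h => hl (by rw [h]; rfl)⟩

end Frob

end Cfsg.Agent.H87
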