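import Cfsg.Agent.H86.KW2
import Cfsg.Agent.H32.IBr4
import Cfsg.Agent.H34.Quot
import Cfsg.Agent.S0941

/-! Blocks modulo a central `p`-subgroup. -/

set_option autoImplicit false
set_option linter.unusedSectionVars false

open MonoidAlgebra Subgroup ComplexConjugate

namespace Cfsg.Agent.H87

open Cfsg Cfsg.Agent.H32 Cfsg.Agent.H86 Cfsg.Agent.H34

variable {M : Ideal AlgInt} [hMm : M.IsMaximal] {G : Type*} [Group G] [Finite G] {p : ℕ}
  {Z : Subgroup G} [Z.Normal] {B : Set (IrrCharacter G)} {f f' : G ⧸ Z → ℂ} {F : G → ℂ}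

variable (p Z) in
/-- `Z` is a central `p`-subgroup. -/
structure CZ : Prop where
  prime : p.Prime
  pgp : IsPGroup p Z
  cen : Z ≤ center G

variable (p) in
/-- Inflation followed by truncation to the regular elements. -/
noncomputable def lif (f : G ⧸ Z → ℂ) : G → ℂ := pRegularPart p fun g : G => f g

variable (p Z) in
/-- Descent of the regular part of a function. -/
noncomputable def dsc (F : G → ℂ) : G ⧸ Z → ℂ := fun q => F (rp p q.out)

variable (Z) in
/-- The dominated block. -/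
abbrev dom (B : Set (IrrCharacter G)) : Set (IrrCharacter (G ⧸ Z)) :=
  under (QuotientGroup.mk'_surjective Z) B

theorem reg_lif (f : G ⧸ Z → ℂ) : pRegularPart p (lif p f) = lif p f := reg_reg _

theorem lif_sub (f f' : G ⧸ Z → ℂ) : lif p (f - f') = lif p f - lif p f' := reg_sub _ _

theorem lif_smul (c : ℂ) (f : G ⧸ Z → ℂ) : lif p (c • f) = c • lif p f := reg_smul _ _

theorem lif_sum {ι : Type*} (s : Finset ι) (f : ι → G ⧸ Z → ℂ) :
    lif p (∑ i ∈ s, f i) = ∑ i ∈ s, lif p (f i) := by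
  simp only [lif, ← reg_sum]
  exact congrArg _ (funext fun g => by simp)

theorem regular_mk {g : G} (hg : ¬ p ∣ orderOf g) : ¬ p ∣ orderOf (g : G ⧸ Z) := fun h =>
  hg (h.trans (orderOf_map_dvd (QuotientGroup.mk' Z) g))

theorem lif_reg (f : G ⧸ Z → ℂ) : lif p (pRegularPart p f) = lif p f :=
  reg_congr fun _ hg => reg_of_regular _ (regular_mk hg)

theorem isClassFunction_lif (hf : IsClassFunction (G ⧸ Z) f) : IsClassFunction G (lif p f) :=
  isClassFunction_reg (H32.isClassFunction_comp hf (QuotientGroup.mk' Z))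

theorem lif_phi (hM : IsPModular p M) (i : IBr M (G ⧸ Z)) :
    lif p (phi i) = phi (i.inf (QuotientGroup.mk' Z)) :=
  reg_phi_comp_of_surjective hM (QuotientGroup.mk'_surjective Z) i

namespace CZ

variable (h : CZ p Z)
include h

theorem rp_out (g : G) : rp p (g : G ⧸ Z).out = rp p g := by
  obtain ⟨z, hz⟩ := QuotientGroup.mk_out_eq_mul Z g
  have : Fact p.Prime := ⟨h.prime⟩
  have hc := mem_center_iff.1 (h.cen z.2) g
  rw [hz, hc, rp_pElt_mul h.prime (pElt_of_mem h.pgp z.2) hc.symm]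

theorem dsc_mk (F : G → ℂ) (g : G) : dsc p Z F g = F (rp p g) := by rw [dsc, h.rp_out]

theorem lif_dsc (F : G → ℂ) : lif p (dsc p Z F) = pRegularPart p F :=
  reg_congr fun g hg => by rw [h.dsc_mk, rp_of_regular h.prime hg]

theorem isClassFunction_dsc (hF : IsClassFunction G F) :
    IsClassFunction (G ⧸ Z) (dsc p Z F) := fun q r => by
  obtain ⟨g, rfl⟩ := QuotientGroup.mk_surjective q
  obtain ⟨x, rfl⟩ := QuotientGroup.mk_surjective r
  rw [← QuotientGroup.mk_inv, ← QuotientGroup.mk_mul, ← QuotientGroup.mk_mul, h.dsc_mk, h.dsc_mk,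
    rp_conj, hF]

theorem ci_lif [Fintype G] [Fintype (G ⧸ Z)] (f f' : G ⧸ Z → ℂ) :
    Nat.card Z * classInner (lif p f) (lif p f') = classInner (pRegularPart p f) f' := by
  classical
  have h1 : (Nat.card Z : ℂ) ≠ 0 := Nat.cast_ne_zero.2 Nat.card_pos.ne'
  rw [lif, lif, classInner_reg_reg, classInner, classInner, card_eq_card_quotient_mul_card_subgroup Z,
    Nat.cast_mul, mul_inv, ← mul_assoc, mul_left_comm, mul_inv_cancel₀ h1, mul_one]
  congr 1
  simp only [reg_apply, ite_mul, zero_mul, ← ite_not (p ∣ _), ← Finset.sum_filter]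
  refine Finset.sum_bij' (fun g _ => (g : G ⧸ Z)) (fun q _ => rp p q.out) (fun g hg => ?_)
    (fun q _ => ?_) (fun g hg => ?_) (fun q hq => ?_) fun _ _ => rfl
  · exact Finset.mem_filter.2 ⟨Finset.mem_univ _, regular_mk (Finset.mem_filter.1 hg).2⟩
  · exact Finset.mem_filter.2 ⟨Finset.mem_univ _, rp_regular h.prime _⟩
  · rw [h.rp_out, rp_of_regular h.prime (Finset.mem_filter.1 hg).2]
  · have := rp_map h.prime (QuotientGroup.mk' Z) q.out
    rw [QuotientGroup.mk'_apply, QuotientGroup.mk'_apply, QuotientGroup.out_eq'] at this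
    rw [← this, rp_of_regular h.prime (Finset.mem_filter.1 hq).2]

theorem exists_inf_eq (hM : IsPModular p M) (j : IBr M G) :
    ∃ i : IBr M (G ⧸ Z), j = i.inf (QuotientGroup.mk' Z) := by
  by_contra! h0
  have := Fintype.ofFinite G
  have h1 := ev_comp_pim (h.isClassFunction_dsc (isClassFunction_phi j)) (QuotientGroup.mk' Z) j
  rw [Finset.sum_eq_zero fun i _ => by
      rw [resM_eq_ite (QuotientGroup.mk'_surjective Z), if_neg (h0 i), Nat.cast_zero, zero_mul],
    ← classInner_Phi (H32.isClassFunction_comp (h.isClassFunction_dsc (isClassFunction_phi j)) _),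
    ← reg_Phi hM, ← classInner_reg] at h1
  have h2 : classInner (lif p (dsc p Z (phi j))) (Phi j) = 0 := h1
  simp [h.lif_dsc, reg_phi hM, classInner_phi_Phi] at h2

theorem virt_lif (hM : IsPModular p M) (hf : IsGeneralizedCharacter (G ⧸ Z) f)
    (h0 : ∀ q, p ∣ orderOf q → f q = 0) :
    IsGeneralizedCharacter G ((Nat.card Z : ℂ) • lif p f) := by
  have := Fintype.ofFinite G
  have := Fintype.ofFinite (G ⧸ Z)
  refine H86.virt_of_forall_int (fun g x => by
    simp only [Pi.smul_apply, isClassFunction_lif (H53.virt_classFun hf) g x]) fun χ => ?_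
  choose i hi using h.exists_inf_eq hM
  choose n hn using exists_int_classInner_phi hM hf h0
  refine ⟨∑ j, dec (χ : G → ℂ) j * n (i j), ?_⟩
  rw [H5.classInner_smul_left, ← reg_lif, classInner_reg, reg_irr_eq_sum_dec hM,
    H5.classInner_sum_right, Finset.mul_sum]
  push_cast
  refine Finset.sum_congr rfl fun j _ => ?_
  rw [H5.classInner_smul_right, map_natCast, mul_left_comm, ← hn]
  conv_lhs => rw [hi j, ← lif_phi hM, h.ci_lif, reg_eq_self h0, ← hi j]

theorem isPBlock_dom (hM : IsPModular p M) (hB : IsPBlock M B) : IsPBlock M (dom Z B) ∧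
    ∀ D, IsDefectGroup p M B D → IsDefectGroup p M (dom Z B) (D.map (QuotientGroup.mk' Z)) := by
  have : Fact p.Prime := ⟨h.prime⟩
  obtain ⟨b, h1, h2, h3⟩ := exists_block_defectGroup_map hM (QuotientGroup.mk'_surjective Z)
    (by rw [QuotientGroup.ker_mk']; exact h.pgp) hB
  have h4 : dom Z B = b := by
    refine Set.Subset.antisymm (fun ψ hψ => ?_) h2
    obtain ⟨χ, hχ⟩ := H33.block_nonempty h1
    refine H33.mem_of_sameBlock h1 hχ (((S0941.result p M hM Z h.pgp ⟨0, ?_⟩).1 χ ψ).2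
      (H33.sameBlock_of_mem hB (h2 hχ) hψ))
    rw [pow_zero, index_eq_one, eq_top_iff]
    exact fun g _ z hz => (mem_center_iff.1 (h.cen hz) g).symm
  exact h4 ▸ ⟨h1, fun D hD => (h3 _).2 ⟨D, hD, rfl⟩⟩

theorem blk_inf_iff (hM : IsPModular p M) (hB : IsPBlock M B) (i : IBr M (G ⧸ Z)) :
    (i.inf (QuotientGroup.mk' Z)).blk = B ↔ i.blk = dom Z B := by
  obtain ⟨χ, h1, h2⟩ := exists_mem_blk_dec i
  have h3 : dec (infl (QuotientGroup.mk'_surjective Z) χ : G → ℂ) (i.inf (QuotientGroup.mk' Z)) ≠ 0 :=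
    by rwa [← dec_comp_inf (H5.isCharacter_of_isIrr χ.2) (QuotientGroup.mk'_surjective Z)] at h2
  exact ⟨fun h4 => blk_eq_of_dec (h.isPBlock_dom hM hB).1 (show _ ∈ B from h4 ▸ mem_blk_of_dec h3) h2,
    fun h4 => blk_eq_of_dec hB (show χ ∈ dom Z B from h4 ▸ h1) h3⟩

theorem rank_dom (hM : IsPModular p M) (hB : IsPBlock M B) :
    blockRank p (dom Z B) = blockRank p B := by
  rw [blockRank_eq_card hM hB, blockRank_eq_card hM (h.isPBlock_dom hM hB).1]
  refine Finset.card_bij (fun i _ => i.inf (QuotientGroup.mk' Z))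
    (fun i hi => mem_ibrOf.2 ((h.blk_inf_iff hM hB i).2 (mem_ibrOf.1 hi)))
    (fun _ _ _ _ => fun e => IBr.inf_injective (QuotientGroup.mk'_surjective Z) e) fun j hj => ?_
  obtain ⟨i, rfl⟩ := h.exists_inf_eq hM j
  exact ⟨i, mem_ibrOf.2 ((h.blk_inf_iff hM hB i).1 (mem_ibrOf.1 hj)), rfl⟩

omit h in
theorem _root_.Cfsg.Agent.H87.blockPart_lif (hM : IsPModular p M) (hB : IsPBlock M B)
    (hf : IsClassFunction (G ⧸ Z) f) : blockPart B (lif p f) = lif p (blockPart (dom Z B) f) := by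
  have := Fintype.ofFinite G
  have := Fintype.ofFinite (G ⧸ Z)
  rw [H5.classFunction_eq_sum hf, blockPart_sum, lif_sum, lif_sum, blockPart_sum]
  refine Finset.sum_congr rfl fun ψ _ => ?_
  rw [lif_smul, blockPart_smul, blockPart_smul, lif_smul]
  congr 1
  change blockPart B (pRegularPart p (infl (QuotientGroup.mk'_surjective Z) ψ : G → ℂ)) = _
  rw [blockPart_reg hM hB]
  by_cases h1 : ψ ∈ dom Z B
  · rw [blockPart_irr_of_mem h1, blockPart_irr_of_mem (show _ ∈ B from h1)]
    rfl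
  · rw [blockPart_irr_of_notMem h1, blockPart_irr_of_notMem (show _ ∉ B from h1)]
    rfl

theorem card_map_mul {D : Subgroup G} (hD : Z ≤ D) :
    Nat.card (D.map (QuotientGroup.mk' Z)) * Nat.card Z = Nat.card D := by
  rw [← card_map_mul_card_inf_ker (QuotientGroup.mk' Z) D, QuotientGroup.ker_mk', inf_eq_left.2 hD]

end CZ

end Cfsg.Agent.H87
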