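import Cfsg.Agent.H87.Tr

/-!
# Blocks with cyclic defect group: the local algebra

`CX C b x j n`: the block `kCb` is a matrix algebra over `k[x] / (x ^ (n + 1))`.
`CT`: the extension to the inertial group `T = ⟨t⟩ C`.
-/

set_option autoImplicit false
set_option linter.style.haveILetI false
set_option linter.unusedSectionVars false

open MonoidAlgebra

namespace Cfsg.Agent.H87

section Ring
variable {k A : Type*} [Field k] [Ring A] [Algebra k A] {x : A}

theorem adjoin_decomp {h : A} (hh : h ∈ Algebra.adjoin k {x}) :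
    ∃ c : k, ∃ h' ∈ Algebra.adjoin k {x}, h = c • 1 + x * h' := by
  rw [Algebra.adjoin_singleton_eq_range_aeval] at hh ⊢
  obtain ⟨f, rfl⟩ := hh
  refine ⟨f.coeff 0, Polynomial.aeval x f.divX, ⟨_, rfl⟩, ?_⟩
  show Polynomial.aeval x f = _
  conv_lhs => rw [← f.X_mul_divX_add, map_add, map_mul, Polynomial.aeval_X, Polynomial.aeval_C,
    Algebra.algebraMap_eq_smul_one, add_comm]

/-- If `f` maps `ker x ^ n` into `im x` on all simple modules of the block `a`, then a power of `f`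
lies in `xA + Ax`. -/
theorem ring_R {f g g' c c' a : A} {n N : ℕ} (hg : f * x = x * g) (hg' : x ^ n * f = g' * x ^ n)
    (hx : x ^ (n + 1) = 0) (ha : ∃ z, x ^ n * a = z * x)
    (hr : (f - x * c - c' * x ^ n) ^ N * a = 0) : ∃ z z', f ^ N * a = x * z + z' * x := by
  set r := f - x * c - c' * x ^ n with hrd
  have hL : ∀ m a, (∃ z z', a = x * z + z' * x) → ∃ z z', f ^ m * a = x * z + z' * x := by
    intro m a ⟨z, z', h⟩
    induction m with
    | zero => exact ⟨z, z', by rw [pow_zero, one_mul, h]⟩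
    | succ m ih =>
      obtain ⟨w, w', hw⟩ := ih
      exact ⟨g * w, f * w', by
        rw [pow_succ', mul_assoc, hw, mul_add, ← mul_assoc, hg, mul_assoc, mul_assoc]⟩
  have key : ∀ m a, (∃ z, x ^ n * a = z * x) →
      ∃ z z', f ^ m * a = r ^ m * a + (x * z + z' * x) := by
    intro m
    induction m with
    | zero => exact fun a _ => ⟨0, 0, by simp⟩
    | succ m ih =>
      intro a ⟨z, hz⟩
      have h1 : f * a = r * a + (x * (c * a) + c' * z * x) := by
        rw [hrd, mul_assoc c', ← hz]; noncomm_ring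
      have h2 : x ^ n * (r * a) = (g' * z - x ^ n * c' * z) * x := by
        rw [hrd, sub_mul, sub_mul, mul_sub, mul_sub, mul_assoc x, ← mul_assoc (x ^ n) x, ← pow_succ,
          hx, ← mul_assoc, hg', mul_assoc g', mul_assoc c', hz]
        noncomm_ring
      obtain ⟨w, w', hw⟩ := ih _ ⟨_, h2⟩
      obtain ⟨v, v', hv⟩ := hL m _ ⟨c * a, c' * z, rfl⟩
      exact ⟨w + v, w' + v', by
        rw [pow_succ, mul_assoc, h1, mul_add, hw, hv, pow_succ]; noncomm_ring⟩
  obtain ⟨z, z', h⟩ := key N a ha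
  exact ⟨z, z', by rw [h, hr, zero_add]⟩

end Ring

variable {k : Type*} [Field k] {G : Type*} [Group G] {C T H : Subgroup G} {a a' b x j : k[G]}
  {n : ℕ}

/-- `a ∈ x kH`. -/
def XI (H : Subgroup G) (x a : k[G]) : Prop := ∃ z, Supp H z ∧ a = x * z

theorem xi_zero : XI H x 0 := ⟨0, supp_zero, (mul_zero _).symm⟩

theorem XI.add (h : XI H x a) (h' : XI H x a') : XI H x (a + a') := by
  obtain ⟨z, hz, rfl⟩ := h
  obtain ⟨z', hz', rfl⟩ := h'
  exact ⟨z + z', hz.add hz', (mul_add _ _ _).symm⟩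

theorem XI.smul (h : XI H x a) (c : k) : XI H x (c • a) := by
  obtain ⟨z, hz, rfl⟩ := h
  exact ⟨c • z, hz.smul c, (mul_smul_comm _ _ _).symm⟩

theorem XI.sub (h : XI H x a) (h' : XI H x a') : XI H x (a - a') := by
  simpa only [neg_smul, one_smul, ← sub_eq_add_neg] using h.add (h'.smul (-1))

theorem XI.mul_right (h : XI H x a) (h' : Supp H a') : XI H x (a * a') := by
  obtain ⟨z, hz, rfl⟩ := h
  exact ⟨z * a', hz.mul h', mul_assoc _ _ _⟩

theorem XI.mono (h : XI H x a) (hH : H ≤ T) : XI T x a :=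
  h.imp fun _ hz => ⟨hz.1.mono hH, hz.2⟩

theorem xi_sum {ι : Type*} {s : Finset ι} {f : ι → k[G]} (h : ∀ i ∈ s, XI H x (f i)) :
    XI H x (∑ i ∈ s, f i) :=
  Finset.sum_induction f (XI H x) (fun _ _ => XI.add) xi_zero h

theorem XI.trunc (h : XI H x a) (hx : Supp C x) : XI C x (trunc (C : Set G) a) := by
  obtain ⟨z, -, rfl⟩ := h
  exact ⟨_, supp_trunc C z, trunc_mul_left hx z⟩

/-- The block `kCb` is a matrix algebra over `k[x] / (x ^ (n + 1))`. -/
structure CX (C : Subgroup G) (b x j : k[G]) (n : ℕ) : Prop where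
  bf : b ∈ fix k C C
  xf : x ∈ fix k C C
  xb : x * b = x
  nil : x ^ (n + 1) = 0
  ne : x ^ n * j ≠ 0
  pos : 0 < n
  js : Supp C j
  ji : IsIdempotentElem j
  jb : b * j = j
  loc : ∀ z, Supp C z → ∃ h ∈ Algebra.adjoin k {x}, j * z * j = h * j
  mor : ∃ (ι : Type) (_ : Fintype ι) (a a' : ι → k[G]),
    (∀ s, Supp C (a s) ∧ Supp C (a' s) ∧ a s * j = a s ∧ j * a' s = a' s) ∧ ∑ s, a s * a' s = b

namespace CX
variable (h : CX C b x j n)
include h

theorem adj_mem {z : k[G]} (hz : z ∈ Algebra.adjoin k {x}) : z ∈ fix k C C :=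
  Algebra.adjoin_le (Set.singleton_subset_iff.2 h.xf) hz

theorem xi_left (ha : XI C x a) (h' : Supp C a') : XI C x (a' * a) := by
  obtain ⟨z, hz, rfl⟩ := ha
  exact ⟨a' * z, h'.mul hz, by rw [← mul_assoc, h'.comm h.xf.2, mul_assoc]⟩

theorem loc' {z : k[G]} (hz : Supp C z) : ∃ c : k, XI C x (j * z * j - c • j) := by
  obtain ⟨g, hg, h1⟩ := h.loc z hz
  obtain ⟨c, g', hg', rfl⟩ := adjoin_decomp hg
  exact ⟨c, g' * j, (h.adj_mem hg').1.mul h.js, by rw [h1]; simp [add_mul, mul_assoc]⟩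

theorem pow_mul_xi (ha : XI H x a) : x ^ n * a = 0 := by
  obtain ⟨z, -, rfl⟩ := ha
  rw [← mul_assoc, ← pow_succ, h.nil, zero_mul]

theorem xi_of_corner {z : k[G]} (hz : Supp C z) (h0 : x ^ n * (j * z * j) = 0) :
    XI C x (j * z * j) := by
  obtain ⟨c, hc⟩ := h.loc' hz
  have := h.pow_mul_xi hc
  rw [mul_sub, h0, zero_sub, mul_smul_comm, neg_eq_zero, smul_eq_zero] at this
  simpa only [this.resolve_right h.ne, zero_smul, sub_zero] using hc

/-- The annihilator of `x ^ n` in `kCb` is `x kC`. -/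
theorem xi_of_ann (ha : Supp C a) (hb : b * a = a) (h0 : x ^ n * a = 0) : XI C x a := by
  obtain ⟨ι, _, f, f', hf, hs⟩ := h.mor
  have : a = ∑ s, ∑ t, f s * (j * (f' s * a * f t) * j) * f' t := by
    conv_lhs => rw [← hb, ← hb, ← ha.comm h.bf.2, ← hs, Finset.sum_mul]
    refine Finset.sum_congr rfl fun s _ => ?_
    rw [Finset.mul_sum, Finset.mul_sum]
    refine Finset.sum_congr rfl fun t _ => ?_
    rw [← mul_assoc j, ← mul_assoc j, (hf s).2.2.2, mul_assoc _ _ j, (hf t).2.2.1]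
    simp only [mul_assoc]
  rw [this]
  refine xi_sum fun s _ => xi_sum fun t _ => (h.xi_left (h.xi_of_corner
    (((hf s).2.1.mul ha).mul (hf t).1) ?_) (hf s).1).mul_right (hf t).2.1
  rw [← mul_assoc j, ← mul_assoc j, ← mul_assoc, ← mul_assoc, ← mul_assoc,
    ← (h.js.mul (hf s).2.1).comm (h.xf.2.pow n), mul_assoc _ _ a, h0]
  simp

theorem xi_pow (ha : XI C x a) : a ^ (n + 1) = 0 := by
  obtain ⟨z, hz, rfl⟩ := ha
  rw [(show Commute x z from (hz.comm h.xf.2).symm).mul_pow, h.nil, zero_mul]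

theorem j_ne : j ≠ 0 := fun h0 => h.ne (by rw [h0, mul_zero])

theorem not_xi : ¬ XI C x j := fun hj => h.j_ne (h.ji.pow_succ_eq n ▸ h.xi_pow hj)

theorem xi_of_nilpotent (ha : a ∈ fix k C C) (hb : b * a = a) (hn : IsNilpotent a) : XI C x a := by
  obtain ⟨c, z, hz, hc⟩ := h.loc' ha.1
  have hja : j * a * j = a * j := by rw [h.js.comm ha.2, mul_assoc, h.ji.eq]
  have h1 : IsNilpotent (c • j) := by
    rw [show c • j = a * j - x * z by rw [← hc, hja, sub_sub_cancel]]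
    refine Commute.isNilpotent_sub ?_
      ((show Commute a j from (h.js.comm ha.2).symm).isNilpotent_mul_right hn)
      ⟨_, h.xi_pow ⟨z, hz, rfl⟩⟩
    rw [← hc, hja]
    exact (Commute.refl _).sub_right (Commute.smul_right
      ((show Commute a j from (h.js.comm ha.2).symm).mul_left (Commute.refl j)) c)
  have hc0 : c = 0 := by
    obtain ⟨m, hm⟩ := h1
    have : (c • j) ^ (m + 1) = 0 := by rw [pow_succ, hm, zero_mul]
    rw [smul_pow, h.ji.pow_succ_eq, smul_eq_zero] at this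
    exact eq_zero_of_pow_eq_zero (this.resolve_right h.j_ne)
  rw [hc0, zero_smul, sub_zero, hja] at hc
  obtain ⟨ι, _, f, f', hf, hs⟩ := h.mor
  rw [← hb, ← hs, Finset.sum_mul]
  refine xi_sum fun s _ => ?_
  rw [mul_assoc, (hf s).2.1.comm ha.2, ← (hf s).2.2.2, ← mul_assoc a]
  exact h.xi_left (XI.mul_right ⟨z, hz, hc⟩ (hf s).2.1) (hf s).1

variable (hT : T ≤ No C) (hb : Inv T b)
include hT hb

theorem xi_cj {t : G} (ht : t ∈ T) : XI C x (cj t x) :=
  h.xi_of_nilpotent ⟨h.xf.1.cj_of_No (hT ht), h.xf.2.cj_of_No (hT ht)⟩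
    (by rw [← hb t ht, ← map_mul, h.bf.1.comm h.xf.2, h.xb]) ⟨n + 1, by rw [← map_pow, h.nil, map_zero]⟩

variable (hCT : C ≤ T)
include hCT

theorem xi_mul_x (ha : Supp T a) : XI T x (a * x) := by
  refine ha.induction (fun a => XI T x (a * x)) (by simpa using xi_zero)
    (fun a b h1 h2 => by simpa only [add_mul] using h1.add h2) fun g hg c => ?_
  have : of k G g * x = cj g x * of k G g := by rw [cj_eq_of, mul_assoc, sig_inv_mul, mul_one]
  rw [smul_mul_assoc, this]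
  exact (((h.xi_cj hT hb hg).mono hCT).mul_right (supp_of hg)).smul c

theorem exists_x_mul (ha : Supp T a) : ∃ z, Supp T z ∧ x * a = z * x := by
  refine ha.induction (fun a => ∃ z, Supp T z ∧ x * a = z * x) ⟨0, supp_zero, by simp⟩
    (fun a b ⟨z, hz, h1⟩ ⟨z', hz', h2⟩ => ⟨z + z', hz.add hz', by rw [mul_add, add_mul, h1, h2]⟩)
    fun g hg c => ?_
  obtain ⟨z, hz, h1⟩ := h.xi_cj hT hb (T.inv_mem hg)
  refine ⟨c • (of k G g * z), ((supp_of hg).mul (hz.mono hCT)).smul c, ?_⟩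
  rw [mul_smul_comm, smul_mul_assoc, mul_assoc, hz.comm h.xf.2, ← h1, cj_eq_of, inv_inv,
    ← mul_assoc, ← mul_assoc, sig_mul_inv, one_mul]

theorem exists_pow_mul (ha : Supp T a) (m : ℕ) : ∃ z, Supp T z ∧ x ^ m * a = z * x ^ m := by
  induction m with
  | zero => exact ⟨a, ha, by simp⟩
  | succ m ih =>
    obtain ⟨z, hz, h1⟩ := ih
    obtain ⟨z', hz', h2⟩ := h.exists_x_mul hT hb hCT hz
    exact ⟨z', hz', by rw [pow_succ', mul_assoc, h1, ← mul_assoc, h2, mul_assoc]⟩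

theorem xi_leftT (ha : XI T x a) (h' : Supp T a') : XI T x (a' * a) := by
  obtain ⟨z, hz, rfl⟩ := ha
  rw [← mul_assoc]
  exact (h.xi_mul_x hT hb hCT h').mul_right hz

end CX

/-- The extension to the inertial group. -/
structure CT (C T : Subgroup G) (b x j : k[G]) (n : ℕ) (t : G) (e : ℕ) (y y' : k[G]) (c : k) :
    Prop extends CX C b x j n where
  le : C ≤ T
  norm : T ≤ No C
  inv : Inv T b
  mem : t ∈ T
  gen : ∀ g ∈ T, ∃ i : ℕ, (t ^ i)⁻¹ * g ∈ C
  pow_mem : ∀ i : ℕ, t ^ i ∈ C ↔ e ∣ i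
  ne_zero : (e : k) ≠ 0
  rel : C.relIndex T = e
  hy : ∃ z, Supp C z ∧ y = z * of k G t
  hy' : ∃ z, Supp C z ∧ y' = of k G t⁻¹ * z
  jy : j * y = y
  yj : y * j = y
  yy' : y * y' = j
  y'y : y' * y = j
  jy' : j * y' = y'
  hc : XI C x (y ^ e - c • j)

theorem CX.exists_CT (h : CX C b x j n) (hCT : C ≤ T) (hT : T ≤ No C) (hb : Inv T b) {t : G}
    (ht : t ∈ T) (hg : ∀ g ∈ T, ∃ i : ℕ, (t ^ i)⁻¹ * g ∈ C) {e : ℕ} (he : ∀ i : ℕ, t ^ i ∈ C ↔ e ∣ i)
    (he0 : (e : k) ≠ 0) (hr : C.relIndex T = e) (h1 : Supp C a) (h2 : Supp C a') (h3 : a * a' = j) (h4 : a' * a = cj t j) :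
    ∃ y y' c, CT C T b x j n t e y y' c := by
  have hj := h.ji.eq
  have h5 : of k G t⁻¹ * (a' * a) * of k G t = j := by
    rw [h4, cj_eq_of, ← mul_assoc, ← mul_assoc, sig_inv_mul, one_mul, mul_assoc, sig_inv_mul,
      mul_one]
  have h6 : j * a * of k G t * j = j * a * of k G t := by
    rw [← h5, ← mul_assoc, ← mul_assoc, mul_assoc _ _ (of k G t⁻¹), sig_mul_inv, mul_one, h5,
      ← mul_assoc, mul_assoc j a, h3, hj]
  have h7 : j * (of k G t⁻¹ * (a' * j)) = of k G t⁻¹ * (a' * j) := by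
    conv_lhs => rw [← h5]
    rw [mul_assoc, ← mul_assoc (of k G t), sig_mul_inv, one_mul, h5, mul_assoc, mul_assoc,
      ← mul_assoc a, h3, hj]
  obtain ⟨m, rfl⟩ : ∃ m, e = m + 1 := Nat.exists_eq_succ_of_ne_zero fun h0 => he0 (by simp [h0])
  have h8 : ∀ i : ℕ, ∃ z, Supp C z ∧ (j * a * of k G t) ^ i = z * of k G (t ^ i) := by
    intro i
    induction i with
    | zero => exact ⟨1, supp_one C, by simp [one_def]⟩
    | succ i ih =>
      obtain ⟨z, hz, h1'⟩ := ih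
      refine ⟨z * cj (t ^ i) (j * a), hz.mul ((h.js.mul h1).cj_of_No (hT (T.pow_mem ht i))), ?_⟩
      rw [pow_succ, h1', pow_succ, map_mul (of k G), cj_eq_of, mul_assoc z (_ * _ * _),
        mul_assoc (_ * _) (of k G (t ^ i)⁻¹), ← mul_assoc (of k G (t ^ i)⁻¹), sig_inv_mul, one_mul]
      simp only [mul_assoc]
  obtain ⟨z, hz, h9⟩ := h8 (m + 1)
  obtain ⟨c, hc⟩ := h.loc' (hz.mul (supp_of ((he _).2 dvd_rfl)))
  refine ⟨j * a * of k G t, of k G t⁻¹ * (a' * j), c, h, hCT, hT, hb, ht, hg, he, he0, hr,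
    ⟨_, h.js.mul h1, rfl⟩, ⟨_, h2.mul h.js, rfl⟩, by rw [← mul_assoc, ← mul_assoc, hj], h6, ?_, ?_,
    h7, ?_⟩
  · rw [mul_assoc, ← mul_assoc (of k G t), sig_mul_inv, one_mul, mul_assoc, ← mul_assoc a, h3, hj,
      hj]
  · rw [← h5]
    conv_lhs => rw [h5, ← h3]
    have : a' * a * (a' * a) * (a' * a) = a' * a := by
      rw [h4, ← map_mul, ← map_mul, hj, hj]
    conv_rhs => rw [← this]
    simp only [mul_assoc]
  · rwa [← h9, pow_succ', ← mul_assoc, ← mul_assoc, ← mul_assoc, hj, ← pow_succ', pow_succ,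
      mul_assoc, h6, ← pow_succ] at hc

end Cfsg.Agent.H87
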