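import Cfsg.Agent.H87.CycA
import Cfsg.Agent.H35.BrauerCore

/-!
# Blocks with cyclic defect group: eigenvectors of `y` on `ker x ^ n / im x`
-/

set_option autoImplicit false
set_option linter.style.haveILetI false
set_option linter.unusedSectionVars false

open MonoidAlgebra

namespace Cfsg.Agent.H87

variable {k : Type*} [Field k] {G : Type*} [Group G] {C T H : Subgroup G} {a a' b x j y y' : k[G]}
  {n e : ℕ} {t : G} {c ω ω' : k}

/-- The element projecting onto the `ω`-eigenspace of `y`. -/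
noncomputable def FF (y : k[G]) (e : ℕ) (ω : k) : k[G] :=
  ∑ i ∈ Finset.range e, ω ^ (e - 1 - i) • y ^ (i + 1)

theorem sub_mul_FF (y : k[G]) (e : ℕ) (ω : k) :
    y * FF y e ω - ω • FF y e ω = (y ^ e - ω ^ e • 1) * y := by
  have h := (Commute.mul_geom_sum₂ (x := y) (y := ω • (1 : k[G])) (by simp [Commute, SemiconjBy]) e)
  rw [smul_pow, one_pow] at h
  rw [← h, mul_assoc, Finset.sum_mul, sub_mul, smul_mul_assoc, one_mul]
  simp only [FF, smul_pow, one_pow, mul_smul_comm, mul_one, smul_mul_assoc, pow_succ]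

namespace CT
variable (h : CT C T b x j n t e y y' c)
include h

theorem y_pow (i : ℕ) : ∃ z, Supp C z ∧ y ^ i = z * of k G (t ^ i) := by
  obtain ⟨a, ha, h1⟩ := h.hy
  induction i with
  | zero => exact ⟨1, supp_one C, by simp [one_def]⟩
  | succ i ih =>
    obtain ⟨z, hz, h2⟩ := ih
    refine ⟨z * cj (t ^ i) a, hz.mul (ha.cj_of_No (h.norm (T.pow_mem h.mem i))), ?_⟩
    rw [pow_succ, h2, h1, pow_succ, map_mul (of k G), cj_eq_of, mul_assoc z (_ * _ * _),
      mul_assoc (_ * _) (of k G (t ^ i)⁻¹), ← mul_assoc (of k G (t ^ i)⁻¹), sig_inv_mul, one_mul]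
    simp only [mul_assoc]

theorem y'_pow (i : ℕ) : ∃ z, Supp C z ∧ y' ^ i = of k G (t ^ i)⁻¹ * z := by
  obtain ⟨a, ha, h1⟩ := h.hy'
  induction i with
  | zero => exact ⟨1, supp_one C, by simp [one_def]⟩
  | succ i ih =>
    obtain ⟨z, hz, h2⟩ := ih
    refine ⟨cj (t ^ i) a * z, (ha.cj_of_No (h.norm (T.pow_mem h.mem i))).mul hz, ?_⟩
    rw [pow_succ', h2, h1, pow_succ, mul_inv_rev, map_mul (of k G), cj_eq_of, mul_assoc (_ * _),
      mul_assoc (of k G t⁻¹), mul_assoc (of k G t⁻¹), mul_assoc (of k G (t ^ i)),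
      ← mul_assoc (of k G (t ^ i)⁻¹), sig_inv_mul, one_mul]

theorem supp_y : Supp T y := by
  obtain ⟨a, ha, h1⟩ := h.hy
  exact h1 ▸ (ha.mono h.le).mul (supp_of h.mem)

theorem supp_y' : Supp T y' := by
  obtain ⟨a, ha, h1⟩ := h.hy'
  exact h1 ▸ (supp_of (T.inv_mem h.mem)).mul (ha.mono h.le)

theorem pow_mul_pow (i : ℕ) : y ^ (i + 1) * y' ^ (i + 1) = j := by
  induction i with
  | zero => simpa using h.yy'
  | succ i ih =>
    rw [pow_succ y, pow_succ' y', mul_assoc, ← mul_assoc y, h.yy', pow_succ' y', ← mul_assoc j,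
      h.jy', ← pow_succ', ih]

theorem pow_mul_pow' (i : ℕ) : y' ^ (i + 1) * y ^ (i + 1) = j := by
  induction i with
  | zero => simpa using h.y'y
  | succ i ih =>
    rw [pow_succ y', pow_succ' y, mul_assoc, ← mul_assoc y', h.y'y, pow_succ' y, ← mul_assoc j,
      h.jy, ← pow_succ', ih]

theorem e_pos : 0 < e := Nat.pos_of_ne_zero fun h0 => h.ne_zero (by simp [h0])

theorem xi_left' (ha : XI T x a) (h' : Supp T a') : XI T x (a' * a) :=
  h.xi_leftT h.norm h.inv h.le ha h'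

theorem not_xi' : ¬ XI T x j := fun hj => h.not_xi (h.js.trunc_eq ▸ hj.trunc h.xf.1)

theorem not_xi_pow : ¬ XI T x (y ^ e) := fun h1 => h.not_xi' (by
  obtain ⟨m, rfl⟩ := Nat.exists_eq_succ_of_ne_zero h.e_pos.ne'
  exact h.pow_mul_pow m ▸ h1.mul_right (h.supp_y'.pow _))

theorem c_ne : c ≠ 0 := fun h0 => h.not_xi_pow (by simpa [h0] using h.hc.mono h.le)

theorem supp_FF (ω : k) : Supp T (FF y e ω) := supp_sum fun _ _ => (h.supp_y.pow _).smul _

theorem j_FF (ω : k) : j * FF y e ω = FF y e ω := by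
  simp only [FF, Finset.mul_sum, mul_smul_comm, pow_succ', ← mul_assoc, h.jy]

theorem xi_FF (hω : ω ^ e = c) : XI T x (y * FF y e ω - ω • FF y e ω) := by
  have := (h.hc.mono h.le).mul_right h.supp_y
  rwa [sub_mul_FF, hω, sub_mul, smul_mul_assoc, one_mul, ← h.jy, ← smul_mul_assoc, h.jy, ← sub_mul]

theorem xi_pow_FF (hω : ω ^ e = c) (i : ℕ) : XI T x (y ^ i * FF y e ω - ω ^ i • FF y e ω) := by
  induction i with
  | zero => simpa using xi_zero
  | succ i ih =>
    have := (h.xi_left' ih h.supp_y).add ((h.xi_FF hω).smul (ω ^ i))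
    rwa [mul_sub, mul_smul_comm, smul_sub, sub_add_sub_cancel, ← mul_assoc, ← pow_succ', smul_smul,
      ← pow_succ] at this

theorem xi_FF_pow (hω : ω ^ e = c) (N : ℕ) :
    XI T x (FF y e ω ^ (N + 1) - ((e : k) * c) ^ N • FF y e ω) := by
  have h1 : XI T x (FF y e ω * FF y e ω - ((e : k) * c) • FF y e ω) := by
    have := xi_sum (s := Finset.range e) fun i _ => (h.xi_pow_FF hω (i + 1)).smul (ω ^ (e - 1 - i))
    simp only [smul_sub, Finset.sum_sub_distrib, ← smul_mul_assoc, ← Finset.sum_mul, smul_smul]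
      at this
    rwa [Finset.sum_congr rfl (f := fun i => (ω ^ (e - 1 - i) * ω ^ (i + 1)) • FF y e ω)
      (g := fun _ => c • FF y e ω) (fun i hi => by
      rw [← pow_add, ← hω, show e - 1 - i + (i + 1) = e by rw [Finset.mem_range] at hi; omega]),
      Finset.sum_const, Finset.card_range, ← Nat.cast_smul_eq_nsmul k, smul_smul] at this
  induction N with
  | zero => simpa using xi_zero
  | succ N ih =>
    have := (h.xi_left' ih (h.supp_FF ω)).add (h1.smul (((e : k) * c) ^ N))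
    rwa [mul_sub, mul_smul_comm, smul_sub, sub_add_sub_cancel, ← pow_succ', smul_smul,
      ← pow_succ] at this

theorem trunc_FF (ω : k) : trunc (C : Set G) (FF y e ω) = y ^ e := by
  have he := h.e_pos
  rw [FF, map_sum, Finset.sum_eq_single (e - 1)]
  · obtain ⟨z, hz, h1⟩ := h.y_pow e
    rw [Nat.sub_self, pow_zero, one_smul, Nat.sub_add_cancel he, h1,
      (hz.mul (supp_of ((h.pow_mem e).2 dvd_rfl))).trunc_eq]
  · intro i hi h1
    obtain ⟨z, hz, h2⟩ := h.y_pow (i + 1)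
    rw [map_smul, h2, trunc_mul_left hz, trunc_eq_zero_iff.2, mul_zero, smul_zero]
    intro g hg
    rw [of_apply, coeff_single, Finsupp.single_eq_of_ne]
    rintro rfl
    have := Nat.le_of_dvd i.succ_pos ((h.pow_mem _).1 hg)
    rw [Finset.mem_range] at hi
    omega
  · exact fun h1 => absurd (Finset.mem_range.2 (by omega)) h1

theorem not_xi_FF_pow (hω : ω ^ e = c) (N : ℕ) : ¬ XI T x (FF y e ω ^ (N + 1)) := fun h1 => by
  have h2 := ((h1.sub (h.xi_FF_pow hω N)).smul (((e : k) * c) ^ N)⁻¹).trunc h.xf.1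
  rw [sub_sub_cancel, smul_smul, inv_mul_cancel₀ (pow_ne_zero _ (mul_ne_zero h.ne_zero h.c_ne)),
    one_smul, h.trunc_FF] at h2
  exact h.not_xi_pow (h2.mono h.le)

/-- `FF ω` cannot map `ker x ^ n` into `im x` on all simple modules of a block `a` whose
truncation to `T` is invertible in `kTb`. -/
theorem not_nilpotent (hω : ω ^ e = c) (ha : Inv ⊤ a) {u : k[G]} (hu : Supp T u)
    (hau : trunc (T : Set G) a * u = b) (d d' : k[G]) (N : ℕ) :
    (FF y e ω - x * d - d' * x ^ n) ^ (N + 1) * a ≠ 0 := fun h0 => by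
  obtain ⟨g, -, hg⟩ := h.xi_mul_x h.norm h.inv h.le (h.supp_FF ω)
  obtain ⟨g', -, hg'⟩ := h.exists_pow_mul h.norm h.inv h.le (h.supp_FF ω) n
  obtain ⟨m, hm⟩ := Nat.exists_eq_succ_of_ne_zero h.pos.ne'
  obtain ⟨z, z', h1⟩ := ring_R hg hg' h.nil ⟨a * x ^ m, by
    rw [(supp_top _).comm ha, hm, pow_succ, mul_assoc]⟩ h0
  have h2 := congrArg (fun w => trunc (T : Set G) w * u) h1
  simp only [trunc_mul_left ((h.supp_FF ω).pow _), map_add, trunc_mul_left (h.xf.1.mono h.le),
    trunc_mul_right (h.xf.1.mono h.le), mul_assoc, hau] at h2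
  rw [((h.supp_FF ω).pow _).comm h.inv, pow_succ', ← mul_assoc, ← h.j_FF, ← mul_assoc, h.jb,
    h.j_FF, ← pow_succ'] at h2
  exact h.not_xi_FF_pow hω N (h2 ▸ (XI.add ⟨_, supp_trunc T z, rfl⟩
    (h.xi_mul_x h.norm h.inv h.le (supp_trunc T z'))).mul_right hu)

end CT

section Module
variable {V : Type*} [AddCommGroup V] [Module k V] (ρ : k[G] →ₐ[k] Module.End k V)

/-- The representation attached to a module. -/
noncomputable abbrev rp : G →* Module.End k V := (ρ : k[G] →* Module.End k V).comp (of k G)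

theorem rp_apply (g : G) : rp ρ g = ρ (of k G g) := rfl

variable {ρ} {q : Module.End k V} {v w : V}

theorem Cm.comm (hq : Cm (rp ρ) H q) (ha : Supp H a) : ρ a * q = q * ρ a :=
  ha.induction (fun a => ρ a * q = q * ρ a) (by simp)
    (fun a b h1 h2 => by rw [map_add, add_mul, mul_add, h1, h2]) fun g hg c => by
      rw [map_smul, smul_mul_assoc, mul_smul_comm, ← rp_apply, hq g hg]

theorem cm_rho (ha : Inv H a) : Cm (rp ρ) H (ρ a) := fun g hg => by
  rw [rp_apply, ← map_mul, ← map_mul, (supp_of hg).comm ha]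

theorem XI.apply_mem (ha : XI H x a) (v : V) : ρ a v ∈ LinearMap.range (ρ x) := by
  obtain ⟨z, -, rfl⟩ := ha
  exact ⟨ρ z v, by rw [map_mul]; rfl⟩

theorem CT.smodeq (h : CT C T b x j n t e y y' c) (ha : Supp T a)
    (h1 : v ≡ w [SMOD LinearMap.range (ρ x)]) : ρ a v ≡ ρ a w [SMOD LinearMap.range (ρ x)] := by
  rw [SModEq.sub_mem] at h1 ⊢
  obtain ⟨u, hu⟩ := h1
  rw [← map_sub, ← hu, ← Module.End.mul_apply, ← map_mul]
  exact (h.xi_mul_x h.norm h.inv h.le ha).apply_mem u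

/-- Extension of an endomorphism commuting with `x` to a `C`-endomorphism. -/
theorem CX.exists_ext (h : CX C b x j n) (hq : Commute (ρ x) q) :
    ∃ r, Cm (rp ρ) C r ∧ ρ b * r = r ∧ r * ρ j = ρ j * q * ρ j := by
  obtain ⟨ι, _, f, f', hf, hs⟩ := h.mor
  have hc : ∀ z ∈ Algebra.adjoin k {x}, Commute (ρ z) q := fun z hz =>
    Algebra.adjoin_induction (fun z hz => hz ▸ hq)
      (fun r => by rw [AlgHom.commutes]; exact Algebra.commute_algebraMap_left r q)
      (fun _ _ _ _ h1 h2 => map_add ρ _ _ ▸ h1.add_left h2)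
      (fun _ _ _ _ h1 h2 => map_mul ρ _ _ ▸ h1.mul_left h2) hz
  have key : ∀ z, Supp C z → j * z = z → z * j = z →
      ρ z * (ρ j * q * ρ j) = ρ j * q * ρ j * ρ z := fun z hz h1 h2 => by
    obtain ⟨g, hg, h3⟩ := h.loc z hz
    rw [h1, h2] at h3
    rw [← mul_assoc, ← mul_assoc, ← map_mul, h2, mul_assoc _ (ρ j), ← map_mul, h1, h3, map_mul,
      ← mul_assoc, mul_assoc (ρ j), ← (hc g hg).eq, ← mul_assoc, ← map_mul, ← map_mul,
      h.js.comm (h.adj_mem hg).2]
  have hb : ∀ s, b * f s = f s ∧ f' s * b = f' s := fun s => ⟨by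
    rw [← (hf s).1.comm h.bf.2, ← (hf s).2.2.1, mul_assoc, h.js.comm h.bf.2, h.jb], by
    rw [(hf s).2.1.comm h.bf.2, ← (hf s).2.2.2, ← mul_assoc, h.jb]⟩
  refine ⟨∑ s, ρ (f s) * (ρ j * q * ρ j) * ρ (f' s), fun g hg => ?_, ?_, ?_⟩
  · have hz := supp_of (k := k) hg
    rw [rp_apply, Finset.mul_sum, Finset.sum_mul]
    calc _ = ∑ s, ∑ s', ρ (f s') * (ρ (f' s' * of k G g * f s) * (ρ j * q * ρ j)) * ρ (f' s) := by
          refine Finset.sum_congr rfl fun s _ => ?_
          simp only [← mul_assoc _ (ρ (_ * _ * _)), ← map_mul, ← Finset.sum_mul, ← map_sum,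
            ← mul_assoc (f _), hs]
          rw [← hz.comm h.bf.2, mul_assoc (of k G g), (hb s).1, map_mul]
          simp only [mul_assoc]
      _ = _ := by
          rw [Finset.sum_comm]
          refine Finset.sum_congr rfl fun s' _ => ?_
          rw [Finset.sum_congr rfl fun s _ => by
            rw [key _ (((hf s').2.1.mul hz).mul (hf s).1)
              (by rw [← mul_assoc, ← mul_assoc, (hf s').2.2.2]) (by rw [mul_assoc, (hf s).2.2.1]),
              ← mul_assoc (ρ _), mul_assoc _ (ρ _), ← map_mul, mul_assoc _ (f s)]]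
          rw [← Finset.mul_sum, ← map_sum, ← Finset.mul_sum, hs, mul_assoc (f' s'), hz.comm h.bf.2,
            ← mul_assoc (f' s'), (hb s').2, map_mul, ← mul_assoc]
  · rw [Finset.mul_sum]
    exact Finset.sum_congr rfl fun s _ => by rw [← mul_assoc, ← mul_assoc, ← map_mul, (hb s).1]
  · rw [Finset.sum_mul, Finset.sum_congr rfl fun s _ => by
      rw [mul_assoc, mul_assoc, ← map_mul, ← key _ ((hf s).2.1.mul h.js)
        (by rw [← mul_assoc, (hf s).2.2.2]) (by rw [mul_assoc, h.ji.eq]), ← mul_assoc, ← map_mul,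
        ← mul_assoc (f s)], ← Finset.sum_mul, ← map_sum, ← Finset.sum_mul, hs, h.jb, ← mul_assoc,
      ← mul_assoc, ← map_mul, h.ji.eq]

end Module

end Cfsg.Agent.H87
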