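import Cfsg.Agent.H87.CycB
import Cfsg.Agent.H35.FreeSum
import Cfsg.Agent.H32.Wedd

/-!
# Blocks with cyclic defect group: the stable endomorphism argument
-/

set_option autoImplicit false
set_option linter.style.haveILetI false
set_option linter.unusedSectionVars false

open MonoidAlgebra

namespace Cfsg.Agent.H87

section LinAlg
variable {k V : Type*} [Field k] [AddCommGroup V] [Module k V]

theorem exists_ginv (Y : Module.End k V) : ∃ Y' : Module.End k V, Y * Y' * Y = Y := by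
  obtain ⟨g, hg⟩ := Y.rangeRestrict.exists_rightInverse_of_surjective Y.range_rangeRestrict
  obtain ⟨r, hr⟩ := (LinearMap.range Y).subtype.exists_leftInverse_of_injective
    (Submodule.ker_subtype _)
  refine ⟨g ∘ₗ r, LinearMap.ext fun v => ?_⟩
  have h1 : r (Y v) = ⟨Y v, v, rfl⟩ := LinearMap.congr_fun hr ⟨Y v, v, rfl⟩
  exact (congrArg (fun z => Y (g z)) h1).trans
    (congrArg Subtype.val (LinearMap.congr_fun hg ⟨Y v, v, rfl⟩))

theorem exists_factor {F X Y : Module.End k V} (h : ∀ s, Y s = 0 → F s ∈ LinearMap.range X) :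
    ∃ d d', F = X * d + d' * Y := by
  obtain ⟨X', hX⟩ := exists_ginv X
  obtain ⟨Y', hY⟩ := exists_ginv Y
  refine ⟨X' * F * (1 - Y' * Y), F * Y', LinearMap.ext fun v => ?_⟩
  obtain ⟨u, hu⟩ := h ((1 - Y' * Y) v) (by
    rw [← Module.End.mul_apply, mul_sub, ← mul_assoc, hY, mul_one, sub_self, LinearMap.zero_apply])
  have : (X * (X' * F * (1 - Y' * Y))) v = F ((1 - Y' * Y) v) := by
    simp only [Module.End.mul_apply]
    rw [← hu]; exact LinearMap.congr_fun hX u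
  rw [LinearMap.add_apply, this]
  simp

theorem exists_q {X : Module.End k V} {v : V} {n : ℕ} (hn : X ^ (n + 1) = 0)
    (hv : v ∉ LinearMap.range X) : ∃ (q : Module.End k V) (φ : Module.Dual k V), Commute X q ∧
      φ v ≠ 0 ∧ (∀ w ∈ LinearMap.range X, φ w = 0) ∧ ∀ w, q w ≡ φ w • v [SMOD LinearMap.range X] := by
  classical
  have hex : ∃ i, ∃ u, u ≡ v [SMOD LinearMap.range X] ∧ (X ^ (i + 1)) u = 0 :=
    ⟨n, v, SModEq.rfl, by rw [hn, LinearMap.zero_apply]⟩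
  obtain ⟨u, hu, hu0⟩ := Nat.find_spec hex
  have h1 : (X ^ Nat.find hex) u ∉ LinearMap.range (X ^ (Nat.find hex + 1)) := by
    rintro ⟨z, hz⟩
    have h2 : u - X z ≡ v [SMOD LinearMap.range X] :=
      (SModEq.sub_mem.2 (by simp)).trans hu
    have h3 : (X ^ Nat.find hex) (u - X z) = 0 := by rw [map_sub, ← hz, pow_succ]; simp
    rcases h : Nat.find hex with _ | m
    · rw [h, pow_zero, Module.End.one_apply] at h3
      rw [h3] at h2
      exact hv (SModEq.zero.1 h2.symm)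
    · exact Nat.find_min hex (m := m) (by omega) ⟨_, h2, h ▸ h3⟩
  obtain ⟨φ, hφ1, hφ2⟩ := Submodule.exists_dual_map_eq_bot_of_notMem h1 inferInstance
  have hφ : ∀ z, φ ((X ^ (Nat.find hex + 1)) z) = 0 := fun z => by
    have : φ ((X ^ (Nat.find hex + 1)) z) ∈ (LinearMap.range (X ^ (Nat.find hex + 1))).map φ :=
      ⟨_, ⟨z, rfl⟩, rfl⟩
    rwa [hφ2] at this
  obtain ⟨q, hq, hq0⟩ := H35.exists_commuting X _ u φ hu0 hφ
  have h4 : ∀ w ∈ LinearMap.range X, (φ ∘ₗ X ^ Nat.find hex) w = 0 := by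
    rintro _ ⟨z, rfl⟩
    exact (by rw [pow_succ]; rfl : _ = _).trans (hφ z)
  refine ⟨q, φ ∘ₗ X ^ Nat.find hex, hq, fun h0 => hφ1 ?_, h4,
    fun w => (SModEq.sub_mem.2 (hq0 w)).trans (hu.smul _)⟩
  have := h4 _ (SModEq.sub_mem.1 hu)
  rwa [map_sub, h0, sub_zero] at this

end LinAlg

theorem Cm.conj_No {G E : Type*} [Group G] [Ring E] {σ : G →* E} {C : Subgroup G} {q : E}
    (h : Cm σ C q) {s : G} (hs : s ∈ No C) : Cm σ C (σ s * q * σ s⁻¹) := fun g hg => by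
  have h1 : σ g * σ s = σ s * σ (s⁻¹ * g * s) := by rw [← map_mul, ← map_mul]; congr 1; group
  have h2 : σ (s⁻¹ * g * s) * σ s⁻¹ = σ s⁻¹ * σ g := by rw [← map_mul, ← map_mul]; congr 1; group
  rw [← mul_assoc, ← mul_assoc, h1, mul_assoc (σ s), h _ (conj_mem_of_No' hs hg), ← mul_assoc,
    mul_assoc _ _ (σ s⁻¹), h2, ← mul_assoc]

variable {k : Type*} [Field k] {G : Type*} [Group G] [Finite G] {P C T N : Subgroup G}
  {a b x j y y' : k[G]} {n e : ℕ} {t : G} {c ω ω' : k}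
  {V : Type*} [AddCommGroup V] [Module k V] {ρ : k[G] →ₐ[k] Module.End k V} {v v' : V}

theorem CT.cq_eq (h : CT C T b x j n t e y y' c) {q r : Module.End k V} (hr : Cm (rp ρ) C r)
    (hj : r * ρ j = ρ j * q * ρ j) {d : G ⧸ C} (hd : d ∈ cs C T) :
    ∃ i, cq (rp ρ) C r d * ρ j = ρ (y ^ (i + 1)) * q * ρ (y' ^ (i + 1)) := by
  obtain ⟨i, hi⟩ := h.gen _ (T.mul_mem (T.inv_mem h.mem) (mem_cs.1 hd))
  have h1 : ((t ^ (i + 1) : G) : G ⧸ C) = d := by
    rw [← QuotientGroup.out_eq' d, QuotientGroup.eq, pow_succ', mul_inv_rev, mul_assoc]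
    exact hi
  obtain ⟨z, hz, h2⟩ := h.y_pow (i + 1)
  obtain ⟨z', hz', h3⟩ := h.y'_pow (i + 1)
  have h4 : z * z' = j := by
    rw [← h.pow_mul_pow i, h2, h3, mul_assoc, ← mul_assoc (of k G _), sig_mul_inv, one_mul]
  refine ⟨i, ?_⟩
  calc _ = ρ (y ^ (i + 1)) * r * ρ (y' ^ (i + 1)) := by
        rw [← h1, cq_mk hr, ← h4, map_mul, ← mul_assoc,
          ← (hr.conj_No (h.norm (T.pow_mem h.mem _))).comm hz, h2, h3, map_mul, map_mul]
        simp only [mul_assoc, rp_apply]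
    _ = _ := by
        rw [pow_succ' y', ← h.jy', mul_assoc j, map_mul, ← mul_assoc, mul_assoc _ r, hj,
          ← mul_assoc, ← mul_assoc, ← map_mul, pow_succ y, mul_assoc _ y, h.yj, mul_assoc _ (ρ j)]

/-- `y` has at most one eigenvalue on `ker x ^ n / im x`. -/
theorem CT.eig_unique (h : CT C T b x j n t e y y' c)
    (hsc : ∀ ψ, Cm (rp ρ) T ψ → ρ b * ψ = ψ → ∃ l : k, ∀ w, (ρ x ^ n) w = 0 → ρ b w = w →
      ψ w ≡ l • w [SMOD LinearMap.range (ρ x)])
    (h1 : ρ j v = v) (h2 : (ρ x ^ n) v = 0) (h3 : v ∉ LinearMap.range (ρ x))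
    (h4 : ρ y v ≡ ω • v [SMOD LinearMap.range (ρ x)])
    (h1' : ρ j v' = v') (h2' : (ρ x ^ n) v' = 0) (h3' : v' ∉ LinearMap.range (ρ x))
    (h4' : ρ y v' ≡ ω' • v' [SMOD LinearMap.range (ρ x)]) : ω = ω' := by
  obtain ⟨q, φ, hq, hφ, hφ0, hqφ⟩ := exists_q (n := n) (by rw [← map_pow, h.nil, map_zero]) h3
  obtain ⟨r, hr, hbr, hjr⟩ := h.exists_ext hq
  obtain ⟨l, hl⟩ := hsc _ (cm_Tr h.le hr) (by rw [← mul_Tr (cm_rho h.inv), hbr])
  have hb : ∀ w, ρ j w = w → ρ b w = w := fun w hw => by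
    rw [← hw, ← Module.End.mul_apply, ← map_mul, h.jb]
  have hp : ∀ i : ℕ, ρ (y ^ i) v ≡ ω ^ i • v [SMOD LinearMap.range (ρ x)] := fun i => by
    induction i with
    | zero => simp
    | succ i ih =>
      rw [pow_succ', map_mul, pow_succ, mul_smul, smul_comm]
      exact (h.smodeq h.supp_y ih).trans (by rw [map_smul, smul_comm]; exact h4.smul _)
  have key : ∀ d ∈ cs C T, ∃ i, ∀ w, ρ j w = w → cq (rp ρ) C r d w ≡
      (φ (ρ (y' ^ (i + 1)) w) * ω ^ (i + 1)) • v [SMOD LinearMap.range (ρ x)] := fun d hd => by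
    obtain ⟨i, hi⟩ := h.cq_eq hr hjr hd
    refine ⟨i, fun w hw => ?_⟩
    conv_lhs => rw [← hw, ← Module.End.mul_apply, hi, Module.End.mul_apply, Module.End.mul_apply]
    refine (h.smodeq (h.supp_y.pow _) (hqφ _)).trans ?_
    rw [map_smul, mul_smul]
    exact (hp _).smul _
  choose! I hI using key
  have e1 : l • v ≡ ((e : k) * φ v) • v [SMOD LinearMap.range (ρ x)] := by
    refine (hl v h2 (hb v h1)).symm.trans ?_
    rw [Tr, LinearMap.sum_apply, ← h.rel, ← card_cs h.le, mul_smul, Nat.cast_smul_eq_nsmul,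
      ← Finset.sum_const]
    refine SModEq.sum fun d hd => (hI d hd v h1).trans ?_
    have := hφ0 _ (SModEq.sub_mem.1 (h.smodeq (h.supp_y'.pow (I d + 1)) (hp (I d + 1))))
    rw [← Module.End.mul_apply, ← map_mul, h.pow_mul_pow', h1, map_sub, map_smul, map_smul,
      sub_eq_zero] at this
    rw [mul_comm, ← smul_eq_mul, ← this]
  have hl0 : l ≠ 0 := by
    rintro rfl
    rw [zero_smul] at e1
    exact h3 ((Submodule.smul_mem_iff _ (mul_ne_zero h.ne_zero hφ)).1 (SModEq.zero.1 e1.symm))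
  obtain ⟨m, e2⟩ : ∃ m : k, l • v' ≡ m • v [SMOD LinearMap.range (ρ x)] := by
    refine ⟨∑ d ∈ cs C T, φ (ρ (y' ^ (I d + 1)) v') * ω ^ (I d + 1),
      (hl v' h2' (hb v' h1')).symm.trans ?_⟩
    rw [Tr, LinearMap.sum_apply, Finset.sum_smul]
    exact SModEq.sum fun d hd => hI d hd v' h1'
  have e3 := h.smodeq h.supp_y e2
  rw [map_smul, map_smul] at e3
  have e4 := ((h4'.smul l).symm.trans e3).trans (h4.smul m)
  rw [smul_comm m] at e4
  have e5 := SModEq.sub_mem.1 (e4.trans (e2.smul ω).symm)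
  rw [smul_smul, smul_smul, ← sub_smul, mul_comm ω, ← mul_sub] at e5
  by_contra hne
  exact h3' ((Submodule.smul_mem_iff _ (mul_ne_zero hl0 (sub_ne_zero.2 (Ne.symm hne)))).1 e5)

theorem CX.sum_conj_mem [FiniteDimensional k V] [Fintype C] (h : CX C b x j n)
    (φ : Module.End k V) (h2 : (ρ x ^ n) v = 0) (hb : ρ b v = v) :
    (∑ g : C, rp ρ g * φ * rp ρ (g : G)⁻¹) v ∈ LinearMap.range (ρ x) := by
  let B := Module.finBasis k V
  have e1 : (∑ g : C, rp ρ g * φ * rp ρ (g : G)⁻¹) v =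
      ∑ i, ρ (∑ g : C, B.repr (φ (rp ρ (g : G)⁻¹ v)) i • of k G g) (B i) := by
    simp only [map_sum, LinearMap.sum_apply, map_smul, LinearMap.smul_apply]
    rw [Finset.sum_comm]
    refine Finset.sum_congr rfl fun g _ => ?_
    conv_lhs => rw [Module.End.mul_apply, Module.End.mul_apply, ← B.sum_repr (φ _), map_sum]
    simp only [map_smul, rp_apply]
  have key : ∀ i z, Supp C z → ∀ w, z * ∑ g : C, B.repr (φ (rp ρ (g : G)⁻¹ w)) i • of k G g =
      ∑ g : C, B.repr (φ (rp ρ (g : G)⁻¹ (ρ z w))) i • of k G g := fun i z hz => by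
    refine hz.induction (fun z => ∀ w, z * ∑ g : C, B.repr (φ (rp ρ (g : G)⁻¹ w)) i • of k G g =
      ∑ g : C, B.repr (φ (rp ρ (g : G)⁻¹ (ρ z w))) i • of k G (g : G)) (by simp)
      (fun a b h1 h2 w => by
        simp only [add_mul, h1, h2, map_add, LinearMap.add_apply, Finsupp.add_apply, add_smul,
          Finset.sum_add_distrib]) fun s hs c w => ?_
    rw [smul_mul_assoc, Finset.mul_sum, Finset.smul_sum]
    refine Fintype.sum_equiv (Equiv.mulLeft (⟨s, hs⟩ : C)) _ _ fun g => ?_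
    simp only [Equiv.coe_mulLeft, Subgroup.coe_mul, map_smul, LinearMap.smul_apply,
      Finsupp.smul_apply, smul_eq_mul, mul_smul, mul_smul_comm, ← map_mul, ← rp_apply,
      ← Module.End.mul_apply, mul_inv_rev, inv_mul_cancel_right]
  rw [e1]
  refine Submodule.sum_mem _ fun i _ => (h.xi_of_ann (supp_sum fun g _ => (supp_of g.2).smul _)
    (by rw [key i _ h.bf.1, hb]) ?_).apply_mem _
  rw [key i _ (h.xf.1.pow n), map_pow, h2]
  simp

/-- The position of the subgroups `P ≤ C ≤ T ≤ N` of `G`. -/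
structure TI (P C T N : Subgroup G) (b : k[G]) : Prop where
  PC : P ≤ C
  TN : T ≤ N
  orth : ∀ g ∈ N, g ∉ T → b * cj g b = 0
  free : ∀ g ∉ N, ∀ u ∈ P, g⁻¹ * u * g ∈ P → u = 1
  trC : ∃ w, Supp C w ∧ Inv P w ∧ w * b = w ∧ Tr (of k G) P C w = b
  trT : ∃ w, Supp C w ∧ Inv P w ∧ w * b = w ∧ Tr (of k G) P T w = b

theorem CX.scalar [FiniteDimensional k V] (h : CX C b x j n) (hCT : C ≤ T) (hti : TI P C T N b)
    (hρ : ∀ Ψ, Cm (rp ρ) ⊤ Ψ → ∃ l : k, Ψ = l • 1) (ψ : Module.End k V) (hψ : Cm (rp ρ) T ψ)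
    (hb : ρ b * ψ = ψ) : ∃ l : k, ∀ w, (ρ x ^ n) w = 0 → ρ b w = w →
      ψ w ≡ l • w [SMOD LinearMap.range (ρ x)] := by
  classical
  have := Fintype.ofFinite P
  have := Fintype.ofFinite C
  obtain ⟨wC, -, hC2, -, hC4⟩ := hti.trC
  obtain ⟨wT, hT1, hT2, hT3, hT4⟩ := hti.trT
  have hPT := hti.PC.trans hCT
  have hPN := hPT.trans hti.TN
  have hφ : Cm (rp ρ) P (ρ wT * ψ) := (cm_rho hT2).mul (hψ.mono hPT)
  obtain ⟨l, hl⟩ := hρ _ (cm_Tr le_top hφ)
  refine ⟨l, fun w h2 h3 => ?_⟩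
  have e1 : Tr (rp ρ) P T (ρ wT * ψ) = ψ := by
    rw [Tr_mul hψ, ← map_Tr ρ (σ := of k G) fun _ => rfl, hT4, hb]
  have e2 : ρ b * Tr (rp ρ) P ((N : Set G) \ T) (ρ wT * ψ) = 0 := by
    rw [Tr, Finset.mul_sum]
    refine Finset.sum_eq_zero fun d hd => ?_
    have h4 : b * of k G d.out * wT = 0 := by
      have h5 := congrArg (· * (of k G d.out * wT)) (hti.orth _ (mem_cs.1 hd).1 (mem_cs.1 hd).2)
      simp only [cj_eq_of, mul_assoc, zero_mul] at h5
      rwa [← mul_assoc (of k G d.out⁻¹), sig_inv_mul, one_mul, ← hT1.comm h.bf.2, hT3,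
        ← mul_assoc] at h5
    rw [cq, rp_apply, ← mul_assoc, ← mul_assoc, ← mul_assoc, ← map_mul, ← map_mul, h4, map_zero,
      zero_mul, zero_mul]
  have e3 := Tr_diff (σ := rp ρ) (P := P) (X := (N : Set G)) (Y := (⊤ : Subgroup G))
    (Set.subset_univ _) (ρ wT * ψ)
  have hΘ : Cm (rp ρ) C (Tr (rp ρ) P (((⊤ : Subgroup G) : Set G) \ N) (ρ wT * ψ)) := by
    rw [← sub_eq_iff_eq_add'.2 e3]
    exact ((cm_Tr le_top hφ).mono le_top).sub ((cm_Tr hPN hφ).mono (hCT.trans hti.TN))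
  have e4 : (ρ b * Tr (rp ρ) P (((⊤ : Subgroup G) : Set G) \ N) (ρ wT * ψ)) w ∈
      LinearMap.range (ρ x) := by
    rw [← hC4, map_Tr ρ (σ' := rp ρ) fun _ => rfl, ← Tr_mul hΘ]
    let D : AddSubmonoid (Module.End k V) :=
      { carrier := {Θ | Tr (rp ρ) P C (ρ wC * Θ) w ∈ LinearMap.range (ρ x)}
        add_mem' := fun h1 h2 => by
          simpa only [Set.mem_ofPred_eq, mul_add, Tr_add, LinearMap.add_apply] using add_mem h1 h2
        zero_mem' := by
          simpa only [Set.mem_ofPred_eq, mul_zero, Tr_zero, LinearMap.zero_apply] using zero_mem _ }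
    refine H35.sum_mem_of_free (P := P) D (cq (rp ρ) P (ρ wT * ψ)) _ (fun d hd u => ?_)
      (fun d hd u hu => ?_) fun d _ => ?_
    · exact mem_cs.2 ⟨trivial, fun h1 => (mem_cs.1 hd).2 ((out_smul_mem hPN (hPN u.2)).1 h1)⟩
    · exact Subtype.ext (hti.free _ (mem_cs.1 hd).2 u u.2 (smul_eq_iff_out.1 hu))
    · show Tr (rp ρ) P C (ρ wC * _) w ∈ LinearMap.range (ρ x)
      rw [Finset.mul_sum, Finset.sum_congr rfl fun u _ => by
        rw [show u • d = (u : G) • d from rfl, cq_smul hφ, ← mul_assoc, ← mul_assoc, ← cm_rho hC2 u u.2,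
          mul_assoc (rp ρ u)], Tr_sum hti.PC]
      exact h.sum_conj_mem _ h2 h3
  have e5 := LinearMap.congr_fun (congrArg (ρ b * ·) e3) w
  simp only [hl, Tr_diff (σ := rp ρ) (P := P) (X := (T : Set G)) (Y := N) hti.TN, mul_add, e1, e2,
    hb, add_zero, mul_smul_comm, mul_one, LinearMap.add_apply, LinearMap.smul_apply, h3] at e5
  rw [e5]
  exact (SModEq.sub_mem.2 (by simpa using e4)).symm

/-- The simple module of a Wedderburn component. -/
noncomputable def wrep (W : H32.Wedd k k[G]) (hs : ∀ (c : k) a, W.π (c • a) = c • W.π a)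
    (i : Fin W.n) : k[G] →ₐ[k] Module.End k (Fin (W.d i) → k) :=
  (Matrix.toLinAlgEquiv' : _ ≃ₐ[k] _).toAlgHom.comp
    (AlgHom.mk' ((Pi.evalRingHom _ i).comp W.π) fun c a => by simp [hs])

theorem wrep_apply (W : H32.Wedd k k[G]) (hs : ∀ (c : k) a, W.π (c • a) = c • W.π a)
    (i : Fin W.n) (a : k[G]) : wrep W hs i a = Matrix.toLinAlgEquiv' (W.π a i) := rfl

theorem wrep_scalar (W : H32.Wedd k k[G]) (hs : ∀ (c : k) a, W.π (c • a) = c • W.π a)
    (i : Fin W.n) (Ψ : Module.End k (Fin (W.d i) → k)) (h : Cm (rp (wrep W hs i)) ⊤ Ψ) :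
    ∃ l : k, Ψ = l • 1 := by
  classical
  obtain ⟨l, hl⟩ := (Algebra.IsCentral.mem_center_iff k (x := Ψ)).1
    (Subalgebra.mem_center_iff.2 fun f => by
      obtain ⟨a, ha⟩ := W.surj (Pi.single i (Matrix.toLinAlgEquiv'.symm f))
      have := h.comm (supp_top a)
      rwa [wrep_apply, ha, Pi.single_eq_same, AlgEquiv.apply_symm_apply] at this)
  exact ⟨l, hl.trans (Algebra.algebraMap_eq_smul_one l)⟩

theorem CT.exists_vec (h : CT C T b x j n t e y y' c) (W : H32.Wedd k k[G])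
    (hs : ∀ (c : k) a, W.π (c • a) = c • W.π a) (hn : ∀ a, W.π a = 0 → IsNilpotent a)
    (ha : Inv ⊤ a) (hai : IsIdempotentElem a) {u : k[G]} (hu : Supp T u)
    (hau : trunc (T : Set G) a * u = b) (hω : ω ^ e = c) : ∃ i, W.π a i ≠ 0 ∧ ∃ s,
      (wrep W hs i x ^ n) s = 0 ∧ wrep W hs i (FF y e ω) s ∉ LinearMap.range (wrep W hs i x) := by
  by_contra! H
  choose! d d' hd using fun i hi => exists_factor (H i hi)
  obtain ⟨D, hD⟩ := W.surj fun i => Matrix.toLinAlgEquiv'.symm (d i)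
  obtain ⟨D', hD'⟩ := W.surj fun i => Matrix.toLinAlgEquiv'.symm (d' i)
  obtain ⟨N, hN⟩ := hn ((FF y e ω - x * D - D' * x ^ n) * a) (funext fun i => by
    rw [map_mul, Pi.mul_apply, Pi.zero_apply]
    by_cases hi : W.π a i = 0
    · rw [hi, mul_zero]
    · refine mul_eq_zero_of_left ((Matrix.toLinAlgEquiv' : _ ≃ₐ[k] _).injective ?_) _
      rw [← wrep_apply W hs, map_sub, map_sub, map_mul, map_mul, map_pow, hd i hi,
        wrep_apply W hs i D, wrep_apply W hs i D', hD, hD', AlgEquiv.apply_symm_apply,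
        AlgEquiv.apply_symm_apply, map_zero, add_sub_cancel_left, sub_self])
  refine h.not_nilpotent hω ha hu hau D D' N ?_
  rw [← hai.pow_succ_eq N, ← (show Commute _ a from (supp_top _).comm ha).mul_pow, pow_succ, hN,
    zero_mul]

/-- The number of simple modules is at least the inertial index. -/
theorem CT.le_card [IsAlgClosed k] (h : CT C T b x j n t e y y' c) (hti : TI P C T N b)
    (W : H32.Wedd k k[G]) (hs : ∀ (c : k) a, W.π (c • a) = c • W.π a)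
    (hn : ∀ a, W.π a = 0 → IsNilpotent a) (ha : Inv ⊤ a) (hai : IsIdempotentElem a) {u : k[G]}
    (hu : Supp T u) (hau : trunc (T : Set G) a * u = b) (I : Finset (Fin W.n))
    (hI : ∀ i ∉ I, W.π a i = 0) : e ≤ I.card := by
  have : NeZero (e : k) := ⟨h.ne_zero⟩
  have : NeZero e := ⟨h.e_pos.ne'⟩
  obtain ⟨ζ, hζ⟩ := HasEnoughRootsOfUnity.exists_primitiveRoot k e
  obtain ⟨α, hα⟩ := IsAlgClosed.exists_pow_nat_eq c h.e_pos
  have hα0 : α ≠ 0 := fun h0 => h.c_ne (by rw [← hα, h0, zero_pow h.e_pos.ne'])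
  have hω : ∀ m : ℕ, (ζ ^ m * α) ^ e = c := fun m => by
    rw [mul_pow, hα, ← pow_mul, mul_comm m, pow_mul, hζ.pow_eq_one, one_pow, one_mul]
  choose f hf s hs1 hs2 using fun m => h.exists_vec W hs hn ha hai hu hau (hω m)
  have key : ∀ (i : Fin W.n) (ω : k), ω ^ e = c → ∀ s, (wrep W hs i x ^ n) s = 0 →
      wrep W hs i j (wrep W hs i (FF y e ω) s) = wrep W hs i (FF y e ω) s ∧
      (wrep W hs i x ^ n) (wrep W hs i (FF y e ω) s) = 0 ∧
      wrep W hs i y (wrep W hs i (FF y e ω) s) ≡ ω • wrep W hs i (FF y e ω) s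
        [SMOD LinearMap.range (wrep W hs i x)] := fun i ω hω s h0 => by
    obtain ⟨g', -, hg'⟩ := h.exists_pow_mul h.norm h.inv h.le (h.supp_FF ω) n
    refine ⟨by rw [← Module.End.mul_apply, ← map_mul, h.j_FF], ?_, SModEq.sub_mem.2 ?_⟩
    · rw [← Module.End.mul_apply, ← map_pow, ← map_mul, hg', map_mul, map_pow,
        Module.End.mul_apply, h0, map_zero]
    · simpa only [map_sub, map_mul, map_smul, LinearMap.sub_apply, LinearMap.smul_apply,
        Module.End.mul_apply] using (h.xi_FF hω).apply_mem (ρ := wrep W hs i) s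
  rw [← Finset.card_range e]
  refine Finset.card_le_card_of_injOn f (fun m _ => by_contra fun h1 => hf m (hI _ h1))
    fun m hm m' hm' hmm => hζ.injOn_pow_mul hα0 hm hm' ?_
  have h1 := hs1 m'
  have h2 := hs2 m'
  generalize s m' = s' at h1 h2
  revert s'
  rw [← hmm]
  intro s' h1 h2
  obtain ⟨a1, a2, a3⟩ := key _ _ (hω m) _ (hs1 m)
  obtain ⟨b1, b2, b3⟩ := key _ _ (hω m') _ h1
  exact h.eig_unique (h.scalar h.le hti (wrep_scalar W hs _)) a1 a2 (hs2 m) a3 b1 b2 h2 b3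

end Cfsg.Agent.H87
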