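import Cfsg.Agent.H87.CycC
import Cfsg.Agent.H87.Std
import Cfsg.Agent.H32.BasicAlg

/-! Blocks with cyclic defect group: `l(B) = e`. -/

set_option autoImplicit false
set_option linter.style.haveILetI false
set_option linter.unusedSectionVars false

open MonoidAlgebra Subgroup

namespace Cfsg.Agent.H87

open Cfsg Cfsg.Agent.H32 Cfsg.Agent.H86 Cfsg.Agent.H34

section Alg
variable {k A : Type*} [Field k] [Ring A] [Algebra k A]

open Polynomial in
theorem pow_pred_eq_sum (k : Type*) [Field k] [Algebra k A] {p : ℕ} [hp : Fact p.Prime] [CharP k p]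
    (y : A) (a : ℕ) : (y - 1) ^ (p ^ a - 1) = ∑ i ∈ Finset.range (p ^ a), y ^ i := by
  have h : ((X : k[X]) - 1) ^ (p ^ a - 1) = ∑ i ∈ Finset.range (p ^ a), X ^ i := by
    refine mul_right_cancel₀ (X_sub_C_ne_zero 1) ?_
    rw [map_one, geom_sum_mul, ← pow_succ, Nat.sub_add_cancel (Nat.pow_pos hp.out.pos),
      sub_pow_char_pow, one_pow]
  simpa using congrArg (aeval y) h

theorem adjoin_eq_top_of_nilpotent [FiniteDimensional k A] {ξ : A} {n : ℕ}
    (hd : Module.finrank k A = n + 1) (h : IsNilpotent ξ) (h0 : ξ ^ n ≠ 0) :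
    ξ ^ (n + 1) = 0 ∧ ∀ z, z ∈ Algebra.adjoin k {ξ} := by
  obtain ⟨N, hN⟩ := h
  obtain ⟨m, -, hm⟩ := (dvd_prime_pow Polynomial.prime_X N).1
    (minpoly.dvd k ξ (p := Polynomial.X ^ N) (by simpa using hN))
  have hi : IsIntegral k ξ := IsIntegral.of_finite k ξ
  have : Nontrivial A := Module.nontrivial_of_finrank_eq_succ hd
  have h1 : minpoly k ξ = Polynomial.X ^ m :=
    Polynomial.eq_of_monic_of_associated (minpoly.monic hi) (Polynomial.monic_X_pow m) hm
  have h2 : ξ ^ m = 0 := by simpa [h1] using minpoly.aeval k ξ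
  have h3 : (minpoly k ξ).natDegree = m := by rw [h1, Polynomial.natDegree_X_pow]
  have h4 : m = n + 1 := le_antisymm (hd ▸ h3 ▸ minpoly.natDegree_le ξ)
    (by by_contra h5; exact h0 (pow_eq_zero_of_le (by omega) h2))
  refine ⟨h4 ▸ h2, fun z => ?_⟩
  have h5 := (linearIndependent_pow (K := k) ξ).span_eq_top_of_card_eq_finrank'
    (by rw [Fintype.card_fin, h3, h4, hd])
  refine (Submodule.span_le (p := (Algebra.adjoin k {ξ}).toSubmodule)).2 ?_ (h5 ▸ Submodule.mem_top)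
  rintro _ ⟨i, rfl⟩
  exact pow_mem (Algebra.self_mem_adjoin_singleton k ξ) _

end Alg

section Grp
variable {G : Type*} [Group G] [Finite G] {p : ℕ} [hp : Fact p.Prime] {P : Subgroup G} {z : G}

theorem zpowers_eq_of_cyclic [IsCyclic P] (hz : z ∈ P) (h1 : orderOf z = p) {v : G} (hv : v ∈ P)
    (h2 : orderOf v = p) : zpowers v = zpowers z := by
  let : CommGroup P := IsCyclic.commGroup
  have key : ∀ y : P, orderOf (y : G) = p → zpowers y = (powMonoidHom p : P →* P).ker := by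
    intro y hy
    rw [orderOf_coe] at hy
    refine eq_of_le_of_card_ge (zpowers_le.2 (by simp [← hy])) ?_
    rw [Nat.card_zpowers, hy, IsCyclic.card_powMonoidHom_ker]
    exact Nat.gcd_le_right _ hp.out.pos
  simpa using congrArg (map P.subtype) ((key ⟨v, hv⟩ h2).trans (key ⟨z, hz⟩ h1).symm)

theorem eq_one_of_not_mem_No [IsCyclic P] (hP : IsPGroup p P) (hz : z ∈ P) (h1 : orderOf z = p)
    {g : G} (hg : g ∉ No (zpowers z)) {v : G} (hv : v ∈ P) (hg' : g⁻¹ * v * g ∈ P) : v = 1 := by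
  by_contra h0
  obtain ⟨a, ha⟩ := H86.pElt_of_mem hP hv
  obtain ⟨a, rfl⟩ := Nat.exists_eq_succ_of_ne_zero (n := a) (by
    rintro rfl; exact h0 (orderOf_eq_one_iff.1 ha))
  have h2 : orderOf (v ^ p ^ a) = p := by
    rw [orderOf_pow, ha, Nat.gcd_eq_right (pow_dvd_pow p a.le_succ), pow_succ',
      Nat.mul_div_cancel _ (Nat.pow_pos hp.out.pos)]
  have h3 : g⁻¹ * v ^ p ^ a * g ∈ P := by
    have := conj_pow (a := g⁻¹) (b := v) (i := p ^ a)
    rw [inv_inv] at this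
    exact this ▸ P.pow_mem hg' (p ^ a)
  have h4 := zpowers_eq_of_cyclic hz h1 h3 (by
    simpa using (orderOf_injective (MulAut.conj g⁻¹).toMonoidHom (MulAut.conj g⁻¹).injective
      (v ^ p ^ a)).trans h2)
  refine hg ((No _).inv_mem_iff.1 (mem_No_iff_cjS.2 ?_))
  rw [← zpowers_eq_of_cyclic hz h1 (P.pow_mem hv _) h2] at h4 ⊢
  rw [cjS, MonoidHom.map_zpowers]
  simpa using h4

theorem exists_gen (h1 : orderOf z = p) {T : Subgroup G} (hT : T ≤ No (zpowers z)) :
    ∃ t ∈ T, (∀ g ∈ T, ∃ i : ℕ, (t ^ i)⁻¹ * g ∈ Ce (zpowers z)) ∧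
      (∀ i : ℕ, t ^ i ∈ Ce (zpowers z) ↔ (Ce (zpowers z)).relIndex T ∣ i) ∧
      ¬ p ∣ (Ce (zpowers z)).relIndex T := by
  let f : T →* MulAut (zpowers z) := (zpowers z).normalizerMonoidHom.comp (inclusion hT)
  have hk : f.ker = (Ce (zpowers z)).subgroupOf T := by
    rw [← MonoidHom.comap_ker, normalizerMonoidHom_ker]; rfl
  have hc : Nat.card (zpowers z) = p := by rw [Nat.card_zpowers, h1]
  have : IsCyclic (MulAut (zpowers z)) := by
    have e := IsCyclic.mulAutMulEquiv (zpowers z)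
    rw [hc] at e
    exact isCyclic_of_injective e.toMonoidHom e.injective
  obtain ⟨⟨_, t, rfl⟩, ht⟩ := IsCyclic.exists_monoid_generator (α := f.range)
  have h2 : orderOf (f t) = (Ce (zpowers z)).relIndex T := by
    rw [relIndex, ← hk, index_ker, ← orderOf_eq_card_of_forall_mem_powers ht, ← orderOf_coe]
  refine ⟨t, t.2, fun g hg => ?_, fun i => ?_, fun h3 => ?_⟩
  · obtain ⟨i, hi⟩ := ht ⟨f ⟨g, hg⟩, _, rfl⟩
    refine ⟨i, (mem_subgroupOf (h := (t ^ i)⁻¹ * ⟨g, hg⟩)).1 (hk ▸ ?_)⟩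
    rw [MonoidHom.mem_ker, map_mul, map_inv, map_pow, inv_mul_eq_one]
    exact congrArg Subtype.val hi
  · rw [← h2, orderOf_dvd_iff_pow_eq_one, ← map_pow, ← MonoidHom.mem_ker, hk, mem_subgroupOf]
    rfl
  · have h4 := h3.trans (h2 ▸ orderOf_dvd_natCard (f t))
    rw [IsCyclic.card_mulAut, hc, Nat.totient_prime hp.out] at h4
    have := Nat.le_of_dvd (by have := hp.out.two_le; omega) h4
    have := hp.out.pos
    omega

end Grp

section Block
variable {k : Type*} [Field k] {G : Type*} [Group G] [Finite G] {p : ℕ} [hp : Fact p.Prime]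
  [CharP k p] {P Z : Subgroup G} {a b e : k[G]}

theorem Pair.blk' (h : Pair p ⊤ Z b) : Blk (Ce Z) (Ce Z) b := by simpa only [top_inf_eq] using h.blk

theorem Pair.orth (h : Pair p ⊤ Z b) {g : G} (hg : g ∈ No Z) (h1 : g ∉ stab b) :
    b * H87.cj g b = 0 := by
  have := h.blk'.cj g
  rw [mem_No_iff_cjS.1 (No_le_No_Ce Z hg)] at this
  exact h.blk'.mul_eq_zero_of_ne (isComm_fix le_rfl) this fun h2 => h1 h2.symm

theorem pow_pred_mul_ne_zero (hG : Good p k G) (he : Pair p ⊤ P e) {u : G} (hu : u ∈ P) :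
    (of k G u - 1) ^ (orderOf u - 1) * e ≠ 0 := fun h0 => by
  obtain ⟨a, ha⟩ := H86.pElt_of_mem he.pgp hu
  obtain ⟨h, hh⟩ : ∃ h, e.coeff h ≠ 0 := by
    by_contra! H; exact he.blk.ne_zero (ext_coeff H)
  have := congrArg (fun w => w.coeff h) h0
  simp only [ha, pow_pred_eq_sum k, Finset.sum_mul, of_apply, single_pow, one_pow, coeff_sum,
    Finsupp.finsetSum_apply, coeff_single_mul_apply, one_mul] at this
  rw [Finset.sum_eq_single 0 (fun i hi h1 => by_contra fun h2 => ?_)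
    (fun h1 => absurd (Finset.mem_range.2 (Nat.pow_pos hp.out.pos)) h1)] at this
  · exact hh (by simpa using this)
  have h3 := rp_pElt_mul hp.out (H86.pElt_of_mem he.pgp (P.inv_mem (P.pow_mem hu i)))
    (mem_Ce.1 (he.supp.mem hh) _ (P.inv_mem (P.pow_mem hu i)))
  rw [rp_of_regular hp.out (hG.reg _ _ he.blk _ h2), rp_of_regular hp.out (hG.reg _ _ he.blk _ hh),
    mul_eq_right, inv_eq_one, ← orderOf_dvd_iff_pow_eq_one, ha] at h3
  exact absurd (Nat.le_of_dvd (Nat.pos_of_ne_zero h1) h3) (not_le.2 (Finset.mem_range.1 hi))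

variable (ha : Blk ⊤ ⊤ a) (hm : MaxPair p ⊤ ⊤ a P e) (hab : P ≤ Ce P) (hs : Sub p ⊤ Z b P e)
include ha hm hab hs

theorem isDef_of_ab {K : Subgroup G} (h1 : Ce Z ≤ K) (h2 : K ≤ No Z ⊓ stab b) : IsDef p K b P :=
  hm.isDef_of_le le_rfl le_normalizer ha hs (inf_le_right.trans h1)
    (by simpa only [top_inf_eq] using h2) ((hab.trans (Ce_anti hs.le)).trans h1)

theorem exists_x (hG : Good p k G) {u : G} (hu : u ∈ P)
    (hf : Ce Z ⊓ (No P ⊓ stab e) ≤ Ce P) : ∃ x ∈ fix k (Ce Z) (Ce Z),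
      x * b = x ∧ IsNilpotent x ∧ x ^ (orderOf u - 1) ≠ 0 := by
  have he := hm.bpair.pair
  have hb := hs.pair_iff.2 he
  have hPC := hab.trans (Ce_anti hs.le)
  have hbe : Br P b * e = e := (hs.nsub he (hPC.trans (Ce_le_No Z))).br
  obtain ⟨w, w1, w2, w3, w4⟩ := exists_Tr_eq le_rfl he.blk' (isDef_of_ab ha hm hab (Sub.refl P e)
    le_rfl (le_inf (Ce_le_No P) (inv_iff_le_stab.1 he.blk'.inv)))
  have hv : Supp P (of k G u - 1) := (supp_of hu).sub (supp_one P)
  have i1 : Inv P (w * (of k G u - 1)) := w2.mul (hv.inv_Ce.mono hab)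
  have s1 : Supp (Ce P) (w * (of k G u - 1)) := w1.mul (hv.mono hab)
  have hx : Tr (of k G) P (Ce Z) (w * (of k G u - 1)) ∈ fix k (Ce Z) (Ce Z) :=
    ⟨supp_Tr (Ce_le_No Z |>.trans (No_le_No_Ce Z)) (s1.mono (Ce_anti hs.le)), inv_Tr hPC i1⟩
  have e1 : Br P (Tr (of k G) P (Ce Z) (w * (of k G u - 1))) * e = (of k G u - 1) * e := by
    rw [Br_Tr he.pgp hPC i1 s1, Tr_diff (X := (Ce P : Set G))
      (SetLike.coe_subset_coe.2 (le_inf (Ce_anti hs.le) (Ce_le_No P))),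
      add_mul, Tr_mul (cm_of_iff.2 hv.inv_Ce), w4, he.supp.comm hv.inv_Ce, mul_assoc,
      he.blk.idem.eq, Tr, Finset.sum_mul, Finset.sum_eq_zero, add_zero]
    intro d hd
    obtain ⟨⟨d1, d2⟩, d3⟩ := mem_cs.1 hd
    have := he.orth ((No P).inv_mem d2) fun h2 => d3 (hf ⟨d1, d2, (stab e).inv_mem_iff.1 h2⟩)
    rw [cq_of, ← cj_cj_inv d.out e, ← map_mul, ← w3, mul_assoc w, he.supp.comm hv.inv_Ce,
      ← mul_assoc, mul_assoc _ e, this, mul_zero, map_zero]
  generalize Tr (of k G) P (Ce Z) (w * (of k G u - 1)) = x at hx e1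
  have hxb := mul_mem hx hb.blk'.mem
  have e2 : ∀ m : ℕ, Br P ((x * b) ^ m) * e = (of k G u - 1) ^ m * e := fun m => by
    rw [Br_pow he.pgp (hxb.2.mono hPC)]
    induction m with
    | zero => simp
    | succ m ih =>
      rw [pow_succ', mul_assoc, ih, ← mul_assoc, (supp_Br P _).comm (hv.inv_Ce.pow m), mul_assoc,
        Br_mul he.pgp (hx.2.mono hPC) (hb.blk'.inv.mono hPC), mul_assoc, hbe, e1, pow_succ,
        mul_assoc]
  refine ⟨x * b, hxb, by rw [mul_assoc, hb.blk.idem.eq], ?_, fun h0 =>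
    pow_pred_mul_ne_zero hG he hu (by rw [← e2, h0, map_zero, zero_mul])⟩
  refine (hb.blk'.local (isComm_fix le_rfl) hx).resolve_right fun ⟨v, hv', h2⟩ => ?_
  have h3 : (x * b) ^ orderOf u * v ^ orderOf u = b := by
    rw [← (show Commute _ v from fix_comm le_rfl hxb hv').mul_pow, mul_assoc,
      fix_comm le_rfl hb.blk'.mem hv', ← mul_assoc, h2, hb.blk.idem.eq,
      hb.blk.idem.pow_eq (orderOf_pos u).ne']
  have h4 := hbe
  obtain ⟨n, hn⟩ := H86.pElt_of_mem he.pgp hu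
  rw [← h3, Br_mul he.pgp ((hxb.2.mono hPC).pow _) ((hv'.2.mono hPC).pow _), mul_assoc,
    (supp_Br P _).comm he.blk'.inv, ← mul_assoc, e2, hn,
    ← Nat.sub_add_cancel (Nat.pow_pos (n := n) hp.out.pos), pow_succ, pow_pred_eq_sum k,
    geom_sum_mul, ← map_pow, ← hn, pow_orderOf_eq_one, map_one, sub_self, zero_mul, zero_mul] at h4
  exact he.blk.ne_zero h4.symm

theorem exists_trunc_mul : ∃ u, Supp (No Z ⊓ stab b) u ∧
    trunc ((No Z ⊓ stab b : Subgroup G) : Set G) a * u = b := by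
  have hb := hs.pair_iff.2 hm.bpair.pair
  have hC : Ce Z ≤ No Z ⊓ stab b := le_inf (Ce_le_No Z) (inv_iff_le_stab.1 hb.blk'.inv)
  have hZ : Z ≤ No Z ⊓ stab b := (hs.le.trans (hab.trans (Ce_anti hs.le))).trans hC
  have h1 : Blk (No Z ⊓ stab b) (No Z ⊓ stab b) b :=
    (blk_inf_Ce_iff le_rfl hb.pgp hZ inf_le_left).1 (by
      rw [inf_eq_right.2 hC]; exact hb.blk'.of_inv hC (inv_iff_le_stab.2 inf_le_right))
  have h2 : trunc ((No Z ⊓ stab b : Subgroup G) : Set G) a ∈ fix k _ (No Z ⊓ stab b) :=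
    ⟨supp_trunc _ a, (ha.inv.mono le_top).trunc le_normalizer⟩
  obtain ⟨u, hu, h3⟩ := (h1.local (isComm_fix le_rfl) h2).resolve_left fun h3 => by
    have h4 := Br_nilpotent hb.pgp ((h2.2.mul h1.inv).mono hZ) h3
    rw [Br_mul_right hb.supp, Br_def, trunc_trunc, Set.inter_eq_left.2 hC, ← Br_def,
      (hm.bpair.of_sub le_rfl ha.mem ha.idem hs).br] at h4
    exact hb.blk.ne_zero (hb.blk.idem.eq_zero_of_isNilpotent h4)
  exact ⟨u, hu.1, h3⟩

theorem ti_of_cyclic [IsCyclic P] {z : G} (hZ : Z = zpowers z) (h1 : orderOf z = p) :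
    TI P (Ce Z) (No Z ⊓ stab b) (No Z) b := by
  have hb := hs.pair_iff.2 hm.bpair.pair
  have hC : Ce Z ≤ No Z ⊓ stab b := le_inf (Ce_le_No Z) (inv_iff_le_stab.1 hb.blk'.inv)
  exact ⟨hab.trans (Ce_anti hs.le), inf_le_left, fun g hg h2 => hb.orth hg fun h3 => h2 ⟨hg, h3⟩,
    fun g hg u hu => eq_one_of_not_mem_No hm.bpair.pair.pgp (hs.le (hZ ▸ mem_zpowers z)) h1
      (hZ ▸ hg) hu, exists_Tr_eq le_rfl hb.blk' (isDef_of_ab ha hm hab hs le_rfl hC),
    exists_Tr_eq hC (hb.blk'.of_inv hC (inv_iff_le_stab.2 inf_le_right))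
      (isDef_of_ab ha hm hab hs hC le_rfl)⟩

end Block

variable {M : Ideal AlgInt} [hMm : M.IsMaximal] {G : Type*} [Group G] [Finite G] {p : ℕ}
  {B : Set (IrrCharacter G)} {P C : Subgroup G} {e x : (Res M)[G]} {c : Set (IrrCharacter C)}
  {i : IBr M C}

theorem assoc_pim (hM : IsPModular p M) (hB : IsPBlock M B) {i : IBr M G} (h1 : ibrOf M B = {i})
    {j : (Res M)[G]} (hj : IsIdempotentElem j) (h2 : j * eB M B = j) (h3 : tot (weddK M G) j = 1) :
    Assoc j ((weddK M G).prim i) := by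
  refine ((weddK M G).assoc_prim_iff hj i).2 fun i' => ?_
  split_ifs with h4
  · rw [h4, ← tot_eq_mult hM hB h1 hj h2, h3]
  · exact mult_eq_zero_of_blk hM hB hj h2 fun h5 => h4 (by
      simpa only [h1, Finset.mem_singleton] using mem_ibrOf.2 h5)

theorem redG_pim_mul_eB {i : IBr M G} (h1 : ibrOf M B = {i}) :
    redG M (pim i) * eB M B = redG M (pim i) := by
  rw [← blk_of_ibr h1, eB, rd_eq_redG, ← redG_mul (pim_mem_RG i) (blockIdem_mem_RG i.isPBlock_blk),
    pim_mul_blockIdem_blk]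

theorem tot_redG_pim (i : IBr M G) : tot (weddK M G) (redG M (pim i)) = 1 :=
  (Finset.sum_congr rfl fun j _ => imult_pim i j).trans (by simp)

theorem exists_CX (hM : IsPModular p M) (hc : IsPBlock M c) (h1 : ibrOf M c = {i}) {n : ℕ}
    (hn : p ^ blockDefect p c = n + 1) (h0 : 0 < n) (hx : x ∈ fix (Res M) C C)
    (hxb : x * idm M C.subtype c = x) (hnil : IsNilpotent x) (hne : x ^ n ≠ 0) :
    CX C (idm M C.subtype c) x (up C.subtype (redG M (pim i))) n := by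
  have E := emb_subtype C
  have hj := idem_redG (pim_mem_RG i) (idem_pim i)
  have hjb := redG_pim_mul_eB h1
  have hbf := E.idm_mem_fix (M := M) c
  have hA := assoc_pim hM hc h1 hj hjb (tot_redG_pim i)
  have hd : Module.finrank (Res M) (Crn (Res M) hj) = _ := finrank_crn_pim i
  rw [cartan_of_ibr hM hc h1, hn] at hd
  generalize redG M (pim i) = j at hj hjb hA hd
  have hjs : Supp C (up C.subtype j) := E.supp_up j
  obtain ⟨y, y1, y2, y3⟩ := (weddK M C).exists_decomp (idem_eB (M := M) (blockIdem_mem_RG hc))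
  have y4 : ∀ s, Assoc (y s) j := fun s => by
    have : s.1 = i := by
      by_contra h4
      have := mult_eq_zero_of_blk hM hc (idem_eB (M := M) (blockIdem_mem_RG hc))
        (idem_eB (M := M) (blockIdem_mem_RG hc)).eq (i := s.1) fun h5 => h4 (by
          simpa only [h1, Finset.mem_singleton] using mem_ibrOf.2 h5)
      exact absurd s.2.pos (by omega)
    exact (y3 s).trans (this ▸ hA.symm) (y1.idem s) hj
  choose a a' a1 a2 a3 a4 a5 a6 using fun s => (y4 s).exists_corner (y1.idem s) hj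
  have hs : ∑ s, up C.subtype (a s) * up C.subtype (a' s) = idm M C.subtype c := by
    simp only [← map_mul, a1, ← map_sum, y2, idm]
  have key : ∀ m, x ^ (m + 1) * up C.subtype j = 0 → x ^ (m + 1) = 0 := fun m h => by
    rw [show x ^ (m + 1) = x ^ (m + 1) * idm M C.subtype c by rw [pow_succ, mul_assoc, hxb], ← hs,
      Finset.mul_sum]
    refine Finset.sum_eq_zero fun s _ => ?_
    rw [← a4, map_mul, ← mul_assoc, ← mul_assoc, ← (E.supp_up _).comm (hx.2.pow _), mul_assoc _ _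
      (up C.subtype j), h, mul_zero, zero_mul]
  have hc' : Commute x (up C.subtype j) := (hjs.comm hx.2).symm
  have hj' : IsIdempotentElem (up C.subtype j) := hj.map _
  have hξ : up C.subtype (Crn.mk (Res M) hj (pb C.subtype x)).val = x * up C.subtype j := by
    rw [Crn.val_mk, map_mul, map_mul, E.up_pb_of_supp hx.1, ← hc'.eq, mul_assoc, hj'.eq]
  have hξ' : ∀ m, up C.subtype (Crn.mk (Res M) hj (pb C.subtype x) ^ (m + 1)).val =
      x ^ (m + 1) * up C.subtype j := fun m => by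
    rw [Crn.val_pow, map_pow, hξ, hc'.mul_pow, hj'.pow_succ_eq]
  obtain ⟨m, rfl⟩ := Nat.exists_eq_succ_of_ne_zero h0.ne'
  obtain ⟨N, hN⟩ := hnil
  obtain ⟨b1, b2⟩ := adjoin_eq_top_of_nilpotent (ξ := Crn.mk (Res M) hj (pb C.subtype x)) hd
    ⟨N + 1, Crn.val_injective (up_injective E.inj (by
      rw [hξ', pow_succ, hN, zero_mul, zero_mul, map_zero, map_zero]))⟩
    fun h => hne (key m (by rw [← hξ', h, map_zero, map_zero]))
  refine ⟨hbf, hx, hxb, key _ (by rw [← hξ', b1, map_zero, map_zero]), fun h => hne (key m h), h0,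
    hjs, hj', by rw [← hjs.comm hbf.2, idm, ← map_mul, hjb], fun z hz => ?_, _, inferInstance,
    _, _, fun s => ⟨E.supp_up _, E.supp_up _, by rw [← map_mul, a4], by rw [← map_mul, a5]⟩, hs⟩
  have : ∀ w ∈ Algebra.adjoin (Res M) {Crn.mk (Res M) hj (pb C.subtype x)},
      ∃ h ∈ Algebra.adjoin (Res M) {x}, up C.subtype w.val = h * up C.subtype j := fun w hw =>
    Algebra.adjoin_induction
      (fun w hw => ⟨x, Algebra.self_mem_adjoin_singleton _ x, hw ▸ hξ⟩)
      (fun r => ⟨_, Subalgebra.algebraMap_mem _ r, by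
        simp only [Algebra.algebraMap_eq_smul_one, map_smul, Crn.val_one, smul_mul_assoc, one_mul]⟩)
      (fun _ _ _ _ ⟨g, g1, g2⟩ ⟨g', g1', g2'⟩ => ⟨_, add_mem g1 g1', by
        rw [map_add, map_add, g2, g2', add_mul]⟩)
      (fun _ _ _ _ ⟨g, g1, g2⟩ ⟨g', g1', g2'⟩ => ⟨_, mul_mem g1 g1', by
        rw [Crn.val_mul, map_mul, g2, g2', mul_assoc, ← mul_assoc _ g', hjs.comm
          (Algebra.adjoin_le (Set.singleton_subset_iff.2 hx) g1').2, mul_assoc, hj'.eq,
          mul_assoc]⟩) hw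
  obtain ⟨h, h2, h3⟩ := this _ (b2 (Crn.mk (Res M) hj (pb C.subtype z)))
  exact ⟨h, h2, by rwa [Crn.val_mk, map_mul, map_mul, E.up_pb_of_supp hz] at h3⟩

theorem exists_assoc_cj (hM : IsPModular p M) (hc : IsPBlock M c) (h1 : ibrOf M c = {i}) {t : G}
    (ht : t ∈ No C) (hb : cj t (idm M C.subtype c) = idm M C.subtype c) :
    ∃ a a', Supp C a ∧ Supp C a' ∧ a * a' = up C.subtype (redG M (pim i)) ∧
      a' * a = cj t (up C.subtype (redG M (pim i))) := by
  have E := emb_subtype C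
  have hj := idem_redG (pim_mem_RG i) (idem_pim i)
  have hjb := redG_pim_mul_eB h1
  have h2 := tot_redG_pim i
  generalize redG M (pim i) = j at hj hjb h2
  have s1 := (E.supp_up j).cj_of_No ht
  have i1 : IsIdempotentElem (cj t (up C.subtype j)) := (hj.map _).map _
  have h3 := len_cj (E.supp_up j) (hj.map _) t
  rw [mem_No_iff_cjS.1 ht, E.len_up hj, h2] at h3
  obtain ⟨a, a', a1, a2⟩ := (assoc_pim hM hc h1 hj hjb h2).trans (assoc_pim hM hc h1
    (E.idem_pb s1 i1) (by rw [← pb_up E.inj (eB M c), ← E.pb_mul s1, ← idm, ← hb, ← map_mul, idm,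
      ← map_mul, hjb]) h3).symm hj (E.idem_pb s1 i1)
  exact ⟨_, _, E.supp_up a, E.supp_up a', by rw [← map_mul, a1],
    by rw [← map_mul, a2, E.up_pb_of_supp s1]⟩

theorem fpf_iq_of_cyclic (h : Ctx M p B P e) [IsCyclic P] : P ≤ Ce P ∧ FpfA (iq P e) := by
  have : Fact p.Prime := ⟨h.hM.1⟩
  have hab : P ≤ Ce P := fun x hx => mem_Ce.2 fun y hy =>
    congrArg Subtype.val (IsCyclic.commGroup.mul_comm (⟨y, hy⟩ : P) ⟨x, hx⟩)
  exact ⟨hab, fpf_of_cyclic h.pgp (not_dvd_card_iq h hab)⟩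

/-- **Brauer–Dade**: `l(B) = e` for a block with non-trivial cyclic defect group. -/
theorem rank_eq_of_cyclic (h : Ctx M p B P e) [IsCyclic P] (hP : P ≠ ⊥) :
    blockRank p B = Nat.card (iq P e) := by
  have hM := h.hM
  have : Fact p.Prime := ⟨hM.1⟩
  have := res_charP hM
  obtain ⟨hab, hf⟩ := fpf_iq_of_cyclic h
  obtain ⟨δ, hF⟩ := exists_frob h hab hf
  refine le_antisymm (hF.rank_le hP) ?_
  obtain ⟨u, hu⟩ := IsCyclic.exists_generator (α := P)
  have h1 : 1 < Nat.card P := (one_lt_card_iff_ne_bot P).2 hP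
  obtain ⟨z, hz⟩ := exists_prime_orderOf_dvd_card' (G := P) p
    ((h.pgp.card_eq_or_dvd).resolve_left h1.ne')
  have hz1 : z ≠ 1 := fun h0 => hM.1.one_lt.ne (by rw [← hz, h0, orderOf_one])
  rw [← orderOf_coe] at hz
  obtain ⟨hc, hs⟩ := h.blk_spec z.2
  obtain ⟨i, hi⟩ := (hF.r1 z hz1).exists_ibr h z.2
  have ha := blk_eB h.hB
  have hle := FpfA.inf_le hf hs.le fun h0 => hz1 (Subtype.ext (zpowers_eq_bot.1 h0))
  obtain ⟨x, x1, x2, x3, x4⟩ := exists_x ha h.hm hab hs (good hM) u.2 hle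
  rw [orderOf_coe, orderOf_eq_card_of_forall_mem_zpowers hu] at x4
  have hX := exists_CX hM hc hi (n := Nat.card P - 1) (by
    rw [Nat.sub_add_cancel h1.le]; exact_mod_cast hF.pow_df z) (by omega) x1 x2 x3 x4
  obtain ⟨t, t1, t2, t3, t4⟩ := exists_gen hz (T := No (zpowers (z : G)) ⊓ stab (bi p P e z))
    inf_le_left
  obtain ⟨a, a', a1, a2, a3, a4⟩ := exists_assoc_cj hM hc hi (No_le_No_Ce _ t1.1) t1.2
  have hb := hs.pair_iff.2 h.pair
  obtain ⟨y, y', c, hT⟩ := hX.exists_CT (le_inf (Ce_le_No _) (inv_iff_le_stab.1 hb.blk'.inv))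
    (inf_le_left.trans (No_le_No_Ce _)) (inv_iff_le_stab.2 inf_le_right) t1 t2 t3
    (fun h0 => t4 ((CharP.cast_eq_zero_iff _ p _).1 h0)) rfl a1 a2 a3 a4
  obtain ⟨v, v1, v2⟩ := exists_trunc_mul ha h.hm hab hs
  have h2 := hT.le_card (ti_of_cyclic ha h.hm hab hs rfl hz) (weddK M G) weddK_smul
    (fun _ => isNilpotent_of_π_eq_zero) ha.inv ha.idem v1 v2 (ibrOf M B) fun i hi =>
      eq_zero_of_rank_eq_zero ((weddK M G).idem_apply ha.idem i)
        (mult_eq_zero_of_blk hM h.hB ha.idem ha.idem.eq fun h0 => hi (mem_ibrOf.2 h0))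
  rw [blockRank_eq_card hM h.hB, card_iq h.pair]
  refine le_trans ?_ h2
  have h3 : Ce P ⊓ (No P ⊓ stab e) = Ce (zpowers (z : G)) ⊓ (No P ⊓ stab e) :=
    le_antisymm (inf_le_inf_right _ (Ce_anti hs.le)) (le_inf hle inf_le_right)
  rw [← inf_relIndex_right, h3, inf_relIndex_right]
  refine relIndex_le_of_le_right (fun g hg => ?_) fun h0 => t4 (h0 ▸ dvd_zero p)
  have h4 := No_le_No_of_cyclic inferInstance hs.le hg.1
  refine ⟨h4, ?_⟩
  have h5 := hs.cj (le_No_top _ (mem_zpowers g))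
  rw [mem_No_iff_cjS.1 h4, mem_No_iff_cjS.1 hg.1, mem_stab.1 hg.2] at h5
  exact h5.unique h.pair hs

theorem exists_std_of_cyclic (h : Ctx M p B P e) [IsCyclic P] (hP : P ≠ ⊥) :
    ∃ δ ε ζ X s, Std M p B P e (iq P e) δ ε ζ X s := by
  obtain ⟨hab, hf⟩ := fpf_iq_of_cyclic h
  obtain ⟨δ, hF⟩ := exists_frob h hab hf
  exact ⟨δ, hF.exists_std hP (rank_eq_of_cyclic h hP)⟩

end Cfsg.Agent.H87
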