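import Cfsg.Agent.H34.AbSyl
import Cfsg.Agent.H3.Fusion
import Cfsg.Agent.H49.SylowOf

/-!
Glauberman's characterization of the Suzuki groups: the local lemmas.
-/

set_option autoImplicit false

namespace Cfsg.Agent.H87.Gz

open Cfsg Subgroup H34

variable {G : Type*} [Group G]

/-- `Ω₁(Z(P))`. -/
def Z0 (p : ℕ) (P : Subgroup G) : Subgroup G where
  carrier := {w | w ∈ P ∧ (∀ y ∈ P, y * w = w * y) ∧ w ^ p = 1}
  one_mem' := ⟨one_mem _, fun y _ => by simp, one_pow _⟩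
  mul_mem' := by
    rintro a b ⟨a1, a2, a3⟩ ⟨b1, b2, b3⟩
    refine ⟨mul_mem a1 b1, fun y hy => ?_, ?_⟩
    · rw [← mul_assoc, a2 y hy, mul_assoc, b2 y hy, mul_assoc]
    · rw [Commute.mul_pow (b2 a a1), a3, b3, one_mul]
  inv_mem' := by
    rintro a ⟨a1, a2, a3⟩
    refine ⟨inv_mem a1, fun y hy => (Commute.inv_right (a2 y hy)).eq, by rw [inv_pow, a3, _root_.inv_one]⟩

/-- The elements inducing inner automorphisms on `P`: `P C(P)`. -/
def KK (P : Subgroup G) : Subgroup G where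
  carrier := {g | ∃ y ∈ P, ∀ x ∈ P, g * x * g⁻¹ = y * x * y⁻¹}
  one_mem' := ⟨1, one_mem _, fun _ _ => rfl⟩
  mul_mem' := by
    rintro a b ⟨y, hy, ha⟩ ⟨z, hz, hb⟩
    refine ⟨y * z, mul_mem hy hz, fun x hx => ?_⟩
    have h1 := ha _ (mul_mem (mul_mem hz hx) (inv_mem hz))
    calc a * b * x * (a * b)⁻¹ = a * (b * x * b⁻¹) * a⁻¹ := by group
      _ = y * (z * x * z⁻¹) * y⁻¹ := by rw [hb x hx, h1]
      _ = _ := by group
  inv_mem' := by
    rintro a ⟨y, hy, ha⟩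
    refine ⟨y⁻¹, inv_mem hy, fun x hx => ?_⟩
    have h1 := ha _ (mul_mem (mul_mem (inv_mem hy) hx) hy)
    calc a⁻¹ * x * a⁻¹⁻¹ = a⁻¹ * (y * (y⁻¹ * x * y) * y⁻¹) * a := by group
      _ = _ := by rw [← h1]; group

theorem Z0_le {p : ℕ} {P : Subgroup G} : Z0 p P ≤ P := fun _ h => h.1

theorem le_KK {P : Subgroup G} : P ≤ KK P := fun y hy => ⟨y, hy, fun _ _ => rfl⟩

theorem mem_KK_of_cent {P : Subgroup G} {g : G} (h : ∀ x ∈ P, g * x = x * g) : g ∈ KK P :=
  ⟨1, one_mem _, fun x hx => by rw [h x hx]; simp⟩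

theorem conj_mem {P : Subgroup G} {n x : G} (hn : n ∈ normalizer (P : Set G)) (hx : x ∈ P) :
    n * x * n⁻¹ ∈ P := (mem_normalizer_iff.mp hn x).mp hx

theorem conj_mem' {P : Subgroup G} {n x : G} (hn : n ∈ normalizer (P : Set G)) (hx : x ∈ P) :
    n⁻¹ * x * n ∈ P := by
  simpa using conj_mem (inv_mem hn) hx

theorem KK_le [Finite G] {P : Subgroup G} : KK P ≤ normalizer (P : Set G) := by
  rintro g ⟨y, hy, hg⟩
  refine mem_normalizer_fintype (S := (P : Set G)) fun x hx => ?_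
  rw [hg x hx]
  exact mul_mem (mul_mem hy hx) (inv_mem hy)

theorem KK_comm {p : ℕ} {P : Subgroup G} {g w : G} (hg : g ∈ KK P) (hw : w ∈ Z0 p P) :
    g * w * g⁻¹ = w := by
  obtain ⟨y, hy, h⟩ := hg
  rw [h w hw.1, hw.2.1 y hy, mul_inv_cancel_right]

theorem Z0_conj {p : ℕ} {P : Subgroup G} {n w : G} (hn : n ∈ normalizer (P : Set G))
    (hw : w ∈ Z0 p P) : n * w * n⁻¹ ∈ Z0 p P := by
  refine ⟨conj_mem hn hw.1, fun y hy => ?_, by rw [conj_pow, hw.2.2]; simp⟩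
  have := hw.2.1 _ (conj_mem' hn hy)
  calc y * (n * w * n⁻¹) = n * (n⁻¹ * y * n * w) * n⁻¹ := by group
    _ = _ := by rw [this]; group

variable [Finite G] {p : ℕ} [hp : Fact p.Prime]

omit [Finite G] in
theorem exists_pow_order {u : G} (hu : ∃ k, orderOf u = p ^ k) (hu1 : u ≠ 1) :
    ∃ j : ℕ, orderOf (u ^ j) = p := by
  obtain ⟨k, hk⟩ := hu
  rcases k with _ | k
  · exact absurd (orderOf_eq_one_iff.mp (by simpa using hk)) hu1
  refine ⟨p ^ k, ?_⟩
  rw [orderOf_pow' _ (pow_ne_zero _ hp.out.ne_zero), hk, Nat.gcd_eq_right (pow_dvd_pow _ k.le_succ),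
    pow_succ', Nat.mul_div_cancel _ (pow_pos hp.out.pos _)]

omit [Finite G] in
theorem order_Z0 {P : Subgroup G} {w : G} (hw : w ∈ Z0 p P) (h1 : w ≠ 1) : orderOf w = p :=
  orderOf_eq_prime hw.2.2 h1

theorem exists_Z0 {P A : Subgroup G} (hP : IsPGroup p P) (hA : A ≤ P) (h1 : A ≠ ⊥)
    (hn : ∀ y ∈ P, ∀ a ∈ A, y * a * y⁻¹ ∈ A) : ∃ w ∈ Z0 p P, w ∈ A ∧ w ≠ 1 := by
  obtain ⟨z, hz, hz1⟩ := (bot_or_exists_ne_one _).resolve_left
    (H49.inf_center_ne_bot_of_nilpotent hP.isNilpotent hA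
      (fun y hy => mem_normalizer_fintype (S := (A : Set G)) (hn y hy)) h1)
  obtain ⟨j, hj⟩ := exists_pow_order (pElt_of_le hP (hA hz.1)) hz1
  refine ⟨z ^ j, ⟨pow_mem (hA hz.1) j, fun y hy => ?_, hj ▸ pow_orderOf_eq_one _⟩, pow_mem hz.1 j,
    fun e => hp.out.ne_one (by rw [← hj, e, orderOf_one])⟩
  exact (Commute.pow_right (hz.2 y hy) j).eq

theorem core_facts {X : Type*} [Group X] [Finite X] (h : HasNormalPComplement p X) :
    (∀ Q : Sylow p X, (pPrimeCore p X).index = Nat.card Q) ∧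
      ∀ c : X, ¬ p ∣ orderOf c → c ∈ pPrimeCore p X := by
  have h1 := H3.hasNormalPComplement_iff_coprime.mp h
  have h2 : pPrimeCore p X = pResidual p X := by
    refine le_antisymm (fun c hc => (H3.mem_pResidual_iff_of_hasNormalPComplement h c).mpr ?_)
      (H44.le_pPrimeCore inferInstance h1)
    exact ((Nat.Prime.coprime_iff_not_dvd hp.out).mpr fun hd =>
      H33.not_dvd_card_pPrimeCore hp.out (hd.trans (orderOf_dvd_natCard _ hc))).symm
  rw [h2]
  exact ⟨fun Q => (H3.isComplement'_pResidual_of_coprime Q h1).symm.index_eq_card,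
    fun c hc => (H3.mem_pResidual_iff_of_hasNormalPComplement h c).mpr
      ((Nat.Prime.coprime_iff_not_dvd hp.out).mpr hc).symm⟩

theorem reg_mul_of {X : Subgroup G} (h : HasNormalPComplement p X) {x y : G} (hx : x ∈ X)
    (hy : y ∈ X) (rx : ¬ p ∣ orderOf x) (ry : ¬ p ∣ orderOf y) : ¬ p ∣ orderOf (x * y) := by
  have := H3.hasNormalPComplement_iff_mul.mp h ⟨x, hx⟩ ⟨y, hy⟩
    (by rw [← orderOf_coe]; exact ((Nat.Prime.coprime_iff_not_dvd hp.out).mpr rx).symm)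
    (by rw [← orderOf_coe]; exact ((Nat.Prime.coprime_iff_not_dvd hp.out).mpr ry).symm)
  rw [← orderOf_coe] at this
  exact (Nat.Prime.coprime_iff_not_dvd hp.out).mp this.symm

omit [Finite G] hp in
theorem orderOf_cj (g x : G) : orderOf (g * x * g⁻¹) = orderOf x := by
  rw [← MulAut.conj_apply, MulEquiv.orderOf_eq]

/-- In a `p`-nilpotent subgroup a regular element normalizing `P` commutes with `P ⊓ X`. -/
theorem comm_of_nil {X P : Subgroup G} (h : HasNormalPComplement p X) (hP : IsPGroup p P)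
    {g y : G} (hg : g ∈ X) (hy : y ∈ X) (rg : ¬ p ∣ orderOf g) (hyP : y ∈ P)
    (hn : g ∈ normalizer (P : Set G)) : g * y = y * g := by
  have h1 := reg_mul_of h hg (mul_mem (mul_mem hy (inv_mem hg)) (inv_mem hy)) rg
    (by rwa [orderOf_cj, orderOf_inv])
  have h2 : g * (y * g⁻¹ * y⁻¹) ∈ P := by
    have := mul_mem (conj_mem hn hyP) (inv_mem hyP)
    simpa only [mul_assoc] using this
  have h3 := H33.eq_one_of_pElt_of_regular (pElt_of_le hP h2) h1
  calc g * y = g * (y * g⁻¹ * y⁻¹) * (y * g) := by group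
    _ = _ := by rw [h3, one_mul]

/-- Hypotheses (a) and (b). -/
structure Hyp (P : Sylow p G) : Prop where
  a : ∀ x ∈ (P : Subgroup G), ∀ y ∈ (P : Subgroup G), (∃ g : G, g * x * g⁻¹ = y) →
    ∃ n ∈ normalizer ((P : Subgroup G) : Set G), n * x * n⁻¹ = y
  b : ∀ x ∈ (P : Subgroup G), orderOf x = p → HasNormalPComplement p (centralizer ({x} : Set G))

namespace Hyp

variable {P : Sylow p G} (h : Hyp P)
include h

theorem nil {u : G} (hu : ∃ k, orderOf u = p ^ k) (hu1 : u ≠ 1) :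
    HasNormalPComplement p (Cg u) := by
  obtain ⟨j, hj⟩ := exists_pow_order hu hu1
  obtain ⟨g, hg⟩ := exists_conj_mem_sylow' P hu
  have h1 := h.b _ (pow_mem hg j) (by rw [conj_pow, orderOf_cj, hj])
  refine H3.hasNormalPComplement_of_injective (((MulAut.conj g).toMonoidHom.comp
    (Cg u).subtype).codRestrict _ fun x => ?_) (fun x y e => ?_) h1
  · have := mem_centralizer_singleton_iff.mp x.2
    refine mem_centralizer_singleton_iff.mpr (Commute.pow_right ?_ j).eq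
    change g * x * g⁻¹ * (g * u * g⁻¹) = g * u * g⁻¹ * (g * x * g⁻¹)
    calc _ = g * (x * u) * g⁻¹ := by group
      _ = _ := by rw [this]; group
  · exact Subtype.ext ((MulAut.conj g).injective (congrArg Subtype.val e))

omit [Finite G] hp in
theorem sc {w g : G} (hw : w ∈ Z0 p (P : Subgroup G)) (hg : g * w * g⁻¹ ∈ (P : Subgroup G)) :
    g * w * g⁻¹ ∈ Z0 p (P : Subgroup G) := by
  obtain ⟨n, hn, e⟩ := h.a w hw.1 _ hg ⟨g, rfl⟩
  exact e ▸ Z0_conj hn hw

theorem fpf0 {g u : G} (hg : g ∈ normalizer ((P : Subgroup G) : Set G)) (rg : ¬ p ∣ orderOf g)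
    (hu : u ∈ (P : Subgroup G)) (hu1 : u ≠ 1) (hc : g * u = u * g) :
    ∀ x ∈ (P : Subgroup G), g * x = x * g := by
  obtain ⟨w, hw, -, hw1⟩ := exists_Z0 P.isPGroup' le_rfl
    (fun e => hu1 (mem_bot.mp (e ▸ hu))) fun y hy a ha => mul_mem (mul_mem hy ha) (inv_mem hy)
  have h1 := comm_of_nil (h.nil (pElt_of_le P.isPGroup' hu) hu1) P.isPGroup'
    (mem_centralizer_singleton_iff.mpr hc) (mem_centralizer_singleton_iff.mpr (hw.2.1 u hu).symm)
    rg hw.1 hg
  exact fun x hx => comm_of_nil (h.nil (pElt_of_le P.isPGroup' hw.1) hw1) P.isPGroup'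
    (mem_centralizer_singleton_iff.mpr h1) (mem_centralizer_singleton_iff.mpr (hw.2.1 x hx))
    rg hx hg

omit h [Finite G] hp in
theorem mem_of_pElt {g : G} (hg : g ∈ normalizer ((P : Subgroup G) : Set G))
    (hk : ∃ k, orderOf g = p ^ k) : g ∈ (P : Subgroup G) := by
  obtain ⟨k, hk⟩ := hk
  have h1 : IsPGroup p (zpowers g) := IsPGroup.of_card (n := k) (by rw [Nat.card_zpowers, hk])
  have h2 := (P.isPGroup'.to_sup_of_normal_left' h1 (zpowers_le_of_mem hg))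
  have h3 := P.is_maximal' h2 le_sup_left
  exact h3 ▸ mem_sup_right (mem_zpowers g)

theorem fpf {g u : G} (hg : g ∈ normalizer ((P : Subgroup G) : Set G))
    (hu : u ∈ (P : Subgroup G)) (hu1 : u ≠ 1) (hc : g * u = u * g) : g ∈ KK (P : Subgroup G) := by
  obtain ⟨z, hz⟩ := H33.exists_isPPart hp.out g
  have h1 := mem_of_pElt (H33.IsPPart.mem_of_mem hp.out hz _ hg) (H33.IsPPart.pElt hz)
  have h2 := H33.IsPPart.commute_of_commute hp.out hz (show Commute u g from hc.symm)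
  have h3 := h.fpf0 (mul_mem (inv_mem (le_normalizer h1)) hg) (H33.IsPPart.regular hz) hu hu1
    (Commute.mul_left h2.symm.inv_left hc).eq
  have h4 := mul_mem (le_KK h1) (mem_KK_of_cent h3)
  rwa [mul_inv_cancel_left] at h4

/-- For `g ∈ N(P) \ K` the map `b ↦ g⁻¹ b⁻¹ g b` is a bijection of every invariant `A ≤ P`. -/
theorem bij {g : G} (hg : g ∈ normalizer ((P : Subgroup G) : Set G))
    (hK : g ∉ KK (P : Subgroup G)) {A : Subgroup G} (hA : A ≤ (P : Subgroup G))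
    (hn : ∀ a ∈ A, g⁻¹ * a * g ∈ A) :
    Function.Bijective fun b : A =>
      (⟨g⁻¹ * (b : G)⁻¹ * g * b, mul_mem (hn _ (inv_mem b.2)) b.2⟩ : A) := by
  refine Finite.injective_iff_bijective.mp fun b c e => ?_
  have e1 : g⁻¹ * (b : G)⁻¹ * g * b = g⁻¹ * (c : G)⁻¹ * g * c := congrArg Subtype.val e
  by_contra hne
  refine hK (h.fpf hg (hA (mul_mem b.2 (inv_mem c.2))) (fun e2 => hne (Subtype.ext
    (mul_inv_eq_one.mp e2))) ?_)
  calc g * (b * (c : G)⁻¹) = b * g * (g⁻¹ * (b : G)⁻¹ * g * b) * (c : G)⁻¹ := by group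
    _ = _ := by rw [e1]; group

end Hyp

end Cfsg.Agent.H87.Gz
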