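import Cfsg.Agent.H87.GzE
import Cfsg.Agent.H87.GzB
import Cfsg.Agent.S1950

/-!
Glauberman's characterization of the Suzuki groups: the class multiplication count.
-/

set_option autoImplicit false

namespace Cfsg.Agent.H87.Gz

open Cfsg Subgroup H34 Finset ComplexConjugate

variable {G : Type*} [Group G] [Fintype G] {p : ℕ} [hp : Fact p.Prime]

open Classical in
/-- The `w₂` with `w₁ w₂^g` singular. -/
noncomputable def sing (P : Sylow p G) (w g : G) : Finset G :=
  (sh (Z0 p (P : Subgroup G))).filter fun v => p ∣ orderOf (w * (g * v * g⁻¹))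

namespace Hyp

variable {P : Sylow p G} (h : Hyp P) {M : Ideal AlgInt} [M.IsMaximal]
include h

theorem phi (hM : IsPModular p M) {g r : G} (hr : IsPPart p g r)
    (hc : ∃ w ∈ Z0 p (P : Subgroup G), IsConj r w) :
    ∑ w ∈ sh (Z0 p (P : Subgroup G)), colS (principalBlock M G) g w =
      if p ∣ orderOf g then ((ee (P : Subgroup G) * Nat.card P : ℕ) : ℂ) else 0 := by
  classical
  split_ifs with hg
  · obtain ⟨w, hw, hc⟩ := hc
    have hr1 : r ≠ 1 := fun e => (H33.IsPPart.eq_one_iff hp.out hr).mp e hg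
    have hw1 : w ≠ 1 := fun e => hr1 (isConj_one_right.mp (e ▸ hc.symm))
    rw [← h.filter_sh_Z0 hw hw1, card_filter]
    push_cast
    rw [sum_mul]
    refine sum_congr rfl fun v hv => ?_
    obtain ⟨hv, hv1⟩ := mem_sh.mp hv
    have a1 : colS (principalBlock M G) g v = colS (principalBlock M G) w v :=
      sum_congr rfl fun χ hχ => by rw [h.apply_eq hM (H86.mem_fs.mp hχ) hr hr1, irr_isConj χ hc]
    rw [a1, colS_principal hM (pElt_of_le P.isPGroup' hv.1) (pElt_of_le P.isPGroup' hw.1),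
      h.lamC_Z0 hM hv hv1]
    by_cases hvw : IsConj w v
    · rw [if_pos hvw, if_pos hvw.symm, one_mul]
    · rw [if_neg hvw, if_neg fun e => hvw e.symm, zero_mul]
  · refine sum_eq_zero fun v hv => colS_eq_zero hM H33.isPBlock_principalBlock
      (H33.isPPart_one_of_regular hg) (H33.isPPart_self hp.out
        (pElt_of_le P.isPGroup' (mem_sh.mp hv).1.1)) fun e => (mem_sh.mp hv).2 ?_
    exact isConj_one_right.mp e

omit [M.IsMaximal] in
theorem pair' (hc : ∀ x y : G, orderOf x = p → orderOf y = p →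
      IsPSolvable p (closure ({x, y} : Set G))) {w v : G} (hw : w ∈ sh (Z0 p (P : Subgroup G)))
    (hv : v ∈ sh (Z0 p (P : Subgroup G))) (g : G) :
    ∃ a ∈ Z0 p (P : Subgroup G), ∃ b ∈ Z0 p (P : Subgroup G), IsConj w a ∧ IsConj v b ∧
      ∀ (k : ℤ) (r : G), IsPPart p (w * (g * v ^ k * g⁻¹)) r → IsConj r (a * b ^ k) := by
  obtain ⟨hw, hw1⟩ := mem_sh.mp hw
  obtain ⟨hv, hv1⟩ := mem_sh.mp hv
  have c : IsConj v (g * v * g⁻¹) := isConj_iff.mpr ⟨g, rfl⟩
  obtain ⟨a, ha, b, hb, c1, c2, c3⟩ := h.pair hw hv (IsConj.refl w) c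
    (hc _ _ (order_Z0 hw hw1) (by rw [orderOf_cj, order_Z0 hv hv1]))
  exact ⟨a, ha, b, hb, c1, c.trans c2, fun k r hr => c3 k r (by rwa [conj_zpow])⟩

theorem key [IsSimpleGroup G] (hM : IsPModular p M) (hc : ∀ x y : G, orderOf x = p →
      orderOf y = p → IsPSolvable p (closure ({x, y} : Set G))) (hP : (P : Subgroup G) ≠ ⊥)
    {c s V E : ℝ} (hV : V + 1 = Nat.card (Z0 p (P : Subgroup G)))
    (hE : E = ee (P : Subgroup G) * Nat.card P)
    (hcb : ∀ m d : ℝ, 0 ≤ d → (V + 1) * m ^ 2 ≤ d ^ 2 → (V + 1) * m - d ≤ c * V * d)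
    (hs : ∀ w ∈ sh (Z0 p (P : Subgroup G)), ∀ g, s ≤ (sing P w g).card) :
    E * s ≤ V ^ 2 + c * V * (E - V) := by
  classical
  set W := sh (Z0 p (P : Subgroup G)) with hW
  set T := H86.fs (principalBlock M G)
  have hWV : (W.card : ℝ) = V := by
    have := card_sh (Z0 p (P : Subgroup G))
    rw [← this] at hV
    push_cast at hV
    linarith
  obtain ⟨w0, hw0, hw01⟩ := ex_Z0 hP
  have hV0 : 0 < V := by
    rw [← hWV]
    exact_mod_cast card_pos.mpr ⟨w0, mem_sh.mpr ⟨hw0, hw01⟩⟩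
  choose d hd0 hd using fun χ : IrrCharacter G => H5.exists_pos_nat_degree χ.2
  choose m hm using fun χ : IrrCharacter G => H5.exists_nat_classInner
    (H5.isCharacter_restrict (H5.isCharacter_of_isIrr χ.2) (Z0 p (P : Subgroup G)))
    H5.isCharacter_one
  have hm' : ∀ χ : IrrCharacter G, d χ + ∑ a ∈ W, (χ : G → ℂ) a =
      Nat.card (Z0 p (P : Subgroup G)) * m χ := fun χ => by
    have := hm χ
    rwa [H5.classInner_one_right, inv_mul_eq_iff_eq_mul₀ H5.natCard_ne_zero,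
      sum_sh _ fun u => (χ : G → ℂ) u, hd] at this
  set a : IrrCharacter G → ℝ := fun χ => (V + 1) * m χ - d χ with ha
  have ha1 : ∀ χ : IrrCharacter G, ∑ w ∈ W, (χ : G → ℂ) w = a χ := fun χ => by
    rw [ha, hV]
    push_cast
    rw [← hm']
    ring
  have h1 : ∀ g, ∑ w ∈ W, colS (principalBlock M G) g w = ∑ χ ∈ T, a χ * (χ : G → ℂ) g :=
    fun g => by
      simp only [colS]
      rw [sum_comm]
      refine sum_congr rfl fun χ _ => ?_
      rw [← mul_sum, ← map_sum, ha1, Complex.conj_ofReal, mul_comm]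
  have hE' : ((ee (P : Subgroup G) * Nat.card P : ℕ) : ℂ) = E := by rw [hE]; push_cast; rfl
  have h2 : ∑ χ ∈ T, a χ * a χ = V * E := by
    have a1 : ∑ w ∈ W, ∑ χ ∈ T, a χ * (χ : G → ℂ) w = ∑ w ∈ W, (E : ℂ) :=
      sum_congr rfl fun w hw => by
        obtain ⟨hw, hw1⟩ := mem_sh.mp hw
        rw [← h1, h.phi hM (H33.isPPart_self hp.out (pElt_of_le P.isPGroup' hw.1))
          ⟨w, hw, IsConj.refl w⟩, if_pos (order_Z0 hw hw1).symm.dvd, hE']
    rw [sum_comm, sum_const, nsmul_eq_mul] at a1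
    simp only [← mul_sum, ha1] at a1
    rw [← hWV]
    exact_mod_cast a1
  have h3 : ∑ w ∈ W, ∑ g, E * ((sing P w g).card : ℝ) =
      Nat.card G * ∑ χ ∈ T, a χ * a χ * (a χ / d χ) := by
    have a1 : ∀ w ∈ W, ∀ g, (E : ℂ) * ((sing P w g).card : ℂ) =
        ∑ v ∈ W, ∑ χ ∈ T, a χ * (χ : G → ℂ) (w * (g * v * g⁻¹)) := fun w hw g => by
      rw [sing, card_filter]
      push_cast
      rw [mul_sum]
      refine sum_congr rfl fun v hv => ?_
      obtain ⟨r, hr⟩ := H33.exists_isPPart hp.out (w * (g * v * g⁻¹))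
      obtain ⟨x, hx, y, hy, -, -, c3⟩ := h.pair' hc hw hv g
      rw [← h1, h.phi hM hr ⟨_, mul_mem hx (zpow_mem hy 1), c3 1 r (by rwa [zpow_one])⟩, hE']
      split_ifs <;> simp
    have a2 : ∑ w ∈ W, ∑ g, (E : ℂ) * ((sing P w g).card : ℂ) =
        Nat.card G * ∑ χ ∈ T, (a χ : ℂ) * a χ * (a χ / d χ) := by
      rw [sum_congr rfl fun w hw => sum_congr rfl fun g _ => a1 w hw g]
      have a3 : ∀ w, ∑ g, ∑ v ∈ W, ∑ χ ∈ T, a χ * (χ : G → ℂ) (w * (g * v * g⁻¹)) =
          ∑ χ ∈ T, Nat.card G * (a χ * (a χ / d χ)) * (χ : G → ℂ) w := fun w => by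
        rw [sum_comm, sum_congr rfl fun v _ => sum_comm, sum_comm]
        refine sum_congr rfl fun χ _ => ?_
        simp only [← mul_sum, H5.sum_irr_mul_conj_eq χ.2, ← sum_div, ha1, hd]
        ring
      simp only [a3]
      rw [sum_comm, mul_sum]
      refine sum_congr rfl fun χ _ => ?_
      rw [← mul_sum, ha1]
      ring
    exact_mod_cast a2
  have h8 : H33.oneIrr G ∈ T := H86.mem_fs.mpr H33.oneIrr_mem_principalBlock
  have h9 : a (H33.oneIrr G) = V := by
    have := ha1 (H33.oneIrr G)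
    simp only [H33.oneIrr_apply, sum_const, nsmul_eq_mul, mul_one] at this
    rw [← hWV]
    exact_mod_cast this.symm
  have h10 : d (H33.oneIrr G) = 1 := by
    exact_mod_cast (hd (H33.oneIrr G)).symm.trans (H33.oneIrr_apply 1)
  have h4 : ∀ χ ∈ T.erase (H33.oneIrr G), a χ * a χ * (a χ / d χ) ≤ c * V * (a χ * a χ) :=
    fun χ hχ => by
      have b1 := h.deg_bound hM (H86.mem_fs.mp (mem_of_mem_erase hχ)) hw0
        (fun e => hw01 (H5.eq_one_of_simple_of_apply_eq χ.2
          (fun e => ne_of_mem_erase hχ (Subtype.ext e)) e)) (hd χ) (hm' χ)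
      have b2 := hcb (m χ) (d χ) (by positivity) (by rw [hV]; exact_mod_cast b1)
      have b3 : (0 : ℝ) < d χ := by exact_mod_cast hd0 χ
      rw [mul_comm (c * V)]
      exact mul_le_mul_of_nonneg_left ((div_le_iff₀ b3).mpr b2) (mul_self_nonneg _)
  have h5 := sum_le_sum h4
  rw [← mul_sum] at h5
  rw [← add_sum_erase _ _ h8, h9] at h2 h3
  rw [h10, Nat.cast_one, div_one] at h3
  have hE0 : 0 ≤ E := by rw [hE]; positivity
  have h6 : V * (Nat.card G * (E * s)) ≤ ∑ w ∈ W, ∑ g, E * ((sing P w g).card : ℝ) := by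
    rw [← hWV, ← nsmul_eq_mul, ← sum_const]
    refine sum_le_sum fun w hw => ?_
    rw [Nat.card_eq_fintype_card, ← card_univ, ← nsmul_eq_mul, ← sum_const]
    exact sum_le_sum fun g _ => mul_le_mul_of_nonneg_left (hs w hw g) hE0
  have hG : (0 : ℝ) < Nat.card G := by exact_mod_cast Nat.card_pos
  have h7 : V * (E * s) ≤ V * V * V + c * V * (V * E - V * V) := by
    refine le_of_mul_le_mul_left ?_ hG
    rw [h3] at h6
    rw [← h2, add_sub_cancel_left]
    nlinarith
  exact le_of_mul_le_mul_left (by nlinarith) hV0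

omit [M.IsMaximal] in
theorem sing_half (hp2 : p ≠ 2) (hc : ∀ x y : G, orderOf x = p → orderOf y = p →
      IsPSolvable p (closure ({x, y} : Set G))) {w : G} (hw : w ∈ sh (Z0 p (P : Subgroup G)))
    (g : G) : (sh (Z0 p (P : Subgroup G))).card ≤ 2 * (sing P w g).card := by
  classical
  rw [two_mul, ← card_filter_add_card_filter_not (s := sh (Z0 p (P : Subgroup G)))
    fun v => p ∣ orderOf (w * (g * v * g⁻¹))]
  refine add_le_add (by rw [sing]) (card_le_card_of_injOn (·⁻¹) (fun v hv => ?_)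
    fun _ _ _ _ => inv_injective.eq_iff.mp)
  simp only [sing, coe_filter, Set.mem_ofPred_eq] at hv ⊢
  obtain ⟨hv, hv'⟩ := hv
  refine ⟨mem_sh.mpr ⟨inv_mem (mem_sh.mp hv).1, by simpa using (mem_sh.mp hv).2⟩,
    by_contra fun e => ?_⟩
  obtain ⟨x, hx, y, hy, -, c2, c3⟩ := h.pair' hc hw hv g
  have b1 := isConj_one_right.mp (c3 1 1 (H33.isPPart_one_of_regular (by rwa [zpow_one])))
  have b2 := isConj_one_right.mp (c3 (-1) 1 (H33.isPPart_one_of_regular (by rwa [zpow_neg_one])))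
  have b3 : y ^ 2 = 1 := by
    have := mul_left_cancel (b1.trans b2.symm)
    rw [zpow_one, zpow_neg_one] at this
    rw [pow_two]
    exact mul_eq_one_iff_eq_inv.mpr this
  have hy1 : y ≠ 1 := fun e => (mem_sh.mp hv).2 (isConj_one_right.mp (e ▸ c2.symm))
  exact hp2 ((Nat.prime_dvd_prime_iff_eq hp.out Nat.prime_two).mp
    (order_Z0 hy hy1 ▸ orderOf_dvd_of_pow_eq_one b3))

omit [M.IsMaximal] in
theorem sing_e (hc : ∀ x y : G, orderOf x = p → orderOf y = p →
      IsPSolvable p (closure ({x, y} : Set G))) {w : G} (hw : w ∈ sh (Z0 p (P : Subgroup G)))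
    (g : G) : (sh (Z0 p (P : Subgroup G))).card ≤ (sing P w g).card + ee (P : Subgroup G) := by
  classical
  rw [← card_filter_add_card_filter_not (s := sh (Z0 p (P : Subgroup G)))
    fun v => p ∣ orderOf (w * (g * v * g⁻¹)), ← h.filter_sh_Z0 (inv_mem (mem_sh.mp hw).1)
      (by simpa using (mem_sh.mp hw).2)]
  refine add_le_add (by rw [sing]) (card_le_card fun v hv => ?_)
  obtain ⟨hv, hv'⟩ := mem_filter.mp hv
  obtain ⟨x, hx, y, hy, c1, c2, c3⟩ := h.pair' hc hw hv g
  have b1 := isConj_one_right.mp (c3 1 1 (H33.isPPart_one_of_regular (by rwa [zpow_one])))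
  rw [zpow_one, mul_eq_one_iff_inv_eq] at b1
  obtain ⟨k, hk⟩ := isConj_iff.mp c1
  exact mem_filter.mpr ⟨hv, (isConj_iff.mpr ⟨k, by rw [← b1, ← hk]; group⟩).trans c2.symm⟩

end Hyp

theorem lin_bound {z t m d : ℝ} (hd : 0 ≤ d) (hz : 0 ≤ z) (ht : 0 ≤ t) (h1 : z ≤ t ^ 2)
    (h2 : z * m ^ 2 ≤ d ^ 2) : z * m ≤ t * d :=
  le_of_sq_le_sq (by nlinarith [mul_le_mul h1 h2 (by positivity) (sq_nonneg t)]) (by positivity)

theorem Hyp.odd_false [IsSimpleGroup G] {P : Sylow p G} (h : Hyp P) (hp2 : p ≠ 2)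
    (hcore : pPrimeCore p G = ⊥) (hnn : ¬ (P : Subgroup G).Normal)
    (hc : ∀ x y : G, orderOf x = p → orderOf y = p → IsPSolvable p (closure ({x, y} : Set G))) :
    False := by
  have hP := ne_bot_of_not_normal hnn
  have hp3 : 3 ≤ p := by have := hp.out.two_le; omega
  obtain ⟨n, hn⟩ := P.isPGroup'.exists_card_eq
  have hn2 : 2 ≤ n := by
    by_contra! h
    interval_cases n
    · exact hP (card_eq_one.mp hn)
    have h1 := (S1950.result P (isCyclic_of_prime_card (hn.trans (pow_one p)))).mpr hc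
    rcases H22.IsPSolvable.pCore_ne_bot_or h1 with h2 | h2
    · have h3 := (Normal.eq_bot_or_eq_top inferInstance).resolve_left h2
      exact hnn (top_le_iff.mp (h3 ▸ H22.pCore_le_sylow P) ▸ inferInstance)
    · exact h2 hcore
  have hq : 9 ≤ Nat.card (P : Subgroup G) :=
    hn ▸ (Nat.pow_le_pow_left hp3 2).trans (Nat.pow_le_pow_right hp.out.pos hn2)
  have he : 2 ≤ ee (P : Subgroup G) := by
    obtain ⟨g, hg, hK⟩ := h.exists_out hcore hnn
    have a1 : ee (P : Subgroup G) ≠ 1 := fun e => hK (relIndex_eq_one.mp e hg)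
    have a2 : ee (P : Subgroup G) ≠ 0 := index_ne_zero_of_finite
    omega
  obtain ⟨w0, hw0, hw01⟩ := ex_Z0 hP
  have hz : 3 ≤ Nat.card (Z0 p (P : Subgroup G)) :=
    hp3.trans (Nat.le_of_dvd Nat.card_pos ((order_Z0 hw0 hw01).symm.dvd.trans
      (Subgroup.orderOf_dvd_natCard _ hw0)))
  have hzn : Nat.card (P : Subgroup G) = Nat.card (Z0 p (P : Subgroup G)) ∨
      3 * Nat.card (Z0 p (P : Subgroup G)) ≤ Nat.card (P : Subgroup G) := by
    obtain ⟨j, hj⟩ := card_dvd_of_le (Z0_le (p := p) (P := (P : Subgroup G)))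
    obtain ⟨i, -, rfl⟩ := (Nat.dvd_prime_pow hp.out).mp (hn ▸ Dvd.intro_left _ hj.symm)
    rcases i with _ | i
    · exact Or.inl (by simpa using hj)
    · rw [hj, mul_comm _ (p ^ _)]
      exact Or.inr (Nat.mul_le_mul_right _ (hp3.trans (Nat.le_self_pow i.succ_ne_zero p)))
  obtain ⟨M, hM⟩ := H86.exists_isPModular hp.out
  have := hM.2.1
  have hV := card_sh (Z0 p (P : Subgroup G))
  set v := (sh (Z0 p (P : Subgroup G))).card
  have hV' : (v : ℝ) + 1 = Nat.card (Z0 p (P : Subgroup G)) := by exact_mod_cast hV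
  have s1 : ∀ w ∈ sh (Z0 p (P : Subgroup G)), ∀ g, (v : ℝ) / 2 ≤ (sing P w g).card :=
    fun w hw g => by
      have : (v : ℝ) ≤ 2 * (sing P w g).card := by exact_mod_cast h.sing_half hp2 hc hw g
      linarith
  have he' : (2 : ℝ) ≤ ee (P : Subgroup G) := by exact_mod_cast he
  change 9 ≤ Nat.card P at hq
  rcases hzn with e | e
  · change Nat.card P = _ at e
    have v8 : (8 : ℝ) ≤ v := by exact_mod_cast (by omega : 8 ≤ v)
    have hn' : (Nat.card P : ℝ) = v + 1 := by rw [hV', e]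
    have c1 : ∀ m d : ℝ, 0 ≤ d → (v + 1) * m ^ 2 ≤ d ^ 2 → (v + 1) * m - d ≤ 1 / 4 * v * d :=
      fun m d hd h2 => by
        have := lin_bound (t := 1 + v / 4) hd (by positivity) (by positivity) (by nlinarith) h2
        linarith
    rcases he.eq_or_lt with e2 | e3
    · have k := h.key hM hc hP hV' rfl c1 (s := v - 2) fun w hw g => by
        have : (v : ℝ) ≤ (sing P w g).card + ee (P : Subgroup G) := by
          exact_mod_cast h.sing_e hc hw g
        rw [← e2] at this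
        push_cast at this
        linarith
      rw [← e2, hn'] at k
      push_cast at k
      nlinarith
    · have k := h.key hM hc hP hV' rfl c1 s1
      have e3' : (3 : ℝ) ≤ ee (P : Subgroup G) := by exact_mod_cast e3
      rw [hn'] at k
      nlinarith [mul_le_mul_of_nonneg_right e3' (by positivity : (0 : ℝ) ≤ (v + 1) * v)]
  · have v2 : (2 : ℝ) ≤ v := by exact_mod_cast (by omega : 2 ≤ v)
    have hn' : 3 * ((v : ℝ) + 1) ≤ Nat.card P := by rw [hV']; exact_mod_cast e
    have c1 : ∀ m d : ℝ, 0 ≤ d → (v + 1) * m ^ 2 ≤ d ^ 2 → (v + 1) * m - d ≤ 3 / 8 * v * d :=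
      fun m d hd h2 => by
        have := lin_bound (t := 1 + 3 / 8 * v) hd (by positivity) (by positivity) (by nlinarith) h2
        linarith
    have k := h.key hM hc hP hV' rfl c1 s1
    have b := mul_le_mul he' hn' (by positivity) (by positivity)
    nlinarith [mul_le_mul_of_nonneg_right b (by positivity : (0 : ℝ) ≤ v)]

end Cfsg.Agent.H87.Gz
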