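import Cfsg.Agent.H87.GzB
import Cfsg.Agent.GOLD.Main
import Cfsg.Agent.H25.CITStruct
import Cfsg.Agent.H66.SL2Order
import Cfsg.Agent.S3154

/-!
Glauberman's characterization of the Suzuki groups: the case `p = 2`.
-/

set_option autoImplicit false

namespace Cfsg.Agent.H87.Gz

open Cfsg Subgroup H34

variable {G : Type*} [Group G] [Finite G]

omit [Finite G] in
theorem mem_smul_iff {p : ℕ} {P : Sylow p G} {g x : G} :
    x ∈ ((g • P : Sylow p G) : Subgroup G) ↔ g⁻¹ * x * g ∈ (P : Subgroup G) :=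
  H49.mem_cj

/-- A regular normal subgroup of a point stabilizer has small centralizer. -/
theorem cent_le_of_ti {p : ℕ} [hp : Fact p.Prime] (P : Sylow p G) (hcore : pPrimeCore p G = ⊥)
    (hti : ∀ T : Sylow p G, ∀ x ∈ (P : Subgroup G), x ∈ (T : Subgroup G) → x ≠ 1 → T = P)
    (hc : Nat.card (Sylow p G) = Nat.card P + 1) :
    centralizer ((P : Subgroup G) : Set G) ≤ P := by
  have key : ∀ c ∈ centralizer ((P : Subgroup G) : Set G), ∀ r : ℕ, r.Prime → orderOf c = r →
      r = p := fun c hcP r hr ho => by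
    by_contra hne
    have := Fact.mk hr
    have h1 : IsPGroup r (zpowers c) := IsPGroup.of_card (n := 1) (by
      rw [Nat.card_zpowers, ho, pow_one])
    have hcP' : c • P = P := Sylow.smul_eq_iff_mem_normalizer.mpr (centralizer_le_normalizer _ hcP)
    obtain ⟨T, hT, hTP⟩ : ∃ T : Sylow p G, c • T = T ∧ T ≠ P := by
      by_contra! H
      have h2 := h1.card_modEq_card_fixedPoints (Sylow p G)
      have h3 : MulAction.fixedPoints (zpowers c) (Sylow p G) = {P} := by
        ext T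
        refine ⟨fun hT => H T (hT ⟨c, mem_zpowers c⟩), ?_⟩
        rintro rfl g
        exact zpowers_le_of_mem (H := MulAction.stabilizer G T) hcP' g.2
      obtain ⟨k, hk⟩ := P.isPGroup'.exists_card_eq
      change Nat.card P = _ at hk
      rw [h3, hc, hk, Nat.card_unique (α := ({P} : Set (Sylow p G)))] at h2
      have h4 := (Nat.modEq_iff_dvd' (Nat.le_add_left 1 _)).mp h2.symm
      rw [Nat.add_sub_cancel] at h4
      exact hne ((Nat.prime_dvd_prime_iff_eq hr hp.out).mp (hr.dvd_of_dvd_pow h4))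
    have fr : ∀ x ∈ (P : Subgroup G), x • T = T → x = 1 := fun x hx e => by_contra fun h =>
      hTP (hti T x hx (Hyp.mem_of_pElt (Sylow.smul_eq_iff_mem_normalizer.mp e)
        (pElt_of_le P.isPGroup' hx)) h)
    have fx : ∀ x ∈ (P : Subgroup G), x • P = P := fun x hx =>
      Sylow.smul_eq_iff_mem_normalizer.mpr (le_normalizer hx)
    let f : Option (P : Subgroup G) → Sylow p G := fun o => o.elim P fun x => (x : G) • T
    have nx : ∀ x : (P : Subgroup G), (x : G) • T ≠ P := fun x e =>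
      hTP (by rw [← inv_smul_smul (x : G) T, e, fx _ (inv_mem x.2)])
    have hf : Function.Injective f := by
      rintro (_ | x) (_ | y) e
      · rfl
      · exact absurd e.symm (nx y)
      · exact absurd e (nx x)
      · have e' : (x : G) • T = (y : G) • T := e
        have := fr _ (mul_mem (inv_mem y.2) x.2) (by rw [mul_smul, e', inv_smul_smul])
        exact congrArg some (Subtype.ext (inv_mul_eq_one.mp this).symm)
    have hb := (Nat.bijective_iff_injective_and_card f).mpr ⟨hf, by rw [Finite.card_option, hc]⟩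
    have h5 : c ∈ (MulAction.toPermHom G (Sylow p G)).ker := Equiv.ext fun S => by
      obtain ⟨_ | x, rfl⟩ := hb.2 S
      · exact hcP'
      · change c • (x : G) • T = (x : G) • T
        rw [← mul_smul, ← hcP x x.2, mul_smul, hT]
    have h6 : (P : Subgroup G) ⊓ (MulAction.toPermHom G (Sylow p G)).ker = ⊥ :=
      eq_bot_iff.mpr fun x hx => fr x hx.1 (Equiv.congr_fun hx.2 T)
    have h7 := H44.le_pPrimeCore inferInstance (H3.coprime_card_of_normal_of_inf_sylow_eq_bot P _ h6)
    rw [hcore] at h7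
    exact hr.ne_one (by rw [← ho, mem_bot.mp (h7 h5), orderOf_one])
  intro c hcP
  obtain ⟨z, hz⟩ := H33.exists_isPPart hp.out c
  have h1 := H33.IsPPart.mem_of_mem hp.out hz _ hcP
  have h2 : z⁻¹ * c = 1 := by
    by_contra hne
    obtain ⟨r, hr, hd⟩ := Nat.exists_prime_and_dvd (mt orderOf_eq_one_iff.mp hne)
    have := key _ (pow_mem (mul_mem (inv_mem h1) hcP) (orderOf (z⁻¹ * c) / r)) r hr
      (orderOf_pow_orderOf_div (orderOf_pos _).ne' hd)
    exact H33.IsPPart.regular hz (this ▸ hd)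
  rw [← inv_mul_eq_one.mp h2]
  exact Hyp.mem_of_pElt (centralizer_le_normalizer _ h1) (H33.IsPPart.pElt hz)

theorem card_sylow_G1 {p : ℕ} [Fact p.Prime] (P : Sylow p G) :
    Nat.card (Sylow p G) = (normalizer ((P1 P : Subgroup (G1 P)) : Set (G1 P))).index := by
  set N := normalizer ((P : Subgroup G) : Set G)
  have h1 : N ⊔ G1 P = ⊤ := Sylow.normalizer_sup_eq_top' P le_normalClosure
  have h2 := relIndex_mul_index (inf_le_left : N ⊓ G1 P ≤ N)
  have h3 := relIndex_mul_index (inf_le_right : N ⊓ G1 P ≤ G1 P)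
  rw [inf_relIndex_left, ← relIndex_sup_right N (G1 P), h1, relIndex_top_right, ← h3,
    inf_relIndex_right, mul_comm] at h2
  rw [P.card_eq_index_normalizer]
  exact (Nat.eq_of_mul_eq_mul_right (Nat.pos_of_ne_zero index_ne_zero_of_finite) h2).trans
    (congrArg index (subgroupOf_normalizer_eq le_normalClosure))

theorem Hyp.two {P : Sylow 2 G} (h : Hyp P) (hcore : pPrimeCore 2 G = ⊥)
    (hnn : ¬ (P : Subgroup G).Normal)
    (hd : ¬ (IsElementaryAbelian 2 (P : Subgroup G) ∧
      ∀ x ∈ (P : Subgroup G), ∀ y ∈ (P : Subgroup G), x ≠ 1 → y ≠ 1 → ∃ g : G, g * x * g⁻¹ = y)) :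
    Lie.IsoSuzuki G := by
  have h1 := h.toG1
  have n1 := not_normal_P1 P hnn
  have := h1.simple (core_G1 P hcore) n1 (gen_P1 P)
  have hper := h1.perfect (core_G1 P hcore) n1 (gen_P1 P)
  have hna : ¬ IsMulCommutative (G1 P) := fun e => n1 inferInstance
  obtain ⟨w, hw, hw1⟩ := ex_Z0 (ne_bot_of_not_normal n1)
  have gd := GOLD.gold hna (GOLD.SC.of_stronglyClosed (P1 P) (A := Z0 2 (P1 P : Subgroup (G1 P)))
    ⟨Z0_le, fun x hx g hg => h1.sc hx hg⟩)
    ⟨⟨⟨fun a b => Subtype.ext (b.2.2.1 a a.2.1)⟩⟩, fun a ha => ha.2.2⟩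
    (fun e => hw1 (mem_bot.mp (e ▸ hw))) (P1 P)
  have hel : ¬ ∀ x ∈ (P : Subgroup G), x * x = 1 := fun he => hd
    ⟨⟨⟨⟨fun a b => Subtype.ext (H12.EA.comm he a.2 b.2)⟩⟩, fun a ha => (pow_two a).trans (he a ha)⟩,
      fun x hx y hy hx1 hy1 => by
        obtain ⟨n, -, e⟩ := gd.trans ⟨x, le_normalClosure hx⟩ hx ⟨y, le_normalClosure hy⟩ hy
          (Subtype.ext (he x hx)) (Subtype.ext (he y hy)) (fun e => hx1 (congrArg Subtype.val e))
          fun e => hy1 (congrArg Subtype.val e)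
        exact ⟨n, congrArg Subtype.val e⟩⟩
  obtain ⟨ti, hi⟩ := gd.cases.resolve_left fun he =>
    hel fun x hx => congrArg Subtype.val (he ⟨x, le_normalClosure hx⟩ hx)
  have hti : ∀ T : Sylow 2 G, ∀ x ∈ (P : Subgroup G), x ∈ (T : Subgroup G) → x ≠ 1 → T = P :=
    fun T x hx hxT hx1 => by
      obtain ⟨g, rfl⟩ := MulAction.exists_smul_eq G P T
      obtain ⟨a, ha, n, hn, rfl⟩ := mem_sup_of_normal_left.mp
        ((sup_comm _ _).trans (Sylow.normalizer_sup_eq_top' P le_normalClosure) ▸ mem_top g)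
      rw [mul_smul, Sylow.smul_eq_iff_mem_normalizer.mpr hn] at hxT ⊢
      by_contra hne
      have a1 := ti ⟨a, ha⟩ fun e => hne (Sylow.smul_eq_iff_mem_normalizer.mpr
        ((subgroupOf_normalizer_eq (le_normalClosure (H := (P : Subgroup G)))).ge e))
      have a2 : (⟨x, le_normalClosure hx⟩ : G1 P) ∈ (⊥ : Subgroup (G1 P)) :=
        a1 ▸ mem_inf.mpr ⟨hx, H49.mem_cj.mpr (mem_smul_iff.mp hxT :)⟩
      exact hx1 (congrArg Subtype.val (mem_bot.mp a2))
  have hcP := cent_le_of_ti P hcore hti (by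
    rw [card_sylow_G1 P, hi]
    exact congrArg (· + 1) (Nat.card_congr (subgroupOfEquivOfLe le_normalClosure).toEquiv))
  have hcit : H12.IsCIT G := fun t ht => by
    obtain ⟨g, hg⟩ := exists_conj_mem_sylow' P (x := t) ⟨1, ht⟩
    have t1 : g * t * g⁻¹ ≠ 1 := fun e => by
      rw [← orderOf_cj g, e, orderOf_one] at ht
      omega
    refine IsPGroup.iff_orderOf.mpr fun x => ?_
    have a1 : g * x * g⁻¹ * (g * t * g⁻¹) = g * t * g⁻¹ * (g * x * g⁻¹) := by
      calc _ = g * (x * t) * g⁻¹ := by group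
        _ = _ := by rw [mem_centralizer_singleton_iff.mp x.2]; group
    have a2 := hti ((g * x * g⁻¹) • P) _ hg (mem_smul_iff.mpr (by
      rwa [mul_assoc, ← a1, inv_mul_cancel_left])) t1
    obtain ⟨y, hy, e⟩ := h.fpf (Sylow.smul_eq_iff_mem_normalizer.mp a2) hg t1 a1
    have a3 : y⁻¹ * (g * x * g⁻¹) ∈ (P : Subgroup G) := hcP fun u hu => by
      calc _ = y⁻¹ * (y * u * y⁻¹) * (g * x * g⁻¹) := by group
        _ = _ := by rw [← e u hu]; group
    have a4 := pElt_of_le P.isPGroup' (mul_mem hy a3)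
    rwa [mul_inv_cancel_left, orderOf_cj, orderOf_coe] at a4
  have hTI : H12.TISyl G := fun S T hS hT hne => by
    obtain ⟨S, rfl⟩ := hS.exists_sylow_top
    obtain ⟨T, rfl⟩ := hT.exists_sylow_top
    obtain ⟨g, rfl⟩ := MulAction.exists_smul_eq G P S
    refine eq_bot_iff.mpr fun x hx => by_contra fun hx1 => hne ?_
    have := hti (g⁻¹ • T) _ (mem_smul_iff.mp hx.1) (mem_smul_iff.mpr (by
      simpa [mul_assoc] using mem_inf.mp hx |>.2)) fun e => hx1 (by
        rw [mem_bot, ← mul_inv_cancel_right x g, ← mul_inv_cancel_left g (x * g), ← mul_assoc g⁻¹, e]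
        simp)
    rw [← this, smul_inv_smul]
  have hns : ¬ Group.IsSolvable G := fun hs =>
    (Group.IsSolvable.commutator_lt_top_of_nontrivial (G1 P)).ne hper
  refine (H25.cit_ti_iso hns hcit hTI).resolve_left ?_
  rintro ⟨n, -, ⟨e⟩⟩
  refine hel fun x hx => e.injective ?_
  obtain ⟨k, hk⟩ := pElt_of_le P.isPGroup' hx
  obtain ⟨g, hg⟩ := H66.toPSL_surjective (e x)
  have := S3154.sq_sl2' (k := k) (g := g) (H66.toPSL_injective CharTwo.two_eq_zero (by
    rw [map_pow, hg, ← map_pow, ← hk, pow_orderOf_eq_one, map_one, map_one]))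
  rw [map_mul, ← hg, ← map_mul, this, map_one, map_one]

end Cfsg.Agent.H87.Gz
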