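import Cfsg.Agent.H53.ST4
import Cfsg.Agent.H33.Gal
import Cfsg.Agent.H33.Val
import Cfsg.Agent.H89.CharAux
import Cfsg.Agent.H5.Burnside

/-!
Tools for simple groups of order `9 * 2 ^ a * q ^ b`: arithmetic of consecutive degrees,
congruences and rationality of character values.
-/

set_option autoImplicit false
set_option linter.unusedSectionVars false

namespace Cfsg.Agent.H87.Ni

open Cfsg Subgroup

section arith

theorem pow_cases (q j : ℕ) (m : ℕ) (h : q ^ 2 % m = 1 % m) :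
    q ^ j % m = 1 % m ∨ q ^ j % m = q % m := by
  have key : ∀ k, (q ^ 2) ^ k % m = 1 % m := fun k => by
    rw [Nat.pow_mod, h, ← Nat.pow_mod, one_pow]
  rcases Nat.even_or_odd' j with ⟨k, rfl | rfl⟩
  · exact Or.inl (by rw [pow_mul, key])
  · exact Or.inr (by rw [pow_succ, pow_mul, Nat.mul_mod, key, ← Nat.mul_mod, one_mul])

theorem two_pow_cases (i : ℕ) : 2 ^ i = 1 ∨ 2 ^ i = 2 ∨ 2 ^ i = 4 ∨ 2 ^ i = 8 ∨ 2 ^ i = 16 ∨
    2 ^ i % 32 = 0 ∧ 2 ^ i % 3 ≠ 0 := by
  by_cases h : i ≤ 4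
  · interval_cases i <;> norm_num
  · refine Or.inr (Or.inr (Or.inr (Or.inr (Or.inr
      ⟨Nat.mod_eq_zero_of_dvd (pow_dvd_pow 2 (show 5 ≤ i by omega)), fun e => ?_⟩))))
    exact absurd (Nat.prime_three.dvd_of_dvd_pow (Nat.dvd_of_mod_eq_zero e)) (by norm_num)

theorem eq_pow_of_odd {n a b q : ℕ} (hq : q.Prime) (h : n ∣ 2 ^ a * q ^ b) (hn : n % 2 = 1) :
    ∃ j ≤ b, n = q ^ j :=
  (Nat.dvd_prime_pow hq).1 (Nat.Coprime.dvd_of_dvd_mul_left
    (Nat.Coprime.pow_right _ ((Nat.coprime_two_right).2 (Nat.odd_iff.2 hn))) h)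

theorem eq_two_pow {n a b q : ℕ} (hq : q.Prime) (h : n ∣ 2 ^ a * q ^ b) (hn : ¬ q ∣ n) :
    ∃ i, n = 2 ^ i := by
  obtain ⟨i, -, e⟩ := (Nat.dvd_prime_pow Nat.prime_two).1 (Nat.Coprime.dvd_of_dvd_mul_right
    (Nat.Coprime.pow_right _ ((Nat.Prime.coprime_iff_not_dvd hq).2 hn).symm) h)
  exact ⟨i, e⟩

/-- Consecutive divisors of `2 ^ a * q ^ b`. -/
theorem consec {n a b q : ℕ} (hq : q = 5 ∨ q = 7 ∨ q = 13 ∨ q = 17) (h2 : 2 ≤ n)
    (h : n ∣ 2 ^ a * q ^ b) (h' : n + 1 ∣ 2 ^ a * q ^ b) :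
    n = 4 ∧ q = 5 ∨ n = 7 ∧ q = 7 ∨ n = 16 ∧ q = 17 := by
  have hp : q.Prime := by rcases hq with rfl | rfl | rfl | rfl <;> norm_num
  have hd : ∀ {m j : ℕ}, 2 ≤ m → m = q ^ j → q ∣ m := fun {m j} h1 e => by
    rcases j with _ | j
    · simp at e; omega
    · exact e ▸ Dvd.intro_left _ (pow_succ q j).symm
  rcases Nat.mod_two_eq_zero_or_one n with hn | hn
  · obtain ⟨j, -, e⟩ := eq_pow_of_odd hp h' (by omega)
    obtain ⟨i, e'⟩ := eq_two_pow hp h fun hc => hp.one_lt.ne'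
      (Nat.dvd_one.1 ((Nat.dvd_add_right hc).1 (hd (by omega) e)))
    have h3 := two_pow_cases i
    have h5 := hd (by omega) e
    have h6 := pow_cases q j
    rw [← e'] at h3
    rw [← e] at h6
    clear hd h h' hp e e'
    rcases h3 with h | h | h | h | h | ⟨h, h'⟩
    iterate 5
      have h8 := h6 24 (by rcases hq with rfl | rfl | rfl | rfl <;> rfl)
      clear h6
      rcases hq with rfl | rfl | rfl | rfl <;> omega
    exfalso
    clear h5
    rcases hq with rfl | rfl | rfl | rfl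
    · rcases h6 24 rfl with h | h <;> omega
    · rcases h6 24 rfl with h | h <;> omega
    · rcases h6 24 rfl with h | h <;> omega
    · rcases h6 96 rfl with h | h <;> omega
  · obtain ⟨j, -, e⟩ := eq_pow_of_odd hp h hn
    obtain ⟨i, e'⟩ := eq_two_pow hp h' fun hc => hp.one_lt.ne'
      (Nat.dvd_one.1 ((Nat.dvd_add_right (hd h2 e)).1 hc))
    have h3 := two_pow_cases i
    have h5 := hd h2 e
    have h6 := pow_cases q j
    rw [← e'] at h3
    rw [← e] at h6
    clear hd h h' hp e e'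
    rcases h3 with h | h | h | h | h | ⟨h, h'⟩
    iterate 5
      have h8 := h6 24 (by rcases hq with rfl | rfl | rfl | rfl <;> rfl)
      clear h6
      rcases hq with rfl | rfl | rfl | rfl <;> omega
    exfalso
    clear h5
    rcases hq with rfl | rfl | rfl | rfl
    · rcases h6 24 rfl with h | h <;> omega
    · rcases h6 48 rfl with h | h <;> omega
    · rcases h6 24 rfl with h | h <;> omega
    · rcases h6 96 rfl with h | h <;> omega

theorem dvd_of_not_three {n a b q : ℕ} (h : n ∣ 9 * 2 ^ a * q ^ b) (h3 : ¬ 3 ∣ n) :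
    n ∣ 2 ^ a * q ^ b := by
  rw [mul_assoc] at h
  exact Nat.Coprime.dvd_of_dvd_mul_left
    (Nat.Coprime.pow_right 2 ((Nat.Prime.coprime_iff_not_dvd Nat.prime_three).2 h3).symm) h

theorem exists_coprime_modEq {N r a : ℕ} (hN : N ≠ 0) (hr : r ∣ N) (ha : a.Coprime r) :
    ∃ n, n.Coprime N ∧ n ≡ a [MOD r] := by
  have : NeZero N := ⟨hN⟩
  obtain ⟨u, hu⟩ := ZMod.unitsMap_surjective hr (ZMod.unitOfCoprime a ha)
  refine ⟨(u : ZMod N).val, ZMod.val_coe_unit_coprime u, ?_⟩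
  have := congrArg (fun x : (ZMod r)ˣ => (x : ZMod r)) hu
  simp only [ZMod.unitsMap_val, ZMod.coe_unitOfCoprime] at this
  rw [← ZMod.natCast_eq_natCast_iff, ← this, ZMod.natCast_val]

end arith

variable {G : Type*} [Group G] [Finite G]

/-- Integer values at `x y` and `y` are congruent for a `p`-element `x` commuting with `y`. -/
theorem int_cong {p : ℕ} (hp : p.Prime) {χ : G → ℂ} (hχ : IsCharacter G χ) {x y : G}
    (hc : Commute x y) (hx : ∃ k, orderOf x = p ^ k) {m n : ℤ} (hm : χ (x * y) = m)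
    (hn : χ y = n) : (p : ℤ) ∣ m - n := by
  obtain ⟨M, hM⟩ := H86.exists_isPModular hp
  have := hM.2.1
  have h := H33.char_mul_sub_mem hM hχ hc hx
  rw [hm, hn, ← Int.cast_sub] at h
  exact (H32.intCast_mem_locMax_iff hM).1 h

theorem int_cong_one {p : ℕ} (hp : p.Prime) (χ : IrrCharacter G) {x : G}
    (hx : ∃ k, orderOf x = p ^ k) {m : ℤ} (hm : (χ : G → ℂ) x = m) :
    (p : ℤ) ∣ m - charDegree (χ : G → ℂ) :=
  int_cong hp (H5.isCharacter_of_isIrr χ.2) (Commute.one_right x) hx (by rw [mul_one, hm])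
    (by rw [← H33.irr_charDegree_cast]; simp)

/-- In a nonabelian simple group the values of a nonprincipal character are small. -/
theorem abs_lt [IsSimpleGroup G] (hG : ¬ IsMulCommutative G) {χ : IrrCharacter G}
    (h1 : χ ≠ H33.oneIrr G) {g : G} (hg : g ≠ 1) {m : ℤ} (hm : (χ : G → ℂ) g = m) :
    |m| < charDegree (χ : G → ℂ) := by
  have hχ := H5.isCharacter_of_isIrr χ.2
  have h2 := H5.norm_apply_le_degree hχ g
  have h3 : ‖(χ : G → ℂ) g‖ ≠ ‖(χ : G → ℂ) 1‖ := fun e => by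
    rcases (H5.instNormalCharCenter hχ).eq_bot_or_eq_top with h | h
    · exact hg (h ▸ (H5.mem_charCenter hχ).2 e : g ∈ (⊥ : Subgroup G))
    · refine hG ⟨⟨fun a b => ?_⟩⟩
      have := H5.eq_one_of_simple_of_apply_eq χ.2 (fun e => h1 (Subtype.ext e))
        (H5.apply_commutator_of_norm_eq hχ ((H5.mem_charCenter hχ).1 (h ▸ mem_top a)) b)
      rwa [mul_inv_eq_one, mul_inv_eq_iff_eq_mul] at this
  have h4 := lt_of_le_of_ne h2 h3
  rw [hm, ← H33.irr_charDegree_cast, Complex.norm_intCast, Complex.norm_natCast] at h4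
  exact_mod_cast h4

theorem two_le_degree [IsSimpleGroup G] (hG : ¬ IsMulCommutative G) {χ : IrrCharacter G}
    (h1 : χ ≠ H33.oneIrr G) : 2 ≤ charDegree (χ : G → ℂ) := by
  by_contra h
  have h2 : charDegree (χ : G → ℂ) = 1 := by have := H33.charDegree_ne_zero χ; omega
  have h3 : (χ : G → ℂ) 1 = 1 := by rw [← H33.irr_charDegree_cast, h2, Nat.cast_one]
  obtain ⟨lam, e⟩ := H5.exists_monoidHom_of_degree_one (H5.isCharacter_of_isIrr χ.2) h3
  refine hG ⟨⟨fun a b => ?_⟩⟩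
  have := H5.eq_one_of_simple_of_apply_eq χ.2 (fun e => h1 (Subtype.ext e))
    (g := a * b * a⁻¹ * b⁻¹) (by rw [e]; simp)
  rwa [mul_inv_eq_one, mul_inv_eq_iff_eq_mul] at this

/-- A character fixed by the power maps that are trivial modulo `3` has integer values at the
`3`-regular elements. -/
theorem exists_int_of_pow (h3 : 3 ∣ Nat.card G) {χ : IrrCharacter G}
    (h : ∀ (k : ℕ) (hk : k.Coprime (Nat.card G)), k ≡ 1 [MOD 3] → H33.powIrr hk χ = χ) {g : G}
    (hg : ¬ 3 ∣ orderOf g) : ∃ m : ℤ, (χ : G → ℂ) g = m := by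
  refine H7.exists_int_character_of_pow (H5.isCharacter_of_isIrr χ.2) fun m hm => ?_
  have co : (orderOf g).Coprime 3 := ((Nat.Prime.coprime_iff_not_dvd Nat.prime_three).2 hg).symm
  obtain ⟨m', h1, h2⟩ := Nat.chineseRemainder co m 1
  have h4 : m'.Coprime (orderOf g * 3) := Nat.Coprime.mul_right
    (by rw [Nat.Coprime, Nat.gcd_comm, Nat.gcd_rec, h1, ← Nat.gcd_rec, Nat.gcd_comm]; exact hm)
    (by rw [Nat.Coprime, Nat.gcd_comm, Nat.gcd_rec, h2]; rfl)
  obtain ⟨k, hk, h5⟩ := exists_coprime_modEq (Nat.card_pos (α := G)).ne'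
    (co.mul_dvd_of_dvd_of_dvd (orderOf_dvd_natCard g) h3) h4
  rw [← (H33.powIrr_eq_iff hk χ).1 (h k hk ((h5.of_mul_left _).trans h2)) g]
  exact congrArg _ (pow_eq_pow_iff_modEq.2 ((h5.of_mul_right _).trans h1).symm)

/-- A simple group with a character of prime degree `q` that is rational on the `q`-elements has
Sylow `q`-subgroups of order at most `q`. -/
theorem not_sq_dvd [IsSimpleGroup G] (hG : ¬ IsMulCommutative G) {q : ℕ} (hq : q.Prime)
    {χ : IrrCharacter G} (hd : charDegree (χ : G → ℂ) = q)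
    (h : ∀ g : G, (∃ k, orderOf g = q ^ k) → ∃ m : ℤ, (χ : G → ℂ) g = m) :
    ¬ q ^ 2 ∣ Nat.card G := fun h2 => by
  classical
  have := Fact.mk hq
  obtain ⟨Q, hQ⟩ := Sylow.exists_subgroup_card_pow_prime q h2
  have := Fintype.ofFinite Q
  have h1 : χ ≠ H33.oneIrr G := fun e => by
    rw [e] at hd
    exact hq.one_lt.ne (H33.charDegree_one.symm.trans hd)
  have h0 : ∀ g : Q, g ≠ 1 → (χ : G → ℂ) g = 0 := fun g hg => by
    have hk := H34.pElt_of_le (IsPGroup.of_card hQ) g.2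
    obtain ⟨m, hm⟩ := h g hk
    have h3 := int_cong_one hq χ hk hm
    have h4 := abs_lt hG h1 (fun e => hg (Subtype.ext e)) hm
    rw [hd] at h3 h4
    rw [hm, Int.eq_zero_of_abs_lt_dvd (by simpa using h3) h4, Int.cast_zero]
  obtain ⟨n, hn⟩ := H5.exists_nat_classInner
    (H5.isCharacter_comp (H5.isCharacter_of_isIrr χ.2) Q.subtype) H5.isCharacter_one
  rw [H5.classInner_one_right, Finset.sum_eq_single 1 (fun g _ hg => by exact h0 g hg) (by simp), hQ,
    map_one, ← H33.irr_charDegree_cast, hd, inv_mul_eq_iff_eq_mul₀ (by simp [hq.ne_zero])] at hn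
  have h5 : q = q ^ 2 * n := by exact_mod_cast hn
  have := Nat.le_of_dvd hq.pos ⟨n, h5⟩
  nlinarith [hq.two_le]

/-- The value at an element permuting a coset is bounded by the dimension of the fixed space. -/
theorem norm_le_avg {χ : G → ℂ} (hχ : IsCharacter G χ) (U : Subgroup G) [Fintype U] {a : G}
    (ha : a ∈ normalizer (U : Set G)) (h : ∀ w ∈ U, χ (w * a) = χ a) :
    ‖χ a‖ ≤ ‖(Nat.card U : ℂ)⁻¹ * ∑ w : U, χ w‖ := by
  have h1 := H89.isCharacter_avg_hom (inclusion (le_normalizer (H := U)))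
    (inclusion_injective _) (by rw [inclusion_range]; infer_instance)
    (H5.isCharacter_comp hχ (normalizer (U : Set G)).subtype)
  have h2 := H5.norm_apply_le_degree h1 ⟨a, ha⟩
  simp only [coe_subtype, coe_mul, coe_inclusion, mul_one] at h2
  rwa [Finset.sum_congr rfl fun (w : U) _ => h w w.2, Finset.sum_const, Finset.card_univ,
    ← Nat.card_eq_fintype_card, nsmul_eq_mul, inv_mul_cancel_left₀ H5.natCard_ne_zero] at h2

end Cfsg.Agent.H87.Ni
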