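import Cfsg.Agent.H87.NiA
import Cfsg.Agent.H35.Stanton

/-!
Simple groups of order `9 * 2 ^ a * q ^ b` with a cyclic Sylow `3`-subgroup: the Sylow subgroup is
the centralizer of each of its nonidentity elements.
-/

set_option autoImplicit false
set_option linter.unusedSectionVars false

open scoped ComplexConjugate

namespace Cfsg.Agent.H87.Ni

open Cfsg Cfsg.Agent.H32 Cfsg.Agent.H86 Cfsg.Agent.H34 Subgroup

variable {G : Type*} [Group G] [Finite G] {M : Ideal AlgInt} {p : ℕ} [hp : Fact p.Prime]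

/-- The principal block when the automizer has order two. -/
structure TB (M : Ideal AlgInt) (P : Sylow p G) (χ : IrrCharacter G) (a δ : ℤ) : Prop where
  sign : a = 1 ∨ a = -1
  sign' : δ = 1 ∨ δ = -1
  ne_one : χ ≠ H33.oneIrr G
  mem : χ ∈ principalBlock M G
  sing : ∀ g, p ∣ orderOf g → (χ : G → ℂ) g = a
  deg : (Nat.card (P : Subgroup G) : ℤ) ∣ charDegree (χ : G → ℂ) - a
  exc : ∀ ξ ∈ principalBlock M G, ξ ≠ H33.oneIrr G → ξ ≠ χ → ∀ g, ¬ p ∣ orderOf g →
    (ξ : G → ℂ) g = δ * (1 + a * (χ : G → ℂ) g)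
  ex : ∃ ξ ∈ principalBlock M G, ξ ≠ H33.oneIrr G ∧ ξ ≠ χ

theorem exists_TB (hM : IsPModular p M) {P : Sylow p G} (h : AbF P)
    (h2 : Nat.card (autz (P : Subgroup G)) = 2) (h9 : 9 ≤ Nat.card (P : Subgroup G)) :
    ∃ χ a δ, TB M P χ a δ := by
  classical
  have := hM.2.1
  have := Fintype.ofFinite (P : Subgroup G)
  have := Fintype.ofFinite ((P : Subgroup G) →* ℂˣ)
  obtain ⟨δ, ζ, B0⟩ := h.exists_abBlk hM (by omega)
  obtain ⟨d, a, B⟩ := B0.exists_abData h hM (by omega)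
  have hY := B0.card_excY h
  have hN := B.norm_eq h hM
  rw [h2] at hY hN
  have hr : (4 : ℤ) ≤ (excY ζ).card := by exact_mod_cast (by omega : 4 ≤ (excY ζ).card)
  have h1 := B.one_mem h
  rw [← Finset.add_sum_erase _ _ h1, B.a_one h] at hN
  set T := (excX M ζ).erase (H33.oneIrr G) with hT
  have hTa : ∀ χ ∈ T, 1 ≤ a χ ^ 2 := fun χ hχ =>
    (one_le_sq_iff_one_le_abs _).mpr (Int.one_le_abs (B.a_ne_zero h hM (Finset.mem_of_mem_erase hχ)))
  have hS : (T.card : ℤ) ≤ ∑ χ ∈ T, a χ ^ 2 := by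
    rw [Finset.card_eq_sum_ones, Nat.cast_sum]
    exact Finset.sum_le_sum fun χ hχ => by simpa using hTa χ hχ
  have hd : d = 0 := by
    by_contra hd
    have := (one_le_sq_iff_one_le_abs _).mpr (Int.one_le_abs hd)
    have h0 : (0 : ℤ) ≤ T.card := Int.natCast_nonneg _
    push_cast at hN
    nlinarith [sq_nonneg (d - δ)]
  subst hd
  have hδ : δ ^ 2 = 1 := by rw [sq, B0.sq]
  have hS1 : ∑ χ ∈ T, a χ ^ 2 = 1 := by
    push_cast at hN
    linear_combination hN - hδ
  have hT1 : T.card = 1 := by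
    have h3 : T.card ≤ 1 := by exact_mod_cast hS.trans hS1.le
    have h4 : T.card ≠ 0 := fun e => by
      rw [Finset.card_eq_zero.mp e] at hS1
      simp at hS1
    omega
  obtain ⟨χ, hχ⟩ := Finset.card_eq_one.mp hT1
  have hχT : χ ∈ T := hχ ▸ Finset.mem_singleton_self χ
  have hχX : χ ∈ excX M ζ := Finset.mem_of_mem_erase hχT
  rw [hχ, Finset.sum_singleton] at hS1
  have hδδ : (δ : ℂ) * δ = 1 := by exact_mod_cast B0.sq
  have hreg : ∀ ψ, ψ ≠ 1 → ∀ g, ¬ p ∣ orderOf g →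
      (ζ ψ : G → ℂ) g = δ * (1 + a χ * (χ : G → ℂ) g) := fun ψ hψ g hg => by
    have := B.regular_rel hM hψ hg
    rw [← Finset.add_sum_erase _ _ h1, B.a_one h, ← hT, hχ, Finset.sum_singleton,
      H33.oneIrr_apply] at this
    push_cast at this
    linear_combination (-δ) * this - (ζ ψ : G → ℂ) g * hδδ
  refine ⟨χ, a χ, δ, sq_eq_one_iff.1 hS1, B0.sign, Finset.ne_of_mem_erase hχT,
    (mem_excX.mp hχX).1, fun g hg => ?_, B.degX h hχX, fun ξ hξ e e' => ?_, ?_⟩
  · obtain ⟨y, hy, e⟩ := h.exists_val hM hg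
    rw [e χ (mem_excX.mp hχX).1, B.valX h hχX hy]
  · by_cases hY : ∃ ψ, ψ ≠ 1 ∧ ζ ψ = ξ
    · obtain ⟨ψ, hψ, rfl⟩ := hY
      exact hreg ψ hψ
    · have : ξ ∈ T := Finset.mem_erase.mpr ⟨e, mem_excX.mpr ⟨hξ, fun ψ hψ e => hY ⟨ψ, hψ, e⟩⟩⟩
      rw [hχ, Finset.mem_singleton] at this
      exact absurd this e'
  · obtain ⟨ψ, -, hψ, -⟩ := h.exists_not_cR B.big
    exact ⟨ζ ψ, B0.mem ψ hψ, B0.ne_oneIrr h B.big hψ, (mem_excX.mp hχX).2 ψ hψ⟩

theorem reg_one : ¬ p ∣ orderOf (1 : G) := by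
  rw [orderOf_one, Nat.dvd_one]; exact hp.out.ne_one

namespace TB

variable {P : Sylow p G} {χ : IrrCharacter G} {a δ : ℤ} (B : TB M P χ a δ)
include B

theorem sum_split [M.IsMaximal] [DecidableEq (IrrCharacter G)] (F : IrrCharacter G → ℂ) :
    ∑ ξ ∈ fs (principalBlock M G), F ξ = F (H33.oneIrr G) + (F χ +
      ∑ ξ ∈ ((fs (principalBlock M G)).erase (H33.oneIrr G)).erase χ, F ξ) := by
  rw [Finset.add_sum_erase _ _ (Finset.mem_erase.2 ⟨B.ne_one, mem_fs.2 B.mem⟩),
    Finset.add_sum_erase _ _ (mem_fs.2 H33.oneIrr_mem_principalBlock)]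

theorem deg_ne : 1 + (a : ℂ) * (χ : G → ℂ) 1 ≠ 0 := fun e => by
  obtain ⟨ξ, h1, h2, h3⟩ := B.ex
  have := B.exc ξ h1 h2 h3 1 reg_one
  rw [e, mul_zero] at this
  exact H5.degree_ne_zero ξ.2 this

/-- Every involution outside the kernel inverts a conjugate of each `p`-element. -/
theorem inverts (hM : IsPModular p M) {t u : G} (ht : t * t = 1) (hreg : ¬ p ∣ orderOf t)
    (hk : (χ : G → ℂ) t ≠ (χ : G → ℂ) 1) (hu : ∃ k, orderOf u = p ^ k) (hu1 : u ≠ 1) :
    ∃ s y, IsConj t s ∧ IsConj u y ∧ s * y * s⁻¹ = y⁻¹ := by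
  classical
  have := hM.2.1
  by_contra hn
  have huu := H33.isPPart_self hp.out hu
  have hus : p ∣ orderOf u := by
    by_contra h
    exact hu1 (H33.eq_one_of_pElt_of_regular hu h)
  have e1 := colS_eq_zero hM (H34.isPBlock_principalBlock (G := G)) huu
    (H33.isPPart_one_of_regular reg_one) (by simpa using hu1)
  have e2 := sum_mul_prod_eq_zero hM (H34.isPBlock_principalBlock (G := G)) (s := t) (t := t) huu
    fun s s' y hs hs' hy hc => hn ⟨s, y, hs, hc, inverts_pPart hp.out (mul_self_of_isConj ht hs)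
      (mul_self_of_isConj ht hs') hy⟩
  have haa : (a : ℂ) * a = 1 := by rcases B.sign with e | e <;> simp [e]
  have hδδ : (δ : ℂ) * δ = 1 := by rcases B.sign' with e | e <;> simp [e]
  have hδ : (δ : ℂ) ≠ 0 := left_ne_zero_of_mul_eq_one hδδ
  rw [colS] at e1
  rw [B.sum_split] at e1 e2
  have hx : ∀ ξ ∈ ((fs (principalBlock M G)).erase (H33.oneIrr G)).erase χ, ∀ g, ¬ p ∣ orderOf g →
      (ξ : G → ℂ) g = δ * (1 + a * (χ : G → ℂ) g) := fun ξ hξ =>
    B.exc ξ (mem_fs.1 (Finset.mem_of_mem_erase (Finset.mem_of_mem_erase hξ)))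
      (Finset.ne_of_mem_erase (Finset.mem_of_mem_erase hξ)) (Finset.ne_of_mem_erase hξ)
  rw [Finset.sum_congr rfl fun ξ hξ => by rw [hx ξ hξ 1 reg_one], ← Finset.sum_mul] at e1
  rw [Finset.sum_congr rfl fun ξ hξ => by rw [hx ξ hξ 1 reg_one, hx ξ hξ t hreg],
    ← Finset.sum_mul] at e2
  simp only [H33.oneIrr_apply, map_mul, map_div₀, map_add, map_one, map_intCast, conj_irr_one,
    conj_irr_of_mul_self χ ht, B.sing u hus] at e1 e2
  have hd := H5.degree_ne_zero χ.2
  have hE := B.deg_ne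
  generalize ∑ ξ ∈ ((fs (principalBlock M G)).erase (H33.oneIrr G)).erase χ, (ξ : G → ℂ) u = S
    at e1 e2
  generalize (χ : G → ℂ) t = s at *
  generalize (χ : G → ℂ) 1 = d at *
  have hS : S = -δ := by
    have : (1 + a * d) * (1 + S * δ) = 0 := by linear_combination e1
    have h2 := (mul_eq_zero.1 this).resolve_left hE
    linear_combination δ * h2 - S * hδδ
  rw [hS] at e2
  field_simp at e2
  have : (a : ℂ) * (d - s) ^ 2 = 0 := by
    linear_combination e2 - (s ^ 2 * d - d * s ^ 2 * δ ^ 2) * haa + d * (1 + 2 * a * s + s ^ 2) * hδδ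
  rcases mul_eq_zero.1 this with h | h
  · exact left_ne_zero_of_mul_eq_one haa h
  · exact hk (sub_eq_zero.1 (pow_eq_zero_iff two_ne_zero |>.1 h)).symm

theorem powIrr_eq (hM : IsPModular p M) (h1 : (χ : G → ℂ) 1 ≠ 1)
    (h2 : (δ : ℂ) * (1 + a * (χ : G → ℂ) 1) ≠ (χ : G → ℂ) 1) {k : ℕ}
    (hk : k.Coprime (Nat.card G)) : H33.powIrr hk χ = χ := by
  have := hM.2.1
  by_contra h
  refine h2 ((B.exc _ (H33.powIrr_mem_principalBlock hM hk B.mem) (fun e => h1 ?_) h 1
    reg_one).symm.trans (H33.powIrr_one hk χ))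
  rw [← H33.powIrr_one hk χ, e, H33.oneIrr_apply]

end TB

theorem cent_eq_of_cyclic [IsSimpleGroup G] (hG : ¬ IsMulCommutative G) {q a b : ℕ}
    (hq : q = 5 ∨ q = 7 ∨ q = 13 ∨ q = 17) (hcard : Nat.card G = 9 * 2 ^ a * q ^ b)
    [Fact (Nat.Prime 3)] (P : Sylow 3 G) (h9 : Nat.card (P : Subgroup G) = 9) (h : H53.PM P)
    (hc : IsCyclic (P : Subgroup G)) : (q = 7 ∨ q = 17) ∧
      ∀ k ∈ (P : Subgroup G), k ≠ 1 → centralizer ({k} : Set G) = P := by
  classical
  have hqp : q.Prime := by rcases hq with rfl | rfl | rfl | rfl <;> norm_num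
  obtain ⟨M, hM⟩ := exists_isPModular Nat.prime_three
  have hP : (P : Subgroup G) ≠ ⊥ := fun e => by rw [e, card_bot] at h9; omega
  have hF := h.abF (by norm_num)
  obtain ⟨χ, c, δ, B⟩ := exists_TB hM hF ((card_autz _).trans (h.relIndex_eq (by norm_num) hP))
    h9.ge
  obtain ⟨ξ, hξ, hξ1, hξ2⟩ := B.ex
  have hχ := H5.isCharacter_of_isIrr χ.2
  have e1 := B.exc ξ hξ hξ1 hξ2 1 reg_one
  rw [← H33.irr_charDegree_cast, ← H33.irr_charDegree_cast] at e1
  have e2 : (charDegree (ξ : G → ℂ) : ℤ) = δ * (1 + c * charDegree (χ : G → ℂ)) := by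
    exact_mod_cast e1
  have e3 := B.deg
  have d1 := two_le_degree hG B.ne_one
  have d2 := two_le_degree hG hξ1
  have k1 := fun h3 => dvd_of_not_three (hcard ▸ H33.charDegree_dvd_card χ) h3
  have k2 := fun h3 => dvd_of_not_three (hcard ▸ H33.charDegree_dvd_card ξ) h3
  rw [h9] at e3
  have key : c = -1 ∧ δ = -1 ∧ (charDegree (χ : G → ℂ) = 8 ∧ q = 7 ∨
      charDegree (χ : G → ℂ) = 17 ∧ q = 17) := by
    generalize charDegree (χ : G → ℂ) = m at *
    generalize charDegree (ξ : G → ℂ) = n at *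
    rcases B.sign with rfl | rfl <;> rcases B.sign' with rfl | rfl
    · obtain rfl : n = m + 1 := by omega
      have := consec hq d1 (k1 (by omega)) (k2 (by omega))
      omega
    · omega
    · omega
    · obtain rfl : m = n + 1 := by omega
      have := consec hq d2 (k2 (by omega)) (k1 (by omega))
      omega
  obtain ⟨rfl, rfl, hd⟩ := key
  have hrat : ∀ g, ¬ 3 ∣ orderOf g → ∃ m : ℤ, (χ : G → ℂ) g = m := fun g hg =>
    exists_int_of_pow (by rw [hcard, mul_assoc]; exact Dvd.dvd.mul_right (by norm_num) _)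
      (fun k hk _ => B.powIrr_eq hM (by
        rw [← H33.irr_charDegree_cast]; rcases hd with ⟨e, -⟩ | ⟨e, -⟩ <;> rw [e] <;> norm_num) (by
        rw [← H33.irr_charDegree_cast]; rcases hd with ⟨e, -⟩ | ⟨e, -⟩ <;> rw [e] <;> norm_num) hk) hg
  refine ⟨by omega, fun k hk hk1 => ?_⟩
  have hk3 := pElt_of_le P.isPGroup' hk
  -- the value at a regular element commuting with `k`
  have hcong : ∀ g, Commute k g → ¬ 3 ∣ orderOf g → ∀ m : ℤ, (χ : G → ℂ) g = m → 3 ∣ -1 - m :=
    fun g hg hr m hm => int_cong Nat.prime_three hχ hg hk3 (B.sing _ (by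
      by_contra h3
      exact hk1 ((H33.IsPPart.eq_one_iff Nat.prime_three (H33.isPPart_mul hg hk3 hr)).2 h3))) hm
  have hno : ∀ r : ℕ, r.Prime → r ∣ Nat.card (centralizer ({k} : Set G)) → r = 3 := by
    intro r hr hdvd
    by_contra h3
    have := Fact.mk hr
    obtain ⟨⟨g, hg⟩, ho⟩ := exists_prime_orderOf_dvd_card' r hdvd
    rw [← orderOf_coe] at ho
    replace ho : orderOf g = r := ho
    have hcm : Commute k g := (mem_centralizer_singleton_iff.1 hg).symm
    have hreg : ¬ 3 ∣ orderOf g := fun e =>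
      h3 ((Nat.prime_dvd_prime_iff_eq Nat.prime_three hr).1 (ho ▸ e)).symm
    have hg1 : g ≠ 1 := fun e => hr.one_lt.ne (by rw [← ho, e, orderOf_one])
    obtain ⟨m, hm⟩ := hrat g hreg
    have c1 := hcong g hcm hreg m hm
    have c2 := _root_.abs_lt.1 (Ni.abs_lt hG B.ne_one hg1 hm)
    have h4 := dvd_of_not_three (hcard ▸ hdvd.trans (card_subgroup_dvd_card _)) (ho ▸ hreg)
    rcases hr.dvd_mul.1 h4 with h5 | h5
    · obtain rfl := (Nat.prime_dvd_prime_iff_eq hr Nat.prime_two).1 (hr.dvd_of_dvd_pow h5)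
      have hgg : g * g = 1 := by rw [← sq, ← ho, pow_orderOf_eq_one]
      obtain ⟨u, hu⟩ := hc.exists_ofOrder_eq_natCard
      rw [h9, ← orderOf_coe] at hu
      obtain ⟨s, y, hs, hy, hsy⟩ := B.inverts hM hgg hreg
        (fun e => hg1 (H5.eq_one_of_simple_of_apply_eq χ.2 (fun e => B.ne_one (Subtype.ext e)) e))
        (u := u) ⟨2, hu⟩ (fun e => by rw [e, orderOf_one] at hu; omega)
      have hyo : orderOf y = 9 := by
        obtain ⟨c, rfl⟩ := isConj_iff.1 hy
        exact (MulEquiv.orderOf_eq (MulAut.conj c) (u : G)).trans hu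
      have := Fintype.ofFinite (zpowers y)
      have hinv : ∀ i : ℤ, s * y ^ i * s⁻¹ = (y ^ i)⁻¹ := fun i => by
        rw [← conj_zpow, hsy, inv_zpow]
      have hb := norm_le_avg hχ (zpowers y) (a := s) (by
        refine mem_normalizer_fintype ?_
        rintro _ ⟨i, rfl⟩
        rw [hinv]
        exact inv_mem ⟨i, rfl⟩) (by
        rintro _ ⟨i, rfl⟩
        have h6 : y ^ (5 * i) * s * (y ^ (5 * i))⁻¹ = y ^ i * s := by
          have h7 : y ^ (9 * i) = 1 := by
            rw [zpow_mul, ← Nat.cast_ofNat, ← hyo, zpow_natCast, pow_orderOf_eq_one, one_zpow]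
          calc y ^ (5 * i) * s * (y ^ (5 * i))⁻¹
              = y ^ (5 * i) * (s * s) * y ^ (5 * i) * s⁻¹ := by rw [← hinv]; group
            _ = y ^ i * y ^ (9 * i) * s⁻¹ := by rw [mul_self_of_isConj hgg hs]; group
            _ = _ := by rw [h7, mul_one, inv_eq_of_mul_eq_one_right (mul_self_of_isConj hgg hs)]
        exact h6 ▸ H5.isClassFunction_of_isCharacter hχ s _)
      have h7 : ∑ w : zpowers y, (χ : G → ℂ) w = charDegree (χ : G → ℂ) - 8 := by
        rw [← Finset.add_sum_erase _ _ (Finset.mem_univ 1), Finset.sum_congr rfl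
          (g := fun _ => (-1 : ℂ)), Finset.sum_const, Finset.card_erase_of_mem (Finset.mem_univ _),
          Finset.card_univ, ← Nat.card_eq_fintype_card, Nat.card_zpowers, hyo, coe_one,
          H33.irr_charDegree_cast]
        · norm_num [sub_eq_add_neg]
        intro w hw
        rw [B.sing, Int.cast_neg, Int.cast_one]
        by_contra h8
        exact Finset.ne_of_mem_erase hw (Subtype.ext (H33.eq_one_of_pElt_of_regular
          (pElt_of_le (IsPGroup.of_card (n := 2) (by rw [Nat.card_zpowers, hyo]; rfl)) w.2) h8))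
      rw [h7, ← irr_isConj χ hs, hm, Nat.card_zpowers, hyo] at hb
      obtain ⟨j, -, hj, hj'⟩ := H35.exists_invol_val hχ hgg
      obtain ⟨j, rfl⟩ := hj' (by
        rcases (inferInstance : (commutator G).Normal).eq_bot_or_eq_top with e | e
        · exact absurd ((commutator_eq_bot_iff_center_eq_top G).1 e) fun e => hG
            ⟨⟨fun a b => (mem_center_iff.1 (e ▸ mem_top b)) a⟩⟩
        · exact e ▸ mem_top g)
      have h8 : m = charDegree (χ : G → ℂ) - 2 * (j + j : ℕ) := by exact_mod_cast hm.symm.trans hj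
      rcases hd with ⟨e, -⟩ | ⟨e, -⟩ <;> rw [e] at hb h8
      · have : m = 0 := by simpa [show (8 : ℂ) - 8 = 0 by norm_num] using hb
        omega
      · have : |m| ≤ 1 := by
          rw [show ((9 : ℕ) : ℂ)⁻¹ * (((17 : ℕ) : ℂ) - 8) = 1 by norm_num, norm_one,
            Complex.norm_intCast] at hb
          exact_mod_cast hb
        have := abs_le.1 this
        omega
    · obtain rfl := (Nat.prime_dvd_prime_iff_eq hr hqp).1 (hr.dvd_of_dvd_pow h5)
      have c3 := int_cong_one hr χ ⟨1, by rw [ho, pow_one]⟩ hm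
      rcases hd with ⟨e, rfl⟩ | ⟨e, rfl⟩ <;> rw [e] at c2 c3 <;> omega
  refine P.is_maximal' (IsPGroup.of_card (n := (Nat.card (centralizer ({k} : Set G))).factorization 3)
    ?_) (hF.le_Cg hk)
  exact Nat.eq_prime_pow_of_unique_prime_dvd Nat.card_pos.ne' (fun hr hd => hno _ hr hd) ▸ by
    rw [Nat.Prime.factorization_pow Nat.prime_three, Finsupp.single_eq_same]

end Cfsg.Agent.H87.Ni
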