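import Cfsg.Agent.H87.NiB

/-!
The principal `3`-block for a Sylow subgroup of order three.
-/

set_option autoImplicit false
set_option linter.unusedSectionVars false

open scoped ComplexConjugate

namespace Cfsg.Agent.H87.Ni

open Cfsg Cfsg.Agent.H32 Cfsg.Agent.H86 Cfsg.Agent.H34 Subgroup

variable {G : Type*} [Group G] {M : Ideal AlgInt}

theorem pow_cases_three {y : G} (hy : orderOf y = 3) (m : ℕ) :
    y ^ m = 1 ∧ m % 3 = 0 ∨ y ^ m = y ∨ y ^ m = y⁻¹ := by
  rw [← pow_mod_orderOf, hy]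
  have h3 : y ^ 3 = 1 := hy ▸ pow_orderOf_eq_one y
  have : m % 3 = 0 ∨ m % 3 = 1 ∨ m % 3 = 2 := by omega
  rcases this with h | h | h <;> rw [h]
  · simp
  · simp
  · exact Or.inr (Or.inr (eq_inv_of_mul_eq_one_left (by rw [← pow_succ, h3])))

theorem mem_zpowers_three [Finite G] {y w : G} (hy : orderOf y = 3) (h : w ∈ zpowers y) :
    w = 1 ∨ w = y ∨ w = y⁻¹ := by
  obtain ⟨m, rfl⟩ := (mem_powers_iff_mem_zpowers.2 h)
  exact (pow_cases_three hy m).imp_left And.left

theorem exists_int_three [Finite G] (χ : IrrCharacter G) {y : G} (hy : orderOf y = 3)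
    (hc : IsConj y y⁻¹) : ∃ n : ℤ, (χ : G → ℂ) y = n := by
  refine H7.exists_int_character_of_pow (H5.isCharacter_of_isIrr χ.2) fun m hm => ?_
  rcases pow_cases_three hy m with ⟨-, h⟩ | h | h
  · rw [hy] at hm
    exact absurd (Nat.eq_one_of_dvd_one (hm ▸ Nat.dvd_gcd (Nat.dvd_of_mod_eq_zero h) dvd_rfl))
      (by norm_num)
  · rw [h]
  · rw [h, irr_isConj χ hc]

theorem apply_ne_zero [Finite G] {p : ℕ} (hM : IsPModular p M) {χ : IrrCharacter G}
    (h : χ ∈ principalBlock M G) {g : G} (hg : ¬ p ∣ (centralizer ({g} : Set G)).index) :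
    (χ : G → ℂ) g ≠ 0 := fun e => by
  have := hM.2.1
  have h1 := H33.div_sub_one_mem_of_principal hM h hg
  rw [e, zero_div, zero_sub] at h1
  exact one_not_mem_locMax (by simpa using neg_mem h1)

/-- The principal block for a Sylow subgroup of order three with real elements. -/
structure Tri (M : Ideal AlgInt) {K : Type*} [Group K] [Fintype K] (A B : K → ℂ) : Prop where
  vA : IsGeneralizedCharacter K A
  vB : IsGeneralizedCharacter K B
  col : ∀ g h, colS (principalBlock M K) g h = 1 + A g * conj (A h) + B g * conj (B h)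
  sing : ∀ g, 3 ∣ orderOf g → A g = 1 ∧ B g = 1
  reg : ∀ g, ¬ 3 ∣ orderOf g → B g = -1 - A g
  ip₁ : ∀ u v : ℂ, classInner (fun g => u + v * A g) (fun g => 1 - B g) = u
  ip₂ : ∀ u v : ℂ, classInner (fun g => u + v * A g) (fun g => A g - B g) = v
  rs : H33.regSum 3 (fun g => 1 + 2 * A g) = 0
  one : ∃ a : ℤ, A 1 = a ∧ 3 ∣ a - 1

theorem exists_tri {K : Type*} [Group K] [Fintype K] [Fact (Nat.Prime 3)] (hM : IsPModular 3 M)
    (Q : Sylow 3 K) {y : K} (hy : orderOf y = 3) (hQ : (Q : Subgroup K) = zpowers y)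
    (hc : IsConj y y⁻¹) : ∃ A B : K → ℂ, Tri M A B := by
  classical
  have := hM.2.1
  have hyQ : y ∈ (Q : Subgroup K) := hQ ▸ mem_zpowers y
  have hy1 : y ≠ 1 := fun e => by rw [e, orderOf_one] at hy; omega
  have hmem : ∀ w ∈ (Q : Subgroup K), w = 1 ∨ w = y ∨ w = y⁻¹ := fun w hw =>
    mem_zpowers_three hy (hQ ▸ hw)
  have hF : AbF Q := by
    refine ⟨fun a b => Subtype.ext ?_, fun w hw hw1 => le_antisymm (fun c hc v hv => ?_)
      (le_inf (centralizer_le (Set.singleton_subset_iff.mpr hw)) (centralizer_le_normalizer _))⟩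
    · rcases hmem a a.2 with h | h | h <;> rcases hmem b b.2 with h' | h' | h' <;> simp [h, h']
    · have h1 : Commute c w := mem_centralizer_singleton_iff.1 hc.1
      have h2 : Commute c y := by
        rcases hmem w hw with h | h | h
        exacts [absurd h hw1, h ▸ h1, by simpa [h] using h1.inv_right]
      rcases hmem v hv with h | h | h <;> rw [h]
      exacts [by simp, h2.symm.eq, h2.inv_right.symm.eq]
  choose n hn using fun χ : IrrCharacter K => exists_int_three χ hy hc
  have h1 := colS_self hM (y := y) ⟨1, hy⟩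
  rw [hF.lamC_eq hM hyQ hy1, hQ, Nat.card_zpowers, hy, colS,
    ← Finset.add_sum_erase _ _ (mem_fs.2 H33.oneIrr_mem_principalBlock), H33.oneIrr_apply] at h1
  simp only [hn, map_intCast, map_one] at h1
  set T := (fs (principalBlock M K)).erase (H33.oneIrr K) with hT
  have h2 : ∑ χ ∈ T, n χ * n χ = 2 := by
    have : (1 : ℤ) * 1 + ∑ χ ∈ T, n χ * n χ = (3 : ℕ) := by exact_mod_cast h1
    omega
  have h3 : ∀ χ ∈ T, 1 ≤ n χ * n χ := fun χ hχ => by
    have h4 : n χ ≠ 0 := fun e => apply_ne_zero hM (mem_fs.1 (Finset.mem_of_mem_erase hχ))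
      (H33.not_dvd_index_centralizer Q fun w hw => congrArg Subtype.val (hF.comm ⟨w, hw⟩ ⟨y, hyQ⟩))
      (by rw [hn, e, Int.cast_zero])
    exact Int.add_one_le_of_lt (mul_self_pos.2 h4)
  have h4 : T.card = 2 := by
    have h5 : (T.card : ℤ) ≤ 2 := by
      rw [Finset.card_eq_sum_ones, Nat.cast_sum, ← h2]
      exact Finset.sum_le_sum fun χ hχ => by simpa using h3 χ hχ
    have h6 : T.card ≠ 0 := fun e => by rw [Finset.card_eq_zero.1 e] at h2; simp at h2
    have h7 : T.card ≠ 1 := fun e => by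
      obtain ⟨χ, e⟩ := Finset.card_eq_one.1 e
      rw [e, Finset.sum_singleton] at h2
      have : n χ ≤ 1 := by nlinarith
      have : -1 ≤ n χ := by nlinarith
      interval_cases n χ <;> simp at h2
    omega
  obtain ⟨α, β, hne, e⟩ := Finset.card_eq_two.1 h4
  have hα : α ∈ T := by simp [e]
  have hβ : β ∈ T := by simp [e]
  rw [e, Finset.sum_pair hne] at h2
  have a1 : n α * n α = 1 := by have := h3 α hα; have := h3 β hβ; omega
  have b1 : n β * n β = 1 := by have := h3 α hα; have := h3 β hβ; omega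
  have a2 : (n α : ℂ) * n α = 1 := by exact_mod_cast a1
  have b2 : (n β : ℂ) * n β = 1 := by exact_mod_cast b1
  have hsplit : ∀ F : IrrCharacter K → ℂ, ∑ χ ∈ fs (principalBlock M K), F χ =
      F (H33.oneIrr K) + (F α + F β) := fun F => by
    rw [← Finset.add_sum_erase _ _ (mem_fs.2 H33.oneIrr_mem_principalBlock), ← hT, e,
      Finset.sum_pair hne]
  have hsing : ∀ χ ∈ T, ∀ g, 3 ∣ orderOf g → (χ : K → ℂ) g = n χ := fun χ hχ g hg => by
    obtain ⟨w, hw, h⟩ := hF.exists_val hM hg
    rw [h χ (mem_fs.1 (Finset.mem_of_mem_erase hχ))]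
    rcases hmem w w.2 with h | h | h
    exacts [absurd (Subtype.ext h) hw, by rw [h, hn], by rw [h, ← irr_isConj χ hc, hn]]
  have hreg : ∀ g, ¬ 3 ∣ orderOf g →
      n β * (β : K → ℂ) g = -1 - n α * (α : K → ℂ) g := fun g hg => by
    have h5 := colS_eq_zero hM (H34.isPBlock_principalBlock (G := K))
      (H33.isPPart_one_of_regular hg) (H33.isPPart_self Nat.prime_three ⟨1, hy⟩)
      (by simpa using hy1.symm)
    rw [colS, hsplit, H33.oneIrr_apply, H33.oneIrr_apply] at h5
    simp only [hn, map_intCast, map_one] at h5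
    linear_combination h5
  have n1 : (α : K → ℂ) ≠ fun _ => 1 := fun h => Finset.ne_of_mem_erase hα (Subtype.ext h)
  have n2 : (β : K → ℂ) ≠ fun _ => 1 := fun h => Finset.ne_of_mem_erase hβ (Subtype.ext h)
  have n3 : (α : K → ℂ) ≠ β := fun h => hne (Subtype.ext h)
  have i1 := H5.isIrrCharacter_one (G := K)
  have hip : ∀ u v r s t : ℂ, classInner (fun g => u + v * (n α * (α : K → ℂ) g))
      (fun g => r + s * (n α * (α : K → ℂ) g) + t * (n β * (β : K → ℂ) g)) =
      u * conj r + v * conj s := fun u v r s t => by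
    have e1 : (fun g => u + v * (n α * (α : K → ℂ) g)) =
      u • (fun _ => 1) + (v * n α) • (α : K → ℂ) := by funext g; simp; ring
    have e2 : (fun g => r + s * (n α * (α : K → ℂ) g) + t * (n β * (β : K → ℂ) g)) =
      r • (fun _ => 1) + (s * n α) • (α : K → ℂ) + (t * n β) • (β : K → ℂ) := by
      funext g; simp; ring
    rw [e1, e2]
    simp only [H5.classInner_add_left, H5.classInner_add_right, H5.classInner_smul_left,
      H5.classInner_smul_right, H5.classInner_irr_self i1, H5.classInner_irr_self α.2,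
      H5.classInner_irr_ne i1 α.2 n1.symm, H5.classInner_irr_ne i1 β.2 n2.symm,
      H5.classInner_irr_ne α.2 i1 n1, H5.classInner_irr_ne α.2 β.2 n3, map_mul, map_intCast]
    linear_combination v * conj s * a2
  have hv : ∀ χ : IrrCharacter K,
      IsGeneralizedCharacter K fun g => (n χ : ℂ) * (χ : K → ℂ) g := fun χ => by
    convert H53.virt_zsmul (n χ) (H53.virt_of_irr χ.2) using 1
    funext g; simp
  refine ⟨fun g => n α * (α : K → ℂ) g, fun g => n β * (β : K → ℂ) g, hv α, hv β, fun g h => ?_,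
    fun g hg => ⟨by rw [hsing α hα g hg, a2], by rw [hsing β hβ g hg, b2]⟩, hreg, fun u v => ?_,
    fun u v => ?_, ?_, n α * charDegree (α : K → ℂ), ?_, ?_⟩
  · rw [colS, hsplit]
    simp only [H33.oneIrr_apply, map_mul, map_intCast, map_one]
    linear_combination (-(α : K → ℂ) g * conj ((α : K → ℂ) h)) * a2 -
      (β : K → ℂ) g * conj ((β : K → ℂ) h) * b2
  · simpa [sub_eq_add_neg] using hip u v 1 0 (-1)
  · simpa [sub_eq_add_neg] using hip u v 0 1 (-1)
  · have h5 := H5.sum_irr_eq_zero α.2 n1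
    have h6 := H5.sum_irr_eq_zero β.2 n2
    have h7 : ∑ g, (n α * (α : K → ℂ) g - n β * (β : K → ℂ) g) = 0 := by
      rw [Finset.sum_sub_distrib, ← Finset.mul_sum, ← Finset.mul_sum, h5, h6]; simp
    rw [H33.regSum_def, ← h7]
    refine Finset.sum_congr rfl fun g _ => ?_
    by_cases hg : 3 ∣ orderOf g
    · rw [H33.rInd_of_singular hg, hsing α hα g hg, hsing β hβ g hg, a2, b2]; simp
    · rw [H33.rInd_of_regular hg, hreg g hg]; ring
  · push_cast
    rw [H33.irr_charDegree_cast]
  · have := int_cong_one Nat.prime_three α ⟨1, hy⟩ (hn α)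
    rcases Int.eq_one_or_neg_one_of_mul_eq_one a1 with h | h <;> rw [h] at this ⊢ <;> omega

end Cfsg.Agent.H87.Ni
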