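import Cfsg.Agent.H87.NiC
import Cfsg.Agent.H30.ABGQuot

/-!
The generalized decomposition numbers on the section of a real element of order three whose
centralizer has Sylow `3`-subgroups of order nine.
-/

set_option autoImplicit false
set_option linter.unusedSectionVars false

open scoped ComplexConjugate

namespace Cfsg.Agent.H87.Ni

open Cfsg Cfsg.Agent.H32 Cfsg.Agent.H86 Cfsg.Agent.H34 Subgroup

variable {G : Type*} [Group G] {M : Ideal AlgInt}

theorem eq_zero_of_gram {ι : Type*} (S : Finset ι) (u v w : ι → ℂ) (a b c : ℂ)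
    (h : a * conj a * ∑ i ∈ S, u i * conj (u i) + a * conj b * ∑ i ∈ S, u i * conj (v i) +
      a * conj c * ∑ i ∈ S, u i * conj (w i) + b * conj a * ∑ i ∈ S, v i * conj (u i) +
      b * conj b * ∑ i ∈ S, v i * conj (v i) + b * conj c * ∑ i ∈ S, v i * conj (w i) +
      c * conj a * ∑ i ∈ S, w i * conj (u i) + c * conj b * ∑ i ∈ S, w i * conj (v i) +
      c * conj c * ∑ i ∈ S, w i * conj (w i) = 0) {i : ι} (hi : i ∈ S) :
    a * u i + b * v i + c * w i = 0 := by
  have h1 : ∑ i ∈ S, Complex.normSq (a * u i + b * v i + c * w i) = 0 := by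
    apply Complex.ofReal_injective
    rw [Complex.ofReal_sum, Complex.ofReal_zero, ← h]
    simp only [Finset.mul_sum, ← Finset.sum_add_distrib, ← Complex.mul_conj, map_add, map_mul]
    exact Finset.sum_congr rfl fun i _ => by ring
  exact Complex.normSq_eq_zero.1
    ((Finset.sum_eq_zero_iff_of_nonneg fun i _ => Complex.normSq_nonneg _).1 h1 i hi)

/-- Integral generalized decomposition numbers on the section of `x`. -/
structure Sec (M : Ideal AlgInt) [Finite G] (x : G) (A : Cg x → ℂ)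
    (d e : IrrCharacter G → ℤ) : Prop where
  val : ∀ χ ∈ principalBlock M G, ∀ g : Cg x, ¬ 3 ∣ orderOf g →
    (χ : G → ℂ) (x * g) = d χ + e χ * A g
  dd : ∑ χ ∈ fs (principalBlock M G), d χ * d χ = 6
  de : ∑ χ ∈ fs (principalBlock M G), d χ * e χ = 3
  ee : ∑ χ ∈ fs (principalBlock M G), e χ * e χ = 6
  one : ∃ a : ℤ, A 1 = a ∧ 3 ∣ a - 1
  ind : ∀ u v : ℂ, (∀ g : Cg x, ¬ 3 ∣ orderOf g → u + v * A g = 0) → u = 0 ∧ v = 0

theorem exists_sec [Finite G] [Fact (Nat.Prime 3)] (hM : IsPModular 3 M) {x s : G}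
    (hx : orderOf x = 3) (hs : s * x * s⁻¹ = x⁻¹) {K : Type*} [Group K] [Fintype K]
    {π : Cg x →* K} (hπ : Function.Surjective π)
    (hk : π.ker = zpowers ⟨x, mem_centralizer_singleton_iff.2 rfl⟩) {A B : K → ℂ} (T : Tri M A B)
    (lam : Cg x →* ℂˣ) (l1 : lam ⟨x, mem_centralizer_singleton_iff.2 rfl⟩ ≠ 1)
    (l2 : ∀ g, ¬ 3 ∣ orderOf g → lam g = 1) : ∃ d e, Sec M x (fun g => A (π g)) d e := by
  classical
  have := hM.2.1
  have := Fintype.ofFinite (Cg x)
  set x' : Cg x := ⟨x, mem_centralizer_singleton_iff.2 rfl⟩ with hx'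
  have ox : orderOf x' = 3 := by rw [← orderOf_coe]; exact hx
  have hcm : ∀ g : Cg x, Commute x g := fun g => (mem_centralizer_singleton_iff.1 g.2).symm
  have hkp : IsPGroup 3 π.ker := IsPGroup.of_card (n := 1) (by rw [hk, Nat.card_zpowers, ox]; rfl)
  have hkc : π.ker ≤ center (Cg x) := by
    rw [hk, zpowers_le, mem_center_iff]
    exact fun g => Subtype.ext (hcm g).symm.eq
  have hG : ∀ g h : Cg x, ¬ 3 ∣ orderOf g → ¬ 3 ∣ orderOf h →
      ∑ χ ∈ fs (principalBlock M G), (χ : G → ℂ) (x * g) * conj ((χ : G → ℂ) (x * h)) =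
      3 * (2 + A (π g) + conj (A (π h)) + 2 * A (π g) * conj (A (π h))) := fun g h hg hh => by
    have := H30.colS_section hM ⟨1, hx⟩ hg hh
    rw [H30.colS_quot_central hM hπ hkp hkc hg hh, hk, Nat.card_zpowers, ox, T.col,
      T.reg _ (H30.regular_map π hg), T.reg _ (H30.regular_map π hh)] at this
    rw [← colS, this]
    simp only [map_sub, map_neg, map_one]
    push_cast
    ring
  obtain ⟨a, ha, ha3⟩ := T.one
  have ha' : (1 : ℂ) + 2 * a ≠ 0 := by
    have : (1 : ℤ) + 2 * a ≠ 0 := by omega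
    exact_mod_cast this
  have hN : H33.regSum 3 (fun _ : Cg x => (1 : ℂ)) ≠ 0 := by
    rw [H33.regSum_one]
    have : Nonempty {y : Cg x // ¬ 3 ∣ orderOf y} := ⟨⟨1, reg_one⟩⟩
    exact_mod_cast Nat.card_pos.ne'
  have hlin : ∀ u v : ℂ, H33.regSum 3 (fun g : Cg x => u + v * A (π g)) =
      (u - v / 2) * H33.regSum 3 (fun _ : Cg x => (1 : ℂ)) := fun u v => by
    have h1 := H30.regSum_infl_central Nat.prime_three hπ hkp hkc fun g => 1 + 2 * A g
    rw [T.rs] at h1
    have h2 : (fun g : Cg x => u + v * A (π g)) =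
        (u - v / 2) • (fun _ => 1) + (v / 2) • fun g => 1 + 2 * A (π g) := by
      funext g; simp; ring
    rw [h2, H33.regSum_add, H33.regSum_smul, H33.regSum_smul, h1, mul_zero, add_zero]
  have r1 : ¬ 3 ∣ orderOf (1 : Cg x) := reg_one
  have A1 : A (π 1) = a := by rw [map_one, ha]
  obtain ⟨g₀, hg₀, hA⟩ : ∃ g₀ : Cg x, ¬ 3 ∣ orderOf g₀ ∧ A (π g₀) - a ≠ 0 := by
    by_contra hn
    push Not at hn
    have h1 := hlin (-a) 1
    rw [H33.regSum_congr (f' := (0 : ℂ) • fun _ => 1) fun g hg => by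
      simpa [neg_add_eq_sub] using hn g hg, H33.regSum_smul, zero_mul] at h1
    exact ha' (by linear_combination -2 * (mul_eq_zero.1 h1.symm).resolve_right hN)
  have hind : ∀ u v : ℂ, (∀ g : Cg x, ¬ 3 ∣ orderOf g → u + v * A (π g) = 0) → u = 0 ∧ v = 0 :=
    fun u v h => by
      have h1 := h 1 r1
      have h2 : v = 0 := (mul_eq_zero.1 (by rw [A1] at h1; linear_combination h g₀ hg₀ - h1 :
        v * (A (π g₀) - a) = 0)).resolve_right hA
      exact ⟨by simpa [h2] using h1, h2⟩
  -- the complex columns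
  have hD : ∀ χ ∈ principalBlock M G, ∃ u v : ℂ, ∀ g : Cg x, ¬ 3 ∣ orderOf g →
      (χ : G → ℂ) (x * g) = u + v * A (π g) := fun χ hχ => by
    refine ⟨(χ : G → ℂ) (x * (1 : Cg x)) - a * (((χ : G → ℂ) (x * g₀) -
      (χ : G → ℂ) (x * (1 : Cg x))) / (A (π g₀) - a)),
      ((χ : G → ℂ) (x * g₀) - (χ : G → ℂ) (x * (1 : Cg x))) / (A (π g₀) - a), fun g hg => ?_⟩
    have := eq_zero_of_gram (fs (principalBlock M G)) (fun χ => (χ : G → ℂ) (x * g))
      (fun χ => (χ : G → ℂ) (x * g₀)) (fun χ => (χ : G → ℂ) (x * (1 : Cg x))) (A (π g₀) - a)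
      (a - A (π g)) (A (π g) - A (π g₀)) (by
        rw [hG g g hg hg, hG g g₀ hg hg₀, hG g 1 hg r1, hG g₀ g hg₀ hg, hG g₀ g₀ hg₀ hg₀,
          hG g₀ 1 hg₀ r1, hG 1 g r1 hg, hG 1 g₀ r1 hg₀, hG 1 1 r1 r1, A1]
        simp only [map_sub, map_intCast]
        ring) (mem_fs.2 hχ)
    field_simp
    linear_combination this
  -- conjugation by `s`
  have hs' : s⁻¹ * x * s = x⁻¹ := by
    calc s⁻¹ * x * s = (s⁻¹ * x⁻¹ * s)⁻¹ := by group
      _ = (s⁻¹ * (s * x * s⁻¹) * s)⁻¹ := by rw [hs]
      _ = _ := by group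
  let σ : Cg x ≃* Cg x := (Cg x).normalizerMonoidHom ⟨s, by
    rw [mem_normalizer_iff]
    intro g
    simp only [mem_centralizer_singleton_iff]
    constructor
    · intro h
      have h1 : Commute g x⁻¹ := Commute.inv_right h
      calc s * g * s⁻¹ * x = s * (g * (s⁻¹ * x * s)) * s⁻¹ := by group
        _ = s * (s⁻¹ * x * s * g) * s⁻¹ := by rw [hs', h1.eq]
        _ = _ := by group
    · intro h
      have h1 : Commute (s * g * s⁻¹) x⁻¹ := Commute.inv_right h
      calc g * x = s⁻¹ * (s * g * s⁻¹ * (s * x * s⁻¹)) * s := by group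
        _ = s⁻¹ * (s * x * s⁻¹ * (s * g * s⁻¹)) * s := by rw [hs, h1.eq]
        _ = _ := by group⟩
  have hZ : ∀ χ : IrrCharacter G, ∃ d e : ℤ, χ ∈ principalBlock M G → ∀ g : Cg x,
      ¬ 3 ∣ orderOf g → (χ : G → ℂ) (x * g) = d + e * A (π g) := fun χ => by
    by_cases hχ : χ ∈ principalBlock M G
    swap
    · exact ⟨0, 0, fun h => absurd h hχ⟩
    obtain ⟨u, v, h⟩ := hD χ hχ
    have hi : ∀ g : Cg x, ¬ 3 ∣ orderOf g →
        (χ : G → ℂ) (x⁻¹ * g) = conj u + conj v * A (π g) := fun g hg => by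
      have h1 := h g⁻¹ (by rwa [orderOf_inv])
      rw [map_inv, H53.virt_apply_inv T.vA] at h1
      rw [← inv_inv (x⁻¹ * g), irr_inv, mul_inv_rev, inv_inv, ← (hcm g).inv_right.eq, ← coe_inv, h1]
      simp
    have h2 : H33.regSum 3 (fun g : Cg x => u + v * A (π g)) =
        H33.regSum 3 (fun g : Cg x => conj u + conj v * A (π g)) := by
      rw [← H33.regSum_comp_equiv σ fun g => conj u + conj v * A (π g)]
      refine H33.regSum_congr fun g hg => ?_
      rw [← h g hg, ← hi (σ g) (by rwa [MulEquiv.orderOf_eq]), ← hs,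
        ← H5.isClassFunction_of_isIrr χ.2 _ s]
      refine congrArg _ ?_
      change _ = s * x * s⁻¹ * (s * g * s⁻¹)
      group
    rw [hlin, hlin, mul_left_inj' hN] at h2
    have h3 : u + v * a = conj u + conj v * a := by
      rw [← A1, ← h 1 r1, ← hi 1 r1, ← hs, coe_one, mul_one, mul_one,
        H5.isClassFunction_of_isIrr χ.2]
    have hv : conj v = v := sub_eq_zero.1 ((mul_eq_zero.1
      (by linear_combination 2 * h2 - 2 * h3 : (conj v - v) * (1 + 2 * a) = 0)).resolve_right ha')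
    have hu : conj u = u := by rw [hv] at h3; linear_combination -h3
    rw [hu, hv] at hi
    have key : ∀ Φ : K → ℂ, IsGeneralizedCharacter K Φ → (∀ k, 3 ∣ orderOf k → Φ k = 0) →
        ∃ n : ℤ, classInner (fun k => u + v * A k) Φ = n := fun Φ hΦ h0 => by
      obtain ⟨n, hn⟩ := H53.virt_ci_int (H53.virt_res (H53.virt_of_irr χ.2) (Cg x))
        (H53.virt_mul (H53.virt_sub H53.virt_one (H53.virt_of_char (H5.isCharacter_monoidHom lam)))
          (H53.virt_comp hΦ π))
      refine ⟨n, ?_⟩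
      rw [← hn, ← H5.classInner_comp_surjective π hπ, classInner, classInner]
      congr 1
      set f : Cg x → ℂ := fun c => (χ : G → ℂ) c * conj ((1 - (lam c : ℂ)) * Φ (π c)) with hf
      have x3 : x' * (x' * x') = 1 := by rw [← pow_three, ← ox, pow_orderOf_eq_one]
      have hπx : π x' = 1 := by rw [← MonoidHom.mem_ker, hk]; exact mem_zpowers _
      have hω : (lam x' : ℂ) ^ 2 + lam x' + 1 = 0 := by
        have h4 : (lam x' : ℂ) * (lam x' * lam x') = 1 := by
          rw [← Units.val_mul, ← Units.val_mul, ← map_mul, ← map_mul, x3, map_one, Units.val_one]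
        exact (mul_eq_zero.1 (by linear_combination h4 :
          ((lam x' : ℂ) - 1) * ((lam x' : ℂ) ^ 2 + lam x' + 1) = 0)).resolve_left fun e =>
            l1 (Units.ext (sub_eq_zero.1 e))
      have hω' := congrArg conj hω
      simp only [map_add, map_pow, map_one, map_zero] at hω'
      have xi : x' * x' = x'⁻¹ := eq_inv_of_mul_eq_one_right x3
      have hF : ∀ c, f c + f (x' * c) + f (x' * (x' * c)) =
          3 * ((u + v * A (π c)) * conj (Φ (π c))) := fun c => by
        by_cases hc : 3 ∣ orderOf (π c)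
        · simp [hf, hπx, h0 _ hc]
        obtain ⟨g, hg, e⟩ := H30.exists_regular_lift Nat.prime_three hπ hc
        have h5 : f g + f (x' * g) + f (x' * (x' * g)) =
            3 * ((u + v * A (π g)) * conj (Φ (π g))) := by
          have h6 : ((x' * (x' * g) : Cg x) : G) = x⁻¹ * g := by rw [← mul_assoc, xi]; rfl
          simp only [hf, map_mul, hπx, one_mul, l2 g hg, mul_one, Units.val_one, sub_self,
            Units.val_mul, map_sub, map_one]
          rw [h6, hi g hg, show ((x' * g : Cg x) : G) = x * g from rfl, h g hg]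
          linear_combination -(u + v * A (π g)) * conj (Φ (π g)) * hω'
        have h7 : c * g⁻¹ ∈ zpowers x' := by rw [← hk, MonoidHom.mem_ker]; simp [e]
        rw [← e, ← h5]
        rcases mem_zpowers_three ox h7 with h8 | h8 | h8 <;> rw [mul_inv_eq_iff_eq_mul] at h8 <;>
          rw [h8]
        · rw [one_mul]
        · rw [show x' * (x' * (x' * g)) = g by
            rw [← mul_assoc x' x' g, ← mul_assoc x' (x' * x') g, x3, one_mul]]
          ring
        · rw [mul_inv_cancel_left, ← xi, mul_assoc]; ring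
      have h9 := Finset.sum_congr rfl fun c (_ : c ∈ Finset.univ) => hF c
      rw [Finset.sum_add_distrib, Finset.sum_add_distrib, ← Finset.mul_sum] at h9
      have h10 := Equiv.sum_comp (Equiv.mulLeft x') f
      have h11 := Equiv.sum_comp (Equiv.mulLeft x') fun c => f (x' * c)
      simp only [Equiv.coe_mulLeft] at h10 h11
      change _ = ∑ c, f c
      linear_combination (2 * h10 + h11 - h9) / 3
    obtain ⟨d, hd⟩ := key _ (H53.virt_sub H53.virt_one T.vB) fun k hk => by simp [(T.sing k hk).2]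
    obtain ⟨e, he⟩ := key _ (H53.virt_sub T.vA T.vB) fun k hk => by simp [T.sing k hk]
    exact ⟨d, e, fun _ g hg => by rw [← hd, ← he, h g hg]; congr 2; exacts [(T.ip₁ u v).symm,
      (T.ip₂ u v).symm]⟩
  choose d e hde using hZ
  have hgr : ∀ h : Cg x, ¬ 3 ∣ orderOf h → _ := fun h hh => hind
    ((∑ χ ∈ fs (principalBlock M G), d χ * d χ : ℤ) - 6 +
      ((∑ χ ∈ fs (principalBlock M G), d χ * e χ : ℤ) - 3) * conj (A (π h)))
    ((∑ χ ∈ fs (principalBlock M G), d χ * e χ : ℤ) - 3 +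
      ((∑ χ ∈ fs (principalBlock M G), e χ * e χ : ℤ) - 6) * conj (A (π h))) fun g hg => by
      have h1 := hG g h hg hh
      rw [Finset.sum_congr rfl fun χ hχ => by
        rw [hde χ (mem_fs.1 hχ) g hg, hde χ (mem_fs.1 hχ) h hh]] at h1
      simp only [map_add, map_mul, map_intCast] at h1
      push_cast
      rw [← sub_eq_zero.2 h1]
      simp only [add_mul, mul_add, Finset.sum_add_distrib, sub_mul, Finset.sum_mul]
      rw [Finset.sum_congr rfl fun χ _ => (by ring : (d χ : ℂ) * (e χ * conj (A (π h))) =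
        d χ * e χ * conj (A (π h))), Finset.sum_congr rfl fun χ _ => (by ring :
        (e χ : ℂ) * A (π g) * d χ = d χ * e χ * A (π g)), Finset.sum_congr rfl fun χ _ => (by ring :
        (e χ : ℂ) * A (π g) * (e χ * conj (A (π h))) = e χ * e χ * conj (A (π h)) * A (π g))]
      ring
  have hA' : conj (A (π g₀)) - a ≠ 0 := by simpa using (map_ne_zero conj).2 hA
  have k1 := hgr 1 r1
  have k2 := hgr g₀ hg₀
  rw [A1, map_intCast] at k1
  have k3 := sub_eq_zero.1 ((mul_eq_zero.1 (by linear_combination k2.2 - k1.2 :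
    (((∑ χ ∈ fs (principalBlock M G), e χ * e χ : ℤ) : ℂ) - 6) * (conj (A (π g₀)) - a) = 0)).resolve_right hA')
  have k4 := k1.2
  rw [k3, sub_self, zero_mul, add_zero, sub_eq_zero] at k4
  have k5 := k1.1
  rw [k4, sub_self, zero_mul, add_zero, sub_eq_zero] at k5
  exact ⟨d, e, hde, by exact_mod_cast k5, by exact_mod_cast k4, by exact_mod_cast k3,
    ⟨a, A1, ha3⟩, hind⟩

end Cfsg.Agent.H87.Ni
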