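import Cfsg.Agent.H87.NiA

/-!
Integer columns with the Gram matrix of a block of type `S₃ × S₃`: the three by three grid.
-/

set_option autoImplicit false
set_option linter.unusedSectionVars false

namespace Cfsg.Agent.H87.Ni

open Finset

theorem row_type {ι : Type*} (S : Finset ι) (d e : ι → ℤ) (dd : ∑ i ∈ S, d i * d i = 6)
    (de : ∑ i ∈ S, d i * e i = 3) (ee : ∑ i ∈ S, e i * e i = 6)
    (h3 : ∀ i ∈ S, ¬ 3 ∣ d i + e i) :
    (∀ i ∈ S, d i * d i - d i * e i + e i * e i = 1) ∧ S.card = 9 := by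
  have s1 : ∑ i ∈ S, (d i - e i) * (d i - e i) = 6 := by
    rw [sum_congr rfl fun i _ => (by ring : (d i - e i) * (d i - e i) =
      d i * d i + e i * e i - 2 * (d i * e i)), sum_sub_distrib, sum_add_distrib, ← mul_sum, dd, de,
      ee]
    norm_num
  have s2 : ∑ i ∈ S, (d i * d i - d i * e i) = 3 := by rw [sum_sub_distrib, dd, de]; norm_num
  have s3 : ∑ i ∈ S, (e i * e i - d i * e i) = 3 := by rw [sum_sub_distrib, ee, de]; norm_num
  have b : ∀ i ∈ S, (-2 ≤ d i ∧ d i ≤ 2) ∧ (-2 ≤ e i ∧ e i ≤ 2) ∧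
      -2 ≤ d i - e i ∧ d i - e i ≤ 2 := fun i hi => by
    have h1 := single_le_sum (f := fun i => d i * d i) (fun i _ => mul_self_nonneg _) hi
    have h2 := single_le_sum (f := fun i => e i * e i) (fun i _ => mul_self_nonneg _) hi
    have h4 := single_le_sum (f := fun i => (d i - e i) * (d i - e i))
      (fun i _ => mul_self_nonneg _) hi
    rw [dd] at h1
    rw [ee] at h2
    rw [s1] at h4
    refine ⟨⟨?_, ?_⟩, ⟨?_, ?_⟩, ?_, ?_⟩ <;> nlinarith
  have p : ∀ i ∈ S, 0 ≤ d i * e i ∧ 0 ≤ d i * d i - d i * e i ∧ 0 ≤ e i * e i - d i * e i :=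
    fun i hi => by
      obtain ⟨⟨h1, h2⟩, ⟨h4, h5⟩, h6, h7⟩ := b i hi
      have h8 := h3 i hi
      generalize d i = x at *
      generalize e i = y at *
      interval_cases x <;> interval_cases y <;> simp_all
  have q : ∀ i ∈ S, d i * d i - d i * e i + e i * e i = 1 := fun i hi => by
    have k1 := single_le_sum (f := fun i => d i * e i) (fun i hi => (p i hi).1) hi
    have k2 := single_le_sum (f := fun i => d i * d i - d i * e i) (fun i hi => (p i hi).2.1) hi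
    have k3 := single_le_sum (f := fun i => e i * e i - d i * e i) (fun i hi => (p i hi).2.2) hi
    rw [de] at k1
    rw [s2] at k2
    rw [s3] at k3
    obtain ⟨⟨h1, h2⟩, ⟨h4, h5⟩, h6, h7⟩ := b i hi
    have h8 := h3 i hi
    generalize d i = x at *
    generalize e i = y at *
    interval_cases x <;> interval_cases y <;> simp_all
  refine ⟨q, ?_⟩
  have := sum_congr rfl q
  rw [sum_add_distrib, s2, ee, sum_const] at this
  simp at this
  omega

/-- The type of a row. -/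
def ty (d e : ℤ) : Fin 3 := if e = 0 then 0 else if d = 0 then 1 else 2

theorem ty_ind {z d e : ℤ} (hz : z = 1 ∨ z = -1) (h : d * d - d * e + e * e = 1)
    (h3 : 3 ∣ d + e - z) (a : Fin 3) : 3 * ((if ty d e = a then 1 else 0) * z) =
      z + ![2, -1, -1] a * d + ![-1, 2, -1] a * e ∧ (ty d e = 0 ↔ d = z ∧ e = 0) := by
  have h1 : -1 ≤ d := by nlinarith [sq_nonneg (d - 2 * e)]
  have h2 : d ≤ 1 := by nlinarith [sq_nonneg (d - 2 * e)]
  have h4 : -1 ≤ e := by nlinarith [sq_nonneg (e - 2 * d)]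
  have h5 : e ≤ 1 := by nlinarith [sq_nonneg (e - 2 * d)]
  rcases hz with rfl | rfl <;> interval_cases d <;> interval_cases e <;>
    first | (exfalso; omega) | (fin_cases a <;> simp [ty])

theorem grid {ι : Type*} [DecidableEq ι] (S : Finset ι) (z d e f g w : ι → ℤ)
    (zz : ∑ i ∈ S, z i * z i = 9) (dd : ∑ i ∈ S, d i * d i = 6) (de : ∑ i ∈ S, d i * e i = 3)
    (ee : ∑ i ∈ S, e i * e i = 6) (ff : ∑ i ∈ S, f i * f i = 6) (fg : ∑ i ∈ S, f i * g i = 3)
    (gg : ∑ i ∈ S, g i * g i = 6)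
    (dz : ∑ i ∈ S, d i * z i = 0) (ez : ∑ i ∈ S, e i * z i = 0) (fz : ∑ i ∈ S, f i * z i = 0)
    (gz : ∑ i ∈ S, g i * z i = 0) (df : ∑ i ∈ S, d i * f i = 0) (ef : ∑ i ∈ S, e i * f i = 0)
    (dg : ∑ i ∈ S, d i * g i = 0) (eg : ∑ i ∈ S, e i * g i = 0) (zw : ∑ i ∈ S, z i * w i = 0)
    (dw : ∑ i ∈ S, d i * w i = 0) (ew : ∑ i ∈ S, e i * w i = 0) (fw : ∑ i ∈ S, f i * w i = 0)
    (gw : ∑ i ∈ S, g i * w i = 0) (h0 : ∀ i ∈ S, ¬ 3 ∣ z i) (h1 : ∀ i ∈ S, 3 ∣ d i + e i - z i)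
    (h2 : ∀ i ∈ S, 3 ∣ f i + g i - z i) :
    ∃ c : Fin 3 → Fin 3 → ι, (∀ a b, c a b ∈ S) ∧
      (∀ a b a' b', c a b = c a' b' → a = a' ∧ b = b') ∧ (∀ i ∈ S, z i = 1 ∨ z i = -1) ∧
      (∀ i ∈ S, d i = z i ∧ e i = 0 ↔ ∃ b, i = c 0 b) ∧
      (∀ i ∈ S, f i = z i ∧ g i = 0 ↔ ∃ a, i = c a 0) ∧
      (∀ a, ∑ b, z (c a b) * w (c a b) = 0) ∧ ∀ b, ∑ a, z (c a b) * w (c a b) = 0 := by
  obtain ⟨q1, hS⟩ := row_type S d e dd de ee fun i hi => by have := h0 i hi; have := h1 i hi; omega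
  obtain ⟨q2, -⟩ := row_type S f g ff fg gg fun i hi => by have := h0 i hi; have := h2 i hi; omega
  have z1 : ∀ i ∈ S, z i * z i = 1 := by
    have k : ∀ i ∈ S, 0 ≤ z i * z i - 1 := fun i hi =>
      sub_nonneg.2 (Int.add_one_le_of_lt (mul_self_pos.2 fun e => h0 i hi (by simp [e])))
    intro i hi
    exact sub_eq_zero.1 ((sum_eq_zero_iff_of_nonneg k).1 (by
      rw [sum_sub_distrib, zz, sum_const, hS]; norm_num) i hi)
  have hz : ∀ i ∈ S, z i = 1 ∨ z i = -1 := fun i hi => Int.eq_one_or_neg_one_of_mul_eq_one (z1 i hi)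
  have t1 := fun i hi => ty_ind (hz i hi) (q1 i hi) (h1 i hi)
  have t2 := fun i hi => ty_ind (hz i hi) (q2 i hi) (h2 i hi)
  have cnt : ∀ a b : Fin 3, (S.filter fun i => (ty (d i) (e i), ty (f i) (g i)) = (a, b)).card = 1 := by
    intro a b
    have k : ∀ i ∈ S, 9 * (if (ty (d i) (e i), ty (f i) (g i)) = (a, b) then (1 : ℤ) else 0) =
        z i * z i + ![2, -1, -1] b * (f i * z i) + ![-1, 2, -1] b * (g i * z i) +
        ![2, -1, -1] a * (d i * z i) + ![2, -1, -1] a * ![2, -1, -1] b * (d i * f i) +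
        ![2, -1, -1] a * ![-1, 2, -1] b * (d i * g i) + ![-1, 2, -1] a * (e i * z i) +
        ![-1, 2, -1] a * ![2, -1, -1] b * (e i * f i) +
        ![-1, 2, -1] a * ![-1, 2, -1] b * (e i * g i) := fun i hi => by
      have k1 := congrArg₂ (· * ·) (t1 i hi a).1 (t2 i hi b).1
      have k2 := z1 i hi
      simp only [Prod.mk.injEq, ite_and]
      split_ifs at k1 ⊢
      · linear_combination k1 - 9 * k2
      all_goals linear_combination k1
    have k3 := sum_congr rfl k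
    simp only [sum_add_distrib, ← mul_sum, zz, dz, ez, fz, gz, df, dg, ef, eg, sum_boole] at k3
    omega
  choose c hc using fun a b => card_eq_one.1 (cnt a b)
  have hm : ∀ a b i, i = c a b ↔ i ∈ S ∧ ty (d i) (e i) = a ∧ ty (f i) (g i) = b := fun a b i => by
    rw [← mem_singleton, ← hc, mem_filter, Prod.mk.injEq]
  have hm' := fun a b => (hm a b _).1 rfl
  have hsum : ∀ F : ι → ℤ, ∑ i ∈ S, F i = ∑ a, ∑ b, F (c a b) := fun F => by
    rw [← sum_fiberwise S (fun i => (ty (d i) (e i), ty (f i) (g i))) F, Fintype.sum_prod_type]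
    simp only [hc, sum_singleton]
  refine ⟨c, fun a b => (hm' a b).1, fun a b a' b' h => ?_, hz, fun i hi => ?_, fun i hi => ?_,
    fun a => ?_, fun b => ?_⟩
  · have := (hm a' b' _).1 h
    exact ⟨(hm' a b).2.1.symm.trans this.2.1, (hm' a b).2.2.symm.trans this.2.2⟩
  · rw [← (t1 i hi 0).2]
    exact ⟨fun h => ⟨_, (hm _ _ _).2 ⟨hi, h, rfl⟩⟩, fun ⟨b, h⟩ => ((hm _ _ _).1 h).2.1⟩
  · rw [← (t2 i hi 0).2]
    exact ⟨fun h => ⟨_, (hm _ _ _).2 ⟨hi, rfl, h⟩⟩, fun ⟨b, h⟩ => ((hm _ _ _).1 h).2.2⟩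
  · have k : ∀ i ∈ S, 3 * (if ty (d i) (e i) = a then z i * w i else 0) = z i * w i +
        ![2, -1, -1] a * (d i * w i) + ![-1, 2, -1] a * (e i * w i) := fun i hi => by
      have k1 := (t1 i hi a).1
      split_ifs at k1 ⊢ <;> linear_combination w i * k1
    have k3 := sum_congr rfl k
    simp only [sum_add_distrib, ← mul_sum, zw, dw, ew] at k3
    rw [hsum] at k3
    simp only [hm', sum_ite_irrel, sum_const_zero, sum_ite_eq', mem_univ, if_true] at k3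
    omega
  · have k : ∀ i ∈ S, 3 * (if ty (f i) (g i) = b then z i * w i else 0) = z i * w i +
        ![2, -1, -1] b * (f i * w i) + ![-1, 2, -1] b * (g i * w i) := fun i hi => by
      have k1 := (t2 i hi b).1
      split_ifs at k1 ⊢ <;> linear_combination w i * k1
    have k3 := sum_congr rfl k
    simp only [sum_add_distrib, ← mul_sum, zw, fw, gw] at k3
    rw [hsum] at k3
    simp only [hm', sum_ite_eq', mem_univ, if_true] at k3
    omega

theorem grid_false (r : ℤ) (hr : r % 2 = 1) (hr1 : r ≠ 1) (γ : Fin 3 → Fin 3 → ℤ) (h0 : γ 0 0 = 1)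
    (h1 : ∀ a, ∑ b, γ a b = 0) (h2 : ∀ b, ∑ a, γ a b = 0)
    (h : ∀ a b, ¬ (a = 0 ∧ b = 0) → (γ a b % 2 = 0 ∨ γ a b = r) ∧ γ a b ≠ 1 + 3 * r) : False := by
  have r0 := h1 0
  have r1 := h1 1
  have r2 := h1 2
  have c0 := h2 0
  have c1 := h2 1
  have c2 := h2 2
  simp only [Fin.sum_univ_three] at r0 r1 r2 c0 c1 c2
  obtain ⟨a01, -⟩ := h 0 1 (by decide)
  obtain ⟨a02, -⟩ := h 0 2 (by decide)
  obtain ⟨a10, -⟩ := h 1 0 (by decide)
  obtain ⟨a20, -⟩ := h 2 0 (by decide)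
  obtain ⟨a11, b11⟩ := h 1 1 (by decide)
  obtain ⟨a12, b12⟩ := h 1 2 (by decide)
  obtain ⟨a21, b21⟩ := h 2 1 (by decide)
  obtain ⟨a22, b22⟩ := h 2 2 (by decide)
  clear h h1 h2
  rcases a01 with a01 | a01 <;> rcases a02 with a02 | a02 <;> omega

theorem entry {q k : ℕ} (hq : q = 5 ∨ q = 7 ∨ q = 13 ∨ q = 17) {r x : ℤ} (hr : r.natAbs = q)
    (hr3 : 3 ∣ r - 1) (h3 : 3 ∣ x - 1) (h1 : x ≠ 1) (h : x.natAbs ∣ 2 ^ k * q ^ 1) :
    (x % 2 = 0 ∨ x = r) ∧ x ≠ 1 + 3 * r := by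
  have hp : q.Prime := by rcases hq with rfl | rfl | rfl | rfl <;> norm_num
  refine ⟨?_, fun e => ?_⟩
  · by_contra hn
    obtain ⟨j, hj, e⟩ := eq_pow_of_odd hp h (by omega)
    interval_cases j
    · rw [pow_zero] at e; omega
    · rw [pow_one] at e; omega
  · have key : ∀ s : ℕ, s.Prime → s ∣ x.natAbs → s = 2 ∨ s = q := fun s hs hd =>
      (hs.dvd_mul.1 (hd.trans h)).imp
        (fun h => (Nat.prime_dvd_prime_iff_eq hs Nat.prime_two).1 (hs.dvd_of_dvd_pow h))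
        fun h => (Nat.prime_dvd_prime_iff_eq hs hp).1 (hs.dvd_of_dvd_pow h)
    have k5 := key 5 (by norm_num)
    have k7 := key 7 (by norm_num)
    have k11 := key 11 (by norm_num)
    omega

end Cfsg.Agent.H87.Ni
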