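import Cfsg.Agent.H87.NiD
import Cfsg.Agent.H87.NiE

/-!
No simple group of order `9 * 2 ^ a * q ^ b` has the `3`-fusion pattern of `S₃ × S₃`.
-/

set_option autoImplicit false
set_option linter.unusedSectionVars false

open scoped ComplexConjugate

namespace Cfsg.Agent.H87.Ni

open Cfsg Cfsg.Agent.H32 Cfsg.Agent.H86 Cfsg.Agent.H34 Subgroup

variable {G : Type*} [Group G] [Finite G] {M : Ideal AlgInt}

theorem lamC_eq_card {p : ℕ} [hp : Fact p.Prime] (hM : IsPModular p M) (P : Sylow p G) {y : G}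
    (hRC : (P : Subgroup G) ≤ Cg y) (h : ∀ n ∈ normalizer ((P : Subgroup G) : Set G), n ∈ Cg y →
      n ∈ centralizer ((P : Subgroup G) : Set G)) : lamC M y = Nat.card (P : Subgroup G) := by
  have := hM.2.1
  have hN : normalizer (P.subtype hRC : Set (Cg y)) ≤ centralizer (P.subtype hRC : Set (Cg y)) := by
    intro n hn
    have hn' : (n : G) ∈ normalizer ((P : Subgroup G) : Set G) := by
      rw [mem_set_normalizer_iff]
      intro x
      constructor
      · intro hx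
        exact ((mem_normalizer_iff.mp hn ⟨x, hRC hx⟩).mp hx :)
      · intro hx
        have hxC : x ∈ Cg y := by
          have := mul_mem (mul_mem (inv_mem n.2) (hRC hx)) n.2
          simpa [mul_assoc] using this
        exact ((mem_normalizer_iff.mp hn ⟨x, hxC⟩).mpr hx :)
    intro x hx
    exact Subtype.ext (h n hn' n.2 x hx)
  have hc := MonoidHom.ker_transferSylow_isComplement' (P.subtype hRC) hN
  have hker := MonoidHom.not_dvd_card_ker_transferSylow (P.subtype hRC) hN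
  have heq : pPrimeCore p (Cg y) = (MonoidHom.transferSylow (P.subtype hRC) hN).ker := by
    refine le_antisymm (fun c hc => ?_)
      (H44.le_pPrimeCore inferInstance ((Nat.Prime.coprime_iff_not_dvd hp.out).mpr hker).symm)
    exact AbF.apply_eq_one_of_regular (P := P.subtype hRC) _ fun hd =>
      H33.not_dvd_card_pPrimeCore hp.out (hd.trans (orderOf_dvd_natCard _ hc))
  obtain ⟨k, hk⟩ := P.isPGroup'.exists_card_eq
  rw [hk]
  refine lamC_of_normal_complement hM ?_
  rw [heq, hc.symm.index_eq_card, ← hk]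
  exact Nat.card_congr (subgroupOfEquivOfLe hRC).toEquiv

theorem Sec.orth {x : G} {A : Cg x → ℂ} {d e : IrrCharacter G → ℤ} (S : Sec M x A d e)
    (F : IrrCharacter G → ℤ) (h : ∀ g : Cg x, ¬ 3 ∣ orderOf g →
      ∑ χ ∈ fs (principalBlock M G), (χ : G → ℂ) (x * g) * F χ = 0) :
    ∑ χ ∈ fs (principalBlock M G), d χ * F χ = 0 ∧
      ∑ χ ∈ fs (principalBlock M G), e χ * F χ = 0 := by
  have := S.ind (∑ χ ∈ fs (principalBlock M G), d χ * F χ : ℤ)
    (∑ χ ∈ fs (principalBlock M G), e χ * F χ : ℤ) fun g hg => by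
      rw [← h g hg]
      push_cast
      rw [Finset.sum_mul, ← Finset.sum_add_distrib]
      exact Finset.sum_congr rfl fun χ hχ => by rw [S.val χ (mem_fs.1 hχ) g hg]; ring
  exact ⟨by exact_mod_cast this.1, by exact_mod_cast this.2⟩

theorem Sec.eq_of_const {x : G} {A : Cg x → ℂ} {d e : IrrCharacter G → ℤ} (S : Sec M x A d e)
    {χ : IrrCharacter G} (hχ : χ ∈ principalBlock M G) {n : ℤ}
    (h : ∀ g : Cg x, ¬ 3 ∣ orderOf g → (χ : G → ℂ) (x * g) = n) : d χ = n ∧ e χ = 0 := by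
  have := S.ind (d χ - n) (e χ) fun g hg => by linear_combination h g hg - S.val χ hχ g hg
  exact ⟨by exact_mod_cast sub_eq_zero.1 this.1, by exact_mod_cast this.2⟩

variable [Fact (Nat.Prime 3)]

theorem Sec.cong {x : G} (hx : orderOf x = 3) {A : Cg x → ℂ} {d e : IrrCharacter G → ℤ}
    (S : Sec M x A d e) {χ : IrrCharacter G} (hχ : χ ∈ principalBlock M G) :
    (3 : ℤ) ∣ d χ + e χ - charDegree (χ : G → ℂ) := by
  obtain ⟨a, ha, k, hk⟩ := S.one
  have h1 := S.val χ hχ 1 reg_one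
  rw [coe_one, mul_one, ha] at h1
  have h2 := int_cong_one Nat.prime_three χ ⟨1, hx⟩ (m := d χ + e χ * a) (by rw [h1]; simp)
  rw [show a = 1 + 3 * k by omega] at h2
  obtain ⟨m, hm⟩ := h2
  exact ⟨m - e χ * k, by push_cast at hm; linear_combination hm⟩

/-- The fusion pattern of `S₃ × S₃`. -/
structure V4 (P : Sylow 3 G) (x y : G) : Prop where
  ox : orderOf x = 3
  oy : orderOf y = 3
  comm : Commute x y
  mx : x ∈ (P : Subgroup G)
  my : y ∈ (P : Subgroup G)
  gen : ∀ g ∈ (P : Subgroup G), ∃ u ∈ zpowers x, ∃ v ∈ zpowers y, g = u * v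
  nx : y ∉ zpowers x
  ny : x ∉ zpowers y
  s : ∃ s, s * x * s⁻¹ = x⁻¹ ∧ s * y * s⁻¹ = y
  t : ∃ t, t * x * t⁻¹ = x ∧ t * y * t⁻¹ = y⁻¹
  nrx : ∀ n ∈ normalizer ((P : Subgroup G) : Set G), n * x * n⁻¹ = x ∨ n * x * n⁻¹ = x⁻¹
  nry : ∀ n ∈ normalizer ((P : Subgroup G) : Set G), n * y * n⁻¹ = y ∨ n * y * n⁻¹ = y⁻¹

namespace V4

variable {P : Sylow 3 G} {x y : G} (h : V4 P x y)
include h

theorem symm : V4 P y x := by
  refine ⟨h.oy, h.ox, h.comm.symm, h.my, h.mx, fun g hg => ?_, h.ny, h.nx,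
    h.t.imp fun _ => And.symm, h.s.imp fun _ => And.symm, h.nry, h.nrx⟩
  obtain ⟨_, ⟨i, rfl⟩, _, ⟨j, rfl⟩, e⟩ := h.gen g hg
  exact ⟨_, ⟨j, rfl⟩, _, ⟨i, rfl⟩, e.trans (h.comm.zpow_zpow i j).eq⟩

theorem commute_of {c : G} (h1 : Commute c x) (h2 : Commute c y) {g : G}
    (hg : g ∈ (P : Subgroup G)) : Commute c g := by
  obtain ⟨_, ⟨i, rfl⟩, _, ⟨j, rfl⟩, rfl⟩ := h.gen g hg
  exact (h1.zpow_right i).mul_right (h2.zpow_right j)

theorem ab {a b : G} (ha : a ∈ (P : Subgroup G)) (hb : b ∈ (P : Subgroup G)) : Commute a b :=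
  h.commute_of (h.commute_of (Commute.refl x) h.comm ha).symm
    (h.commute_of h.comm.symm (Commute.refl y) ha).symm hb

theorem le_Cg {a : G} (ha : a ∈ (P : Subgroup G)) : (P : Subgroup G) ≤ Cg a := fun _ hb =>
  mem_centralizer_singleton_iff.2 (h.ab hb ha).eq

theorem mem_of_isConj {w : G} (hw : w ∈ (P : Subgroup G)) (hc : IsConj x w) : w ∈ zpowers x := by
  obtain ⟨c, rfl⟩ := isConj_iff.1 hc
  have : IsMulCommutative P := ⟨⟨fun a b => Subtype.ext (h.ab a.2 b.2).eq⟩⟩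
  obtain ⟨n, hn, e⟩ := P.conj_eq_normalizer_conj_of_mem x c⁻¹ h.mx (by rwa [inv_inv])
  rw [inv_inv] at e
  rcases h.nrx n⁻¹ (inv_mem hn) with h1 | h1 <;> rw [inv_inv] at h1 <;> rw [e, h1]
  exacts [mem_zpowers x, inv_mem (mem_zpowers x)]

theorem exists_sec (hM : IsPModular 3 M) : ∃ A d e, Sec M x A d e := by
  classical
  obtain ⟨s, hs, -⟩ := h.s
  obtain ⟨t, ht, ht'⟩ := h.t
  let x' : Cg x := ⟨x, mem_centralizer_singleton_iff.2 rfl⟩
  let y' : Cg x := ⟨y, h.le_Cg h.mx h.my⟩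
  let t' : Cg x := ⟨t, mem_centralizer_singleton_iff.2 (mul_inv_eq_iff_eq_mul.1 ht)⟩
  have hxc : ∀ g : Cg x, g * x' = x' * g := fun g =>
    Subtype.ext (mem_centralizer_singleton_iff.1 g.2)
  have : (zpowers x').Normal := ⟨fun n hn g => by
    rwa [mem_center_iff.1 (zpowers_le.2 (mem_center_iff.2 hxc) hn) g, mul_inv_cancel_right]⟩
  have := Fintype.ofFinite (Cg x ⧸ zpowers x')
  let R := P.subtype (h.le_Cg h.mx)
  have hπ := QuotientGroup.mk'_surjective (zpowers x')
  obtain ⟨A, B, T⟩ := exists_tri hM (R.mapSurjective hπ) (y := QuotientGroup.mk' _ y') (by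
      refine orderOf_eq_prime ?_ fun e => h.nx ?_
      · rw [← map_pow, show y' ^ 3 = 1 from Subtype.ext (h.oy ▸ pow_orderOf_eq_one y), map_one]
      · obtain ⟨i, hi⟩ := (QuotientGroup.eq_one_iff _).1 e
        exact ⟨i, congrArg Subtype.val hi⟩) (by
      rw [Sylow.coe_mapSurjective]
      refine le_antisymm ?_ (zpowers_le.2 ⟨y', h.my, rfl⟩)
      rintro _ ⟨g, hg, rfl⟩
      obtain ⟨_, ⟨i, rfl⟩, _, ⟨j, rfl⟩, e⟩ := h.gen g hg
      rw [show g = x' ^ i * y' ^ j from Subtype.ext e, map_mul, map_zpow _ y',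
        show QuotientGroup.mk' (zpowers x') (x' ^ i) = 1 from
          (QuotientGroup.eq_one_iff _).2 ⟨i, rfl⟩, one_mul]
      exact ⟨j, rfl⟩)
    (isConj_iff.2 ⟨QuotientGroup.mk' _ t', by
      rw [← map_inv, ← map_inv, ← map_mul, ← map_mul]; exact congrArg _ (Subtype.ext ht')⟩)
  have hR : ∀ a b : (R : Subgroup (Cg x)), a * b = b * a := fun a b =>
    Subtype.ext (Subtype.ext (h.ab a.2 b.2).eq)
  have : IsMulCommutative (R : Subgroup (Cg x)) := ⟨⟨hR⟩⟩
  let _ : CommGroup (R : Subgroup (Cg x)) := IsMulCommutative.instCommGroup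
  have h1 := MonoidHom.transfer_eq_pow (MonoidHom.id (R : Subgroup (Cg x))) x' fun k g _ => by
    rw [mul_assoc, ← (Commute.pow_right (hxc g) k).eq, inv_mul_cancel_left]
  obtain ⟨ψ, hψ⟩ := exists_lc_ne_one hR
    (y := MonoidHom.transfer (MonoidHom.id (R : Subgroup (Cg x))) x') fun e => by
      rw [e] at h1
      have h2 : x ^ (R : Subgroup (Cg x)).index = 1 :=
        congrArg Subtype.val (congrArg Subtype.val h1).symm
      have h3 := orderOf_dvd_of_pow_eq_one h2
      rw [h.ox] at h3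
      exact R.not_dvd_index h3
  exact ⟨_, Ni.exists_sec hM h.ox hs hπ (QuotientGroup.ker_mk' _) T
    (ψ.comp (MonoidHom.transfer (MonoidHom.id (R : Subgroup (Cg x))))) hψ fun g hg => by
      rw [MonoidHom.comp_apply, AbF.apply_eq_one_of_regular (P := R) _ hg, map_one]⟩

theorem not_mem_mul : x * y ∉ zpowers x := fun e =>
  h.nx (by simpa using mul_mem (inv_mem (mem_zpowers x)) e)

theorem oz : orderOf (x * y) = 3 := orderOf_eq_prime
  (by rw [h.comm.mul_pow, ← h.ox, pow_orderOf_eq_one, h.ox, ← h.oy, pow_orderOf_eq_one, mul_one])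
  fun e => h.not_mem_mul (e ▸ one_mem _)

theorem lamC_mul (hM : IsPModular 3 M) : lamC M (x * y) = Nat.card (P : Subgroup G) := by
  refine lamC_eq_card hM P (h.le_Cg (mul_mem h.mx h.my)) fun n hn hc g hg => ?_
  have h1 : n * x * n⁻¹ * (n * y * n⁻¹) = x * y := by
    rw [conj_mul, mem_centralizer_singleton_iff.1 hc, mul_inv_cancel_right]
  have key : ∀ w : G, orderOf w = 3 → w⁻¹ ≠ w := fun w hw e => by
    have := orderOf_dvd_of_pow_eq_one (show w ^ 2 = 1 by rw [sq]; nth_rw 1 [← e]; simp)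
    rw [hw] at this
    omega
  rcases h.nrx n hn with e | e <;> rcases h.nry n hn with e' | e' <;> rw [e, e'] at h1
  · exact (h.commute_of (mul_inv_eq_iff_eq_mul.1 e) (mul_inv_eq_iff_eq_mul.1 e') hg).symm.eq
  · exact absurd (mul_left_cancel h1) (key y h.oy)
  · exact absurd (mul_right_cancel h1) (key x h.ox)
  · exact absurd (by rw [h.comm.eq, mul_inv_rev, h1, h.comm.eq]) (key _ h.oz)

theorem isConj_mul_inv : IsConj (x * y) (x * y)⁻¹ := by
  obtain ⟨s, hs, hs'⟩ := h.s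
  obtain ⟨t, ht, ht'⟩ := h.t
  refine (isConj_iff.2 ⟨t, rfl⟩).trans (isConj_iff.2 ⟨s, ?_⟩)
  rw [← conj_mul (b := t), ht, ht', ← conj_mul, hs, ← conj_inv, hs', h.comm.eq, mul_inv_rev]

theorem false [IsSimpleGroup G] (hG : ¬ IsMulCommutative G) {q a b : ℕ}
    (hq : q = 5 ∨ q = 7 ∨ q = 13 ∨ q = 17) (hcard : Nat.card G = 9 * 2 ^ a * q ^ b)
    (h9 : Nat.card (P : Subgroup G) = 9) : False := by
  classical
  have hqp : q.Prime := by rcases hq with rfl | rfl | rfl | rfl <;> norm_num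
  obtain ⟨M, hM⟩ := exists_isPModular Nat.prime_three
  have := hM.2.1
  obtain ⟨A, d, e, S⟩ := h.exists_sec hM
  obtain ⟨A', f, g, S'⟩ := h.symm.exists_sec hM
  choose z hz using fun χ : IrrCharacter G => exists_int_three χ h.oz h.isConj_mul_inv
  have hB := H34.isPBlock_principalBlock (G := G) (M := M)
  have pz := H33.isPPart_self Nat.prime_three ⟨1, h.oz⟩
  have p1 : IsPPart 3 (1 : G) 1 := H33.isPPart_one_of_regular reg_one
  have px : ∀ {x : G}, orderOf x = 3 → ∀ g : Cg x, ¬ 3 ∣ orderOf g → IsPPart 3 (x * g) x :=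
    fun hx g hg => H33.isPPart_mul (mem_centralizer_singleton_iff.1 g.2).symm ⟨1, hx⟩
      (by rwa [orderOf_coe])
  have ne1 : ∀ {x : G}, orderOf x = 3 → ¬ IsConj x 1 := fun hx e => by
    rw [isConj_one_left] at e; rw [e, orderOf_one] at hx; omega
  have zz : ∑ χ ∈ fs (principalBlock M G), z χ * z χ = 9 := by
    have h1 := colS_self hM (y := x * y) ⟨1, h.oz⟩
    rw [h.lamC_mul hM, h9, colS] at h1
    simp only [hz, map_intCast] at h1
    exact_mod_cast h1
  have z1 : z (H33.oneIrr G) = 1 := by exact_mod_cast (hz _).symm.trans (H33.oneIrr_apply _)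
  have h0 : ∀ χ ∈ fs (principalBlock M G), ¬ 3 ∣ z χ := fun χ hχ => by
    by_cases e : χ = H33.oneIrr G
    · rw [e, z1]; norm_num
    have h1 : z χ ≠ 0 := fun e => apply_ne_zero hM (mem_fs.1 hχ)
      (H33.not_dvd_index_centralizer P fun w hw => (h.ab hw (mul_mem h.mx h.my)).eq)
      (by rw [hz, e, Int.cast_zero])
    rw [← Finset.add_sum_erase _ _ (mem_fs.2 H33.oneIrr_mem_principalBlock), z1] at zz
    have h2 := Finset.single_le_sum (f := fun χ => z χ * z χ) (fun _ _ => mul_self_nonneg _)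
      (Finset.mem_erase.2 ⟨e, hχ⟩)
    have h3 : -2 ≤ z χ := by nlinarith
    have h4 : z χ ≤ 2 := by nlinarith
    omega
  have zc : ∀ χ : IrrCharacter G, (3 : ℤ) ∣ z χ - charDegree (χ : G → ℂ) := fun χ =>
    int_cong_one Nat.prime_three χ ⟨1, h.oz⟩ (hz χ)
  have oz : ∀ {x : G} (hx : orderOf x = 3), ¬ IsConj x (_ * _) → ∀ g : Cg x, ¬ 3 ∣ orderOf g →
      ∑ χ ∈ fs (principalBlock M G), (χ : G → ℂ) (x * g) * z χ = 0 := fun hx hc g hg => by
    simpa only [colS, hz, map_intCast] using colS_eq_zero hM hB (px hx g hg) pz hc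
  have ow : ∀ {u v : G}, IsPPart 3 u v → orderOf v = 3 → ∑ χ ∈ fs (principalBlock M G),
      (χ : G → ℂ) u * (charDegree (χ : G → ℂ) : ℤ) = 0 := fun hu hv => by
    simpa only [colS, ← H33.irr_charDegree_cast, map_natCast, Int.cast_natCast] using
      colS_eq_zero hM hB hu p1 (ne1 hv)
  have o1 := S.orth z (oz h.ox fun e => h.not_mem_mul (h.mem_of_isConj (mul_mem h.mx h.my) e))
  have o2 := S'.orth z (oz h.oy fun e => h.symm.not_mem_mul
    (h.comm.eq ▸ h.symm.mem_of_isConj (mul_mem h.mx h.my) e))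
  have o3 := S.orth (fun χ => charDegree (χ : G → ℂ)) fun g hg => ow (px h.ox g hg) h.ox
  have o4 := S'.orth (fun χ => charDegree (χ : G → ℂ)) fun g hg => ow (px h.oy g hg) h.oy
  have o5 : ∀ k : Cg x, ¬ 3 ∣ orderOf k →
      ∑ χ ∈ fs (principalBlock M G), (χ : G → ℂ) (x * k) * f χ = 0 ∧
      ∑ χ ∈ fs (principalBlock M G), (χ : G → ℂ) (x * k) * g χ = 0 := fun k hk => by
    have := S'.ind (conj (∑ χ ∈ fs (principalBlock M G), (χ : G → ℂ) (x * k) * f χ))
      (conj (∑ χ ∈ fs (principalBlock M G), (χ : G → ℂ) (x * k) * g χ)) fun l hl => by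
        rw [← colS_eq_zero hM hB (px h.oy l hl) (px h.ox k hk) fun e =>
          h.ny (h.symm.mem_of_isConj h.mx e), colS, map_sum, map_sum, Finset.sum_mul,
          ← Finset.sum_add_distrib]
        refine Finset.sum_congr rfl fun χ hχ => ?_
        rw [S'.val χ (mem_fs.1 hχ) l hl]
        simp only [map_mul, map_intCast]
        ring
    exact ⟨(map_eq_zero conj).1 this.1, (map_eq_zero conj).1 this.2⟩
  have o6 := S.orth f fun k hk => (o5 k hk).1
  have o7 := S.orth g fun k hk => (o5 k hk).2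
  have o8 : ∑ χ ∈ fs (principalBlock M G), z χ * (charDegree (χ : G → ℂ) : ℤ) = 0 := by
    have := ow pz h.oz
    simp only [hz] at this
    exact_mod_cast this
  obtain ⟨c, c1, c2, c3, c4, c5, c6, c7⟩ := grid _ z d e f g (fun χ => charDegree (χ : G → ℂ)) zz
    S.dd S.de S.ee S'.dd S'.de S'.ee o1.1 o1.2 o2.1 o2.2 o6.1 o6.2 o7.1 o7.2 o8 o3.1 o3.2 o4.1 o4.2
    h0 (fun χ hχ => by have := S.cong h.ox (mem_fs.1 hχ); have := zc χ; omega)
    (fun χ hχ => by have := S'.cong h.oy (mem_fs.1 hχ); have := zc χ; omega)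
  have m1 := H33.oneIrr_mem_principalBlock (G := G) (M := M)
  have c0 : c 0 0 = H33.oneIrr G := by
    obtain ⟨j, hj⟩ := (c4 _ (mem_fs.2 m1)).1 (S.eq_of_const m1 fun _ _ => by
      rw [z1, H33.oneIrr_apply, Int.cast_one])
    obtain ⟨i, hi⟩ := (c5 _ (mem_fs.2 m1)).1 (S'.eq_of_const m1 fun _ _ => by
      rw [z1, H33.oneIrr_apply, Int.cast_one])
    rw [hj, (c2 _ _ _ _ (hj.symm.trans hi)).2]
  have d0 : charDegree (c 0 0 : G → ℂ) = 1 := by rw [c0]; exact H33.charDegree_one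
  have d2 : ∀ i j, ¬ (i = 0 ∧ j = 0) → 2 ≤ charDegree (c i j : G → ℂ) := fun i j hij =>
    two_le_degree hG fun e => hij (c2 _ _ _ _ (e.trans c0.symm))
  have d3 : ∀ i j, charDegree (c i j : G → ℂ) ∣ 2 ^ a * q ^ b := fun i j =>
    dvd_of_not_three (hcard ▸ H33.charDegree_dvd_card _) (by
      have := h0 _ (c1 i j); have := zc (c i j); omega)
  obtain ⟨j, hj, hj'⟩ : ∃ j, charDegree (c 0 j : G → ℂ) = q ∧
      ∀ j', charDegree (c 0 j' : G → ℂ) = q → j' = j := by
    have r0 := c6 0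
    rw [Fin.sum_univ_three, d0, c0, z1] at r0
    have k1 := d2 0 1 (by decide)
    have k2 := d2 0 2 (by decide)
    have k3 : charDegree (c 0 1 : G → ℂ) ≠ charDegree (c 0 2 : G → ℂ) ∧
        (charDegree (c 0 1 : G → ℂ) = q ∨ charDegree (c 0 2 : G → ℂ) = q) := by
      rcases c3 _ (c1 0 1) with e1 | e1 <;> rcases c3 _ (c1 0 2) with e2 | e2 <;>
        rw [e1, e2] at r0
      · omega
      · have := consec hq k1 (d3 0 1) (by convert d3 0 2 using 1; omega)
        omega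
      · have := consec hq k2 (d3 0 2) (by convert d3 0 1 using 1; omega)
        omega
      · omega
    have k4 : ∀ j : Fin 3, j = 0 ∨ j = 1 ∨ j = 2 := by decide
    rcases k3.2 with k | k
    · exact ⟨1, k, fun j' hj' => by rcases k4 j' with rfl | rfl | rfl <;> first | rfl | omega⟩
    · exact ⟨2, k, fun j' hj' => by rcases k4 j' with rfl | rfl | rfl <;> first | rfl | omega⟩
  have hb : b ≤ 1 := by
    by_contra hb
    refine not_sq_dvd hG hqp hj (fun u ⟨m, hm⟩ => exists_int_of_pow (by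
      rw [hcard, mul_assoc]; exact Dvd.dvd.mul_right (by norm_num) _) (fun k hk k3 => ?_) ?_)
      (hcard ▸ (pow_dvd_pow q (by omega)).mul_left _)
    · have hpow : ∀ {w : G}, orderOf w = 3 → w ^ k = w := fun {w} hw =>
        (pow_eq_pow_iff_modEq.2 (by rw [hw]; exact k3)).trans (pow_one w)
      have mψ := H33.powIrr_mem_principalBlock hM hk (mem_fs.1 (c1 0 j))
      have zψ : z (H33.powIrr hk (c 0 j)) = z (c 0 j) := by
        have := hz (H33.powIrr hk (c 0 j))
        rw [H33.powIrr_apply, hpow h.oz, hz] at this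
        exact_mod_cast this.symm
      obtain ⟨k1, k2⟩ := (c4 _ (c1 0 j)).2 ⟨j, rfl⟩
      obtain ⟨j', e'⟩ := (c4 _ (mem_fs.2 mψ)).1 (S.eq_of_const mψ fun l hl => by
        rw [H33.powIrr_apply, Commute.mul_pow (mem_centralizer_singleton_iff.1 l.2).symm,
          hpow h.ox, ← coe_pow, S.val _ (mem_fs.1 (c1 0 j)) _
            (fun hd => hl (hd.trans (orderOf_pow_dvd k))), k1, k2, zψ]
        simp)
      rw [e', hj' j' (by rw [← e', H33.charDegree_powIrr, hj])]
    · rw [hm]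
      exact fun hd => by
        have := (Nat.prime_dvd_prime_iff_eq Nat.prime_three hqp).1
          (Nat.prime_three.dvd_of_dvd_pow hd)
        omega
  have ab : ∀ i j, (z (c i j) * charDegree (c i j : G → ℂ)).natAbs = charDegree (c i j : G → ℂ) ∧
      3 ∣ z (c i j) * charDegree (c i j : G → ℂ) - 1 := fun i j => by
    have := zc (c i j)
    rcases c3 _ (c1 i j) with e | e <;> rw [e] at this ⊢ <;> omega
  have hr := ab 0 j
  rw [hj] at hr
  refine grid_false (z (c 0 j) * q) (by omega) (by omega)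
    (fun i j => z (c i j) * charDegree (c i j : G → ℂ)) (by rw [d0, c0, z1]; rfl) c6 c7
    fun i j' hij => entry (k := a) hq hr.1 hr.2 (ab i j').2
      (by have := (ab i j').1; have := d2 i j' hij; omega) ?_
  rw [(ab i j').1]
  exact (d3 i j').trans (Nat.mul_dvd_mul_left _ (pow_dvd_pow q hb))

end V4

end Cfsg.Agent.H87.Ni
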