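import Cfsg.Agent.H87.NiF

/-!
Sylow `3`-subgroups of order nine with at least three classes of nonidentity elements.
-/

set_option autoImplicit false
set_option linter.unusedSectionVars false

namespace Cfsg.Agent.H87.Ni

open Cfsg Cfsg.Agent.H34 Subgroup

theorem aut_sq_or {A : Type*} [Group A] [Finite A] (h9 : Nat.card A = 9)
    (hc : ∀ a b : A, a * b = b * a) (e : MulAut A) {m : ℕ} (hm : ¬ 3 ∣ m) (he : e ^ m = 1) :
    e ^ 2 = 1 ∨ ∀ v : A, (e ^ 2) v = v → v = 1 := by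
  let δ : A →* A := MonoidHom.mk' (fun v => v⁻¹ * (e ^ 2) v) fun a b => by
    rw [map_mul, mul_inv_rev, hc b⁻¹, mul_assoc, mul_assoc, ← mul_assoc b⁻¹, hc b⁻¹, mul_assoc]
  have hδ : ∀ v, (e ^ 2) v = v * δ v := fun v => (mul_inv_cancel_left v _).symm
  have h1 := δ.ker.card_mul_index
  rw [index_ker, h9] at h1
  obtain ⟨i, hi, h2⟩ := (Nat.dvd_prime_pow Nat.prime_three).1
    (show Nat.card δ.range ∣ 3 ^ 2 from Dvd.intro_left _ h1)
  interval_cases i
  · left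
    ext v
    rw [hδ, mem_bot.1 ((card_eq_one.1 h2).le (⟨v, rfl⟩ : δ v ∈ δ.range)), mul_one, MulAut.one_apply]
  · left
    have h3 : ∀ w ∈ δ.range, w ^ 3 = 1 := fun w hw =>
      orderOf_dvd_iff_pow_eq_one.1 ((δ.range.orderOf_dvd_natCard hw).trans h2.dvd)
    have h4 : ∀ w ∈ δ.range, (e ^ 2) w = w := by
      intro w hw
      by_cases w1 : w = 1
      · simp [w1]
      have := Fact.mk Nat.prime_three
      have ho := orderOf_eq_prime (h3 w hw) w1
      have h5 : zpowers w = δ.range := eq_of_le_of_card_ge (zpowers_le.2 hw)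
        (by rw [h2, Nat.card_zpowers, ho]; rfl)
      have h6 : e w ∈ zpowers w := by
        obtain ⟨v, rfl⟩ := hw
        refine h5 ▸ ⟨e v, ?_⟩
        change (e v)⁻¹ * (e ^ 2) (e v) = e (v⁻¹ * (e ^ 2) v)
        rw [map_mul, map_inv, ← MulAut.mul_apply, ← MulAut.mul_apply, ← pow_succ, ← pow_succ']
      rw [sq, MulAut.mul_apply]
      rcases mem_zpowers_three ho h6 with h | h | h
      · exact absurd ((map_eq_one_iff e e.injective).1 h) w1
      · rw [h, h]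
      · rw [h, map_inv, h, inv_inv]
    have h6 : e ^ 6 = 1 := by
      ext v
      have h7 := h4 _ ⟨v, rfl⟩
      rw [show 6 = 2 + (2 + 2) from rfl, pow_add, pow_add, MulAut.mul_apply, MulAut.mul_apply, hδ v,
        map_mul, h7, hδ v, map_mul, map_mul, h7, hδ v, mul_assoc, mul_assoc, ← pow_three,
        h3 _ ⟨v, rfl⟩, mul_one, MulAut.one_apply]
    refine orderOf_dvd_iff_pow_eq_one.1 (Nat.Coprime.dvd_of_dvd_mul_left ?_
      (show orderOf e ∣ 3 * 2 from orderOf_dvd_of_pow_eq_one h6))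
    exact ((Nat.Prime.coprime_iff_not_dvd Nat.prime_three).2 fun h =>
      hm (h.trans (orderOf_dvd_of_pow_eq_one he))).symm
  · right
    intro v hv
    rw [h2] at h1
    exact mem_bot.1 (card_eq_one.1 (show Nat.card δ.ker = 1 by omega) ▸
      (show v ∈ δ.ker by rw [MonoidHom.mem_ker, ← mul_right_inj v, ← hδ, hv, mul_one]))

variable {G : Type*} [Group G] [Finite G] [Fact (Nat.Prime 3)]

theorem sq_mem_centralizer (P : Sylow 3 G) (h9 : Nat.card (P : Subgroup G) = 9)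
    (hc : ∀ a b : (P : Subgroup G), a * b = b * a)
    (h3 : 3 ≤ Nat.card {C : ConjClasses G // ∃ g ∈ C.carrier, g ≠ 1 ∧ orderOf g ∣ 9}) {n : G}
    (hn : n ∈ normalizer ((P : Subgroup G) : Set G)) :
    ∀ w ∈ (P : Subgroup G), n * (n * w * n⁻¹) * n⁻¹ = w := by
  classical
  set e := (P : Subgroup G).normalizerMonoidHom ⟨n, hn⟩ with he
  have hm : ¬ 3 ∣ Nat.card (autz (P : Subgroup G)) := fun h => P.not_dvd_index (by
    rw [card_autz] at h
    refine (h.trans (relIndex_dvd_of_le_left _ fun a ha b hb => ?_)).trans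
      (relIndex_dvd_index_of_le le_normalizer)
    exact congrArg Subtype.val (hc ⟨b, hb⟩ ⟨a, ha⟩))
  have h1 : e ^ Nat.card (autz (P : Subgroup G)) = 1 :=
    orderOf_dvd_iff_pow_eq_one.1 (orderOf_dvd_natCard _ ⟨_, rfl⟩)
  rcases aut_sq_or h9 hc e hm h1 with h | h
  · intro w hw
    have := DFunLike.congr_fun h ⟨w, hw⟩
    rw [sq, MulAut.mul_apply] at this
    exact congrArg Subtype.val this
  exfalso
  have := Fintype.ofFinite (P : Subgroup G)
  let f : ↥(P : Subgroup G) → ConjClasses G := fun v => ConjClasses.mk (v : G)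
  have hf : ∀ v, f (e v) = f v := fun v =>
    ConjClasses.mk_eq_mk_iff_isConj.2 (isConj_iff.2 ⟨n, rfl⟩).symm
  have k1 : ∀ v, e v = v → v = 1 := fun v hv => h v (by rw [sq, MulAut.mul_apply, hv, hv])
  have k2 : ∀ v, e (e v) = v → v = 1 := h
  have k3 : ∀ v, e (e (e v)) = v → v = 1 := fun v hv => by
    have h4 : ∀ k : ℕ, (e ^ (3 * k)) v = v := fun k => by
      induction k with
      | zero => rfl
      | succ k ih => rw [mul_add, pow_add, MulAut.mul_apply]; exact (congrArg _ hv).trans ih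
    have h5 := h4 (Nat.card (autz (P : Subgroup G)) / 3)
    rw [← Nat.mod_add_div (Nat.card (autz (P : Subgroup G))) 3, pow_add] at h1
    have h6 := DFunLike.congr_fun h1 v
    rw [MulAut.mul_apply, h5] at h6
    have : Nat.card (autz (P : Subgroup G)) % 3 = 1 ∨ Nat.card (autz (P : Subgroup G)) % 3 = 2 := by
      omega
    rcases this with h7 | h7 <;> rw [h7] at h6
    exacts [k1 v h6, h v h6]
  have h4 := Finset.mul_card_image_le_card (f := f) (Finset.univ.erase 1) 4 fun a ha => by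
    obtain ⟨v, hv, rfl⟩ := Finset.mem_image.1 ha
    have v1 := Finset.ne_of_mem_erase hv
    have ne : ∀ w, w ≠ 1 → e w ≠ 1 := fun w hw h => hw ((map_eq_one_iff e e.injective).1 h)
    have h5 : ({v, e v, e (e v), e (e (e v))} : Finset _).card = 4 := by
      refine Finset.card_eq_four.2 ⟨_, _, _, _, ?_, ?_, ?_, ?_, ?_, ?_, rfl⟩
      exacts [fun h => v1 (k1 _ h.symm), fun h => v1 (k2 _ h.symm), fun h => v1 (k3 _ h.symm),
        fun h => v1 (k1 _ (e.injective h).symm), fun h => v1 (k2 _ (e.injective h).symm),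
        fun h => v1 (k1 _ (e.injective (e.injective h)).symm)]
    rw [← h5]
    refine Finset.card_le_card fun w hw => ?_
    simp only [Finset.mem_insert, Finset.mem_singleton] at hw
    rcases hw with rfl | rfl | rfl | rfl <;> simp [hf, v1, ne]
  rw [Finset.card_erase_of_mem (Finset.mem_univ _), Finset.card_univ, ← Nat.card_eq_fintype_card,
    h9] at h4
  have h5 : Nat.card {C : ConjClasses G // ∃ g ∈ C.carrier, g ≠ 1 ∧ orderOf g ∣ 9} ≤
      ((Finset.univ.erase 1).image f).card := by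
    rw [← Nat.card_eq_finsetCard]
    refine Nat.card_le_card_of_injective (fun C => ⟨C.1, ?_⟩) fun C D h =>
      Subtype.ext (congrArg Subtype.val h :)
    obtain ⟨g, hg, g1, hg9⟩ := C.2
    obtain ⟨k, -, hk⟩ := (Nat.dvd_prime_pow Nat.prime_three).1 (show orderOf g ∣ 3 ^ 2 from hg9)
    obtain ⟨c, hc⟩ := exists_conj_mem_sylow' P ⟨k, hk⟩
    refine Finset.mem_image.2 ⟨⟨_, hc⟩, by simpa using g1, ?_⟩
    rw [← ConjClasses.mem_carrier_iff_mk_eq.1 hg]
    exact ConjClasses.mk_eq_mk_iff_isConj.2 (isConj_iff.2 ⟨c, rfl⟩).symm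
  omega

theorem pm_or_v4 (P : Sylow 3 G) (h9 : Nat.card (P : Subgroup G) = 9)
    (hab : IsMulCommutative (P : Subgroup G)) (hr : pResidual 3 G = ⊤)
    (hsq : ∀ n ∈ normalizer ((P : Subgroup G) : Set G),
      ∀ w ∈ (P : Subgroup G), n * (n * w * n⁻¹) * n⁻¹ = w) : H53.PM P ∨ ∃ x y, V4 P x y := by
  have hc : ∀ a ∈ (P : Subgroup G), ∀ b ∈ (P : Subgroup G), Commute a b := fun a ha b hb =>
    congrArg Subtype.val (hab.is_comm.comm (⟨a, ha⟩ : (P : Subgroup G)) ⟨b, hb⟩)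
  have hN : ∀ n ∈ normalizer ((P : Subgroup G) : Set G), ∀ w ∈ (P : Subgroup G),
      n * w * n⁻¹ ∈ (P : Subgroup G) := fun n hn w hw => (mem_normalizer_iff.1 hn w).1 hw
  have hfix : ∀ w ∈ (P : Subgroup G), w ≠ 1 →
      ∃ n ∈ normalizer ((P : Subgroup G) : Set G), n * w * n⁻¹ ≠ w := fun w hw w1 => by
    by_contra h
    push Not at h
    exact w1 (H53.eq_one_of_norm_fixed P hab hr hw fun n hn => mul_inv_eq_iff_eq_mul.1 (h n hn))
  have h2 : ∀ w ∈ (P : Subgroup G), w⁻¹ = w → w = 1 := fun w hw h =>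
    H53.eq_one_of_sq_of_pgroup (by norm_num) P.isPGroup' hw (by nth_rw 1 [← h]; simp)
  by_cases hs : ∀ n ∈ normalizer ((P : Subgroup G) : Set G),
      (∀ x ∈ (P : Subgroup G), n * x * n⁻¹ = x) ∨ (∀ x ∈ (P : Subgroup G), n * x * n⁻¹ = x⁻¹)
  · obtain ⟨⟨w, hw⟩, w1⟩ := ne_bot_iff_exists_ne_one.1
      (show (P : Subgroup G) ≠ ⊥ from fun e => by rw [e, card_bot] at h9; omega)
    obtain ⟨n, hn, h⟩ := hfix w hw fun e => w1 (Subtype.ext e)
    exact Or.inl ⟨hab, hs, n, hn, (hs n hn).resolve_left fun h' => h (h' w hw)⟩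
  push Not at hs
  obtain ⟨s, hs, ⟨u, hu, hu'⟩, v, hv, hv'⟩ := hs
  obtain ⟨x, hx, x1, sx⟩ : ∃ x ∈ (P : Subgroup G), x ≠ 1 ∧ s * x * s⁻¹ = x⁻¹ :=
    ⟨u⁻¹ * (s * u * s⁻¹), mul_mem (inv_mem hu) (hN s hs u hu),
      fun e => hu' (inv_mul_eq_one.1 e).symm, by rw [← conj_mul, hsq s hs u hu]; group⟩
  obtain ⟨y, hy, y1, sy⟩ : ∃ y ∈ (P : Subgroup G), y ≠ 1 ∧ s * y * s⁻¹ = y :=
    ⟨v * (s * v * s⁻¹), mul_mem hv (hN s hs v hv), fun e => hv' (eq_inv_of_mul_eq_one_right e), by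
      rw [← conj_mul, hsq s hs v hv, (hc _ hv _ (hN s hs v hv)).eq]⟩
  have sx' : ∀ w ∈ zpowers x, s * w * s⁻¹ = w⁻¹ := by
    rintro _ ⟨i, rfl⟩
    rw [← conj_zpow, sx, inv_zpow]
  have sy' : ∀ w ∈ zpowers y, s * w * s⁻¹ = w := by
    rintro _ ⟨i, rfl⟩
    rw [← conj_zpow, sy]
  have nx : y ∉ zpowers x := fun h => y1 (h2 y hy ((sx' y h).symm.trans sy))
  have ny : x ∉ zpowers y := fun h => x1 (h2 x hx (sx.symm.trans (sy' x h)))
  have sub : ∀ H : Subgroup G, H ≤ P → Nat.card H = 1 ∨ Nat.card H = 3 ∨ H = P := fun H hH => by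
    obtain ⟨i, hi, e⟩ := (Nat.dvd_prime_pow Nat.prime_three).1
      (show Nat.card H ∣ 3 ^ 2 from (card_dvd_of_le hH).trans h9.dvd)
    interval_cases i
    exacts [Or.inl e, Or.inr (Or.inl e), Or.inr (Or.inr (eq_of_le_of_card_ge hH (by omega)))]
  have o3 : ∀ {a b : G}, a ∈ (P : Subgroup G) → b ∈ (P : Subgroup G) → a ≠ 1 → b ∉ zpowers a →
      orderOf a = 3 := fun {a b} ha hb a1 h => by
    rcases sub _ (zpowers_le.2 ha) with e | e | e
    exacts [absurd (zpowers_eq_bot.1 (card_eq_one.1 e)) a1, (Nat.card_zpowers a).symm.trans e,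
      absurd (e ▸ hb) h]
  have ox := o3 hx hy x1 nx
  have oy := o3 hy hx y1 ny
  have hxy := hc x hx y hy
  have gen : ∀ g ∈ (P : Subgroup G), ∃ a ∈ zpowers x, ∃ b ∈ zpowers y, g = a * b := by
    let H : Subgroup G :=
      { carrier := {g | ∃ a ∈ zpowers x, ∃ b ∈ zpowers y, g = a * b}
        one_mem' := ⟨1, one_mem _, 1, one_mem _, (mul_one 1).symm⟩
        mul_mem' := by
          rintro _ _ ⟨_, ⟨i, rfl⟩, _, ⟨j, rfl⟩, rfl⟩ ⟨_, ⟨k, rfl⟩, _, ⟨l, rfl⟩, rfl⟩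
          exact ⟨_, ⟨i + k, rfl⟩, _, ⟨j + l, rfl⟩, by
            simp only [zpow_add]
            exact ((hxy.zpow_zpow k j).symm.mul_mul_mul_comm _ _)⟩
        inv_mem' := by
          rintro _ ⟨_, ⟨i, rfl⟩, _, ⟨j, rfl⟩, rfl⟩
          exact ⟨_, ⟨-i, rfl⟩, _, ⟨-j, rfl⟩, by
            simp only [zpow_neg]
            rw [(hxy.zpow_zpow i j).eq, mul_inv_rev]⟩ }
    have h3 : zpowers x ≤ H := fun a ha => ⟨a, ha, 1, one_mem _, (mul_one a).symm⟩
    have h4 : H ≤ P := by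
      rintro _ ⟨a, ha, b, hb, rfl⟩
      exact mul_mem (zpowers_le.2 hx ha) (zpowers_le.2 hy hb)
    have h5 := card_le_of_le h3
    rw [Nat.card_zpowers, ox] at h5
    rcases sub H h4 with e | e | e
    · omega
    · refine absurd (eq_of_le_of_card_ge h3 (by rw [e, Nat.card_zpowers, ox]) ▸ ?_ : y ∈ zpowers x) nx
      exact ⟨1, one_mem _, y, mem_zpowers y, (one_mul y).symm⟩
    · exact fun g hg => (e ▸ hg : g ∈ H)
  have comm : ∀ n ∈ normalizer ((P : Subgroup G) : Set G), ∀ w ∈ (P : Subgroup G),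
      s * (n * w * n⁻¹) * s⁻¹ = n * (s * w * s⁻¹) * n⁻¹ := fun n hn w hw => by
    have h3 := hsq _ (mul_mem hn hs) w hw
    have h4 := hN _ (mul_mem hn hs) w hw
    calc s * (n * w * n⁻¹) * s⁻¹
        = s * (n * (n * (s * (n * s * w * (n * s)⁻¹) * s⁻¹) * n⁻¹) * n⁻¹) * s⁻¹ := by
          conv_lhs => rw [← h3]
          group
      _ = _ := by rw [hsq n hn _ (hN s hs _ h4), hsq s hs _ h4]; group
  have nrx : ∀ n ∈ normalizer ((P : Subgroup G) : Set G),
      n * x * n⁻¹ = x ∨ n * x * n⁻¹ = x⁻¹ := fun n hn => by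
    obtain ⟨a, ha, b, hb, e⟩ := gen _ (hN n hn x hx)
    have h3 := comm n hn x hx
    rw [sx, ← conj_inv, e, ← conj_mul, sx' a ha, sy' b hb,
      (hc _ (zpowers_le.2 hx ha) _ (zpowers_le.2 hy hb)).eq, mul_inv_rev, mul_right_inj] at h3
    rw [h2 b (zpowers_le.2 hy hb) h3.symm, mul_one] at e
    exact (mem_zpowers_three ox (e ▸ ha)).resolve_left (by simpa using x1)
  have nry : ∀ n ∈ normalizer ((P : Subgroup G) : Set G),
      n * y * n⁻¹ = y ∨ n * y * n⁻¹ = y⁻¹ := fun n hn => by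
    obtain ⟨a, ha, b, hb, e⟩ := gen _ (hN n hn y hy)
    have h3 := comm n hn y hy
    rw [sy, e, ← conj_mul, sx' a ha, sy' b hb, mul_left_inj] at h3
    rw [h2 a (zpowers_le.2 hx ha) h3, one_mul] at e
    exact (mem_zpowers_three oy (e ▸ hb)).resolve_left (by simpa using y1)
  refine Or.inr ⟨x, y, ox, oy, hxy, hx, hy, gen, nx, ny, ⟨s, sx, sy⟩, ?_, nrx, nry⟩
  obtain ⟨n, hn, h⟩ := hfix y hy y1
  have h3 := (nry n hn).resolve_left h
  rcases nrx n hn with h4 | h4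
  · exact ⟨n, h4, h3⟩
  · refine ⟨s * n, ?_, ?_⟩
    · rw [show s * n * x * (s * n)⁻¹ = s * (n * x * n⁻¹) * s⁻¹ by group, h4, ← conj_inv, sx, inv_inv]
    · rw [show s * n * y * (s * n)⁻¹ = s * (n * y * n⁻¹) * s⁻¹ by group, h3, ← conj_inv, sy]

end Cfsg.Agent.H87.Ni
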