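import Cfsg.Agent.H66.JacobiTrudi
import Cfsg.Agent.H5.Complete
import Cfsg.Agent.H53.Virtual

/-! Characters of symmetric groups through the Frobenius formula: weight polynomials. -/

set_option autoImplicit false

namespace Cfsg.Agent.H87.Sn

open Equiv MvPolynomial Finset

variable {N : ℕ} {Ω : Type*} [Fintype Ω] [DecidableEq Ω]

/-- Content of a colouring. -/
def cont {ι : Type*} [DecidableEq ι] (f : Ω → ι) (i : ι) : ℕ := #{a | f a = i}

/-- Colourings with a given content. -/
def Fn (Ω : Type*) [Fintype Ω] {ι : Type*} [DecidableEq ι] (α : ι → ℕ) : Type _ :=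
  {f : Ω → ι // cont f = α}

omit [DecidableEq Ω] in
theorem cont_comp {ι : Type*} [DecidableEq ι] (f : Ω → ι) (g : Perm Ω) :
    cont (fun a => f (g a)) = cont f := by
  funext i
  exact Finset.card_equiv g (by simp)

instance {ι : Type*} [DecidableEq ι] (α : ι → ℕ) : MulAction (Perm Ω) (Fn Ω α) where
  smul g f := ⟨fun a => f.1 (g⁻¹ a), (cont_comp f.1 g⁻¹).trans f.2⟩
  one_smul _ := rfl
  mul_smul _ _ _ := rfl

instance {ι : Type*} [DecidableEq ι] [Finite ι] (α : ι → ℕ) : Finite (Fn Ω α) :=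
  inferInstanceAs (Finite {f : Ω → ι // cont f = α})

/-- Number of invariant colourings with a given content. -/
def cnt {ι : Type*} [Fintype ι] [DecidableEq ι] (α : ι → ℕ) (g : Perm Ω) : ℕ :=
  #{f : Ω → ι | (∀ a, f (g a) = f a) ∧ cont f = α}

theorem cnt_eq {ι : Type*} [Fintype ι] [DecidableEq ι] (α : ι → ℕ) (g : Perm Ω) :
    cnt α g = Nat.card (MulAction.fixedBy (Fn Ω α) g) := by
  rw [cnt, ← Fintype.card_subtype, ← Nat.card_eq_fintype_card]
  refine Nat.card_congr ⟨fun f => ⟨⟨f.1, f.2.2⟩, Subtype.ext (funext fun a => ?_)⟩,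
    fun f => ⟨f.1.1, fun a => ?_, f.1.2⟩, fun _ => rfl, fun _ => rfl⟩
  · have := f.2.1 (g⁻¹ a)
    simp only [Perm.coe_inv, apply_symm_apply] at this
    exact this.symm
  · have : f.1.1 (g⁻¹ (g a)) = f.1.1 (g a) := congrFun (congrArg Subtype.val f.2) (g a)
    simp only [Perm.coe_inv, symm_apply_apply] at this
    exact this.symm

theorem isCharacter_cnt {ι : Type*} [Fintype ι] [DecidableEq ι] (α : ι → ℕ) :
    IsCharacter (Perm Ω) fun g => (cnt α g : ℂ) := by
  simp only [cnt_eq]
  exact H5.isCharacter_perm _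

omit [DecidableEq Ω] in
theorem sum_cont {ι : Type*} [Fintype ι] [DecidableEq ι] (f : Ω → ι) :
    ∑ i, cont f i = Fintype.card Ω :=
  (Finset.card_eq_sum_card_fiberwise (f := f) (s := univ) (t := univ) (by simp)).symm

theorem cnt_eq_zero {ι : Type*} [Fintype ι] [DecidableEq ι] {α : ι → ℕ}
    (h : ∑ i, α i ≠ Fintype.card Ω) (g : Perm Ω) : cnt α g = 0 := by
  rw [cnt, card_eq_zero, filter_eq_empty_iff]
  rintro f - ⟨-, rfl⟩
  exact h (sum_cont f)

theorem sum_cnt {ι : Type*} [Fintype ι] [DecidableEq ι] {α : ι → ℕ}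
    (h : ∑ i, α i = Fintype.card Ω) : ∑ g : Perm Ω, cnt α g = (Fintype.card Ω).factorial := by
  classical
  have := Fintype.ofFinite (Fn Ω α)
  have := Fintype.ofFinite (Quotient (MulAction.orbitRel (Perm Ω) (Fn Ω α)))
  have h1 := MulAction.sum_card_fixedBy_eq_card_orbits_mul_card_group (Perm Ω) (Fn Ω α)
  have h2 : Fintype.card (Quotient (MulAction.orbitRel (Perm Ω) (Fn Ω α))) = 1 := by
    obtain ⟨u, hu⟩ := H66.exists_fun_card_fiber_eq (ι := Ω) α h
    refine Fintype.card_eq_one_iff.2 ⟨Quotient.mk _ ⟨u, funext hu⟩, fun q => ?_⟩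
    obtain ⟨v, rfl⟩ := Quotient.exists_rep q
    obtain ⟨ρ, hρ⟩ := H66.exists_perm_of_card_fiber_eq v.1 u
      fun x => (congrFun v.2 x).trans (hu x).symm
    exact Quotient.sound ⟨ρ⁻¹, Subtype.ext (funext hρ)⟩
  rw [h2, one_mul, Fintype.card_perm] at h1
  rw [← h1]
  exact sum_congr rfl fun g _ => by rw [cnt_eq, Nat.card_eq_fintype_card]

instance (α β : Fin N → ℕ) : Finite (H66.NatMat α β) :=
  Finite.of_injective (fun M : H66.NatMat α β => fun s t => (⟨M.1 s t, Nat.lt_succ_of_le
    ((single_le_sum (fun _ _ => Nat.zero_le _) (mem_univ t)).trans (M.2.1 s).le)⟩ :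
      Fin (α s + 1))) fun _ _ h => Subtype.ext (funext fun s => funext fun t =>
        congrArg Fin.val (congrFun (congrFun h s) t))

omit [DecidableEq Ω] in
theorem sum_cont_row (F : Ω → Fin N × Fin N) (s : Fin N) :
    ∑ t, cont F (s, t) = cont (fun a => (F a).1) s := by
  rw [cont, Finset.card_eq_sum_card_fiberwise (f := fun a => (F a).2) (t := univ) (by simp)]
  refine sum_congr rfl fun t _ => congrArg Finset.card ?_
  ext a
  simp [Prod.ext_iff]

omit [DecidableEq Ω] in
theorem sum_cont_col (F : Ω → Fin N × Fin N) (t : Fin N) :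
    ∑ s, cont F (s, t) = cont (fun a => (F a).2) t := by
  rw [cont, Finset.card_eq_sum_card_fiberwise (f := fun a => (F a).1) (t := univ) (by simp)]
  refine sum_congr rfl fun s _ => congrArg Finset.card ?_
  ext a
  simp [Prod.ext_iff, and_comm]

theorem cnt_mul_cnt (α β : Fin N → ℕ) [Fintype (H66.NatMat α β)] (g : Perm Ω) :
    cnt α g * cnt β g = ∑ M : H66.NatMat α β, cnt (fun x : Fin N × Fin N => M.1 x.1 x.2) g := by
  classical
  rw [cnt, cnt, ← card_product]
  simp only [cnt]
  rw [← card_sigma]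
  symm
  refine card_bij (fun x _ => (fun a => (x.2 a).1, fun a => (x.2 a).2)) ?_ ?_ ?_
  · rintro ⟨M, F⟩ h
    simp only [mem_sigma, mem_univ, mem_filter, true_and] at h
    simp only [mem_product, mem_filter, mem_univ, true_and]
    refine ⟨⟨fun a => by rw [h.1], funext fun s => ?_⟩, fun a => by rw [h.1], funext fun t => ?_⟩
    · rw [← sum_cont_row, h.2, ← M.2.1]
    · rw [← sum_cont_col, h.2, ← M.2.2]
  · rintro ⟨M, F⟩ h ⟨M', F'⟩ h' e
    simp only [mem_sigma, mem_univ, mem_filter, true_and] at h h'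
    obtain rfl : F = F' := funext fun a =>
      Prod.ext (congrFun (congrArg Prod.fst e) a) (congrFun (congrArg Prod.snd e) a)
    obtain rfl : M = M' := Subtype.ext (funext fun s => funext fun t =>
      (congrFun h.2 (s, t)).symm.trans (congrFun h'.2 (s, t)))
    rfl
  · rintro ⟨f, f'⟩ h
    simp only [mem_product, mem_filter, mem_univ, true_and] at h
    refine ⟨⟨⟨fun s t => cont (fun a => (f a, f' a)) (s, t), fun s => ?_, fun t => ?_⟩,
      fun a => (f a, f' a)⟩, ?_, rfl⟩
    · rw [sum_cont_row, ← h.1.2]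
    · rw [sum_cont_col, ← h.2.2]
    · exact mem_sigma.2 ⟨mem_univ _, mem_filter.2 ⟨mem_univ _, fun a => by
        simp only [h.1.1, h.2.1], rfl⟩⟩

theorem sum_cnt_mul_cnt {α : Fin N → ℕ} (h : ∑ i, α i = Fintype.card Ω) (β : Fin N → ℕ) :
    ∑ g : Perm Ω, cnt α g * cnt β g =
      (Fintype.card Ω).factorial * Nat.card (H66.NatMat α β) := by
  have := Fintype.ofFinite (H66.NatMat α β)
  simp only [cnt_mul_cnt]
  rw [sum_comm, sum_congr rfl fun M _ => sum_cnt (Ω := Ω) (by
    rw [Fintype.sum_prod_type, ← h]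
    exact sum_congr rfl fun s _ => M.2.1 s)]
  simp [mul_comm]

/-- Polynomials in `N` variables. -/
abbrev PR (N : ℕ) : Type := MvPolynomial (Fin N) ℂ

/-- The monomial with a given exponent vector. -/
noncomputable def mon (m : Fin N → ℕ) : PR N := monomial (Finsupp.equivFunOnFinite.symm m) 1

/-- The coefficient at an exponent vector. -/
noncomputable def cf (m : Fin N → ℕ) : PR N →ₗ[ℂ] ℂ := lcoeff ℂ (Finsupp.equivFunOnFinite.symm m)

theorem cf_apply (m : Fin N → ℕ) (P : PR N) :
    cf m P = coeff (Finsupp.equivFunOnFinite.symm m) P := rfl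

theorem cf_mon (m l : Fin N → ℕ) : cf m (mon l) = if l = m then 1 else 0 := by
  simp [cf_apply, mon, coeff_monomial]

theorem ext_cf {P Q : PR N} (h : ∀ m, cf m P = cf m Q) : P = Q :=
  MvPolynomial.ext _ _ fun d => by simpa [cf_apply] using h d

theorem mon_add (m l : Fin N → ℕ) : mon (m + l) = mon m * mon l := by
  rw [mon, mon, mon, monomial_mul, one_mul]
  congr 2
  ext i
  simp

theorem mon_zero : mon (0 : Fin N → ℕ) = 1 := by
  rw [mon, ← C_1, ← monomial_zero']
  congr 2
  ext i
  simp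

theorem mon_single (i : Fin N) (k : ℕ) : mon (Pi.single i k) = X i ^ k := by
  rw [mon, X_pow_eq_monomial, Finsupp.equivFunOnFinite_symm_single]

theorem cf_mon_mul (m l : Fin N → ℕ) (P : PR N) :
    cf m (mon l * P) = if ∀ i, l i ≤ m i then cf (m - l) P else 0 := by
  rw [cf_apply, mon, coeff_monomial_mul', one_mul]
  refine if_congr (by simp [Finsupp.le_def]) ?_ rfl
  rw [cf_apply]
  congr 1
  ext i
  simp

omit [DecidableEq Ω] in
theorem prod_X_eq (f : Ω → Fin N) : ∏ a, (X (f a) : PR N) = mon (cont f) := by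
  rw [← Finset.prod_fiberwise univ f, mon, monomial_eq, C_1, one_mul, Finsupp.prod_fintype _ _
    (by simp)]
  refine prod_congr rfl fun i _ => ?_
  rw [prod_congr rfl fun a ha => by rw [(mem_filter.1 ha).2], prod_const]
  rfl

variable (N) in
/-- The weight polynomial of the invariant colourings. -/
noncomputable def pw (g : Perm Ω) : PR N :=
  ∑ f : Ω → Fin N with ∀ a, f (g a) = f a, ∏ a, X (f a)

theorem cf_pw (α : Fin N → ℕ) (g : Perm Ω) : cf α (pw N g) = cnt α g := by
  simp only [pw, map_sum, prod_X_eq, cf_mon, cnt, sum_boole, filter_filter]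

variable (N) in
/-- Power sums. -/
noncomputable def ps (k : ℕ) : PR N := ∑ i, X i ^ k

variable (N) in
/-- Products of power sums. -/
noncomputable def PT (μ : Multiset ℕ) : PR N := (μ.map (ps N)).prod

theorem PT_add (μ ν : Multiset ℕ) : PT N (μ + ν) = PT N μ * PT N ν := by
  simp [PT]

theorem PT_cons (k : ℕ) (ν : Multiset ℕ) : PT N (k ::ₘ ν) = ps N k * PT N ν := by
  simp [PT]

theorem PT_replicate (j k : ℕ) : PT N (Multiset.replicate j k) = ps N k ^ j := by
  simp [PT]

theorem pw_eq_lab (g : Perm Ω) {T : Type*} [Fintype T] [DecidableEq T] (lab : Ω → T)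
    (hs : Function.Surjective lab) (h : ∀ a b, lab a = lab b ↔ g.SameCycle a b) :
    pw N g = ∏ q : T, ps N #{a | lab a = q} := by
  simp only [ps]
  rw [Finset.prod_univ_sum, Fintype.piFinset_univ, pw]
  symm
  refine sum_bij (fun F _ a => F (lab a)) (fun F _ => ?_) (fun F _ F' _ h => ?_)
    (fun f hf => ?_) fun F _ => ?_
  · simp only [mem_filter, mem_univ, true_and]
    intro a
    exact congrArg F ((h _ _).2 (Perm.sameCycle_apply_left.2 Perm.SameCycle.rfl))
  · funext q
    obtain ⟨a, rfl⟩ := hs q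
    exact congrFun h a
  · simp only [mem_filter, mem_univ, true_and] at hf
    refine ⟨fun q => f (hs q).choose, mem_univ _, funext fun a => ?_⟩
    obtain ⟨i, -, hi⟩ := ((h _ _).1 (hs (lab a)).choose_spec).exists_pow_eq'
    have : ∀ b, f b = f ((g ^ i) b) := ?_
    · exact (this _).trans (congrArg f hi)
    intro b
    clear hi
    induction i with
    | zero => rfl
    | succ i ih => rw [pow_succ', Perm.mul_apply, hf, ← ih]
  · rw [← Finset.prod_fiberwise univ lab]
    refine prod_congr rfl fun q _ => ?_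
    rw [← prod_const]
    exact prod_congr rfl fun a ha => by simp only [(mem_filter.1 ha).2]

theorem pw_eq (g : Perm Ω) : pw N g = PT N g.partition.parts := by
  let lab : Ω → g.cycleFactorsFinset ⊕ {a // a ∉ g.support} := fun a =>
    if h : a ∈ g.support then .inl ⟨g.cycleOf a, Perm.cycleOf_mem_cycleFactorsFinset_iff.2 h⟩
    else .inr ⟨a, h⟩
  have h1 : ∀ a (c : g.cycleFactorsFinset), lab a = .inl c ↔ a ∈ c.1.support := fun a c => by
    simp only [lab]
    split_ifs with h
    · simp only [Sum.inl.injEq, Subtype.ext_iff]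
      exact ⟨fun e => e ▸ Perm.mem_support_cycleOf_iff.2 ⟨.rfl, h⟩,
        fun e => (Perm.cycle_is_cycleOf e c.2).symm⟩
    · exact ⟨fun e => (by cases e), fun e => (h (Perm.mem_cycleFactorsFinset_support_le c.2 e)).elim⟩
  have h2 : ∀ a (c : {a // a ∉ g.support}), lab a = .inr c ↔ a = c.1 := fun a c => by
    simp only [lab]
    split_ifs with h
    · exact ⟨fun e => (by cases e), fun e => (c.2 (e ▸ h)).elim⟩
    · simp only [Sum.inr.injEq, Subtype.ext_iff]
  rw [pw_eq_lab g lab, Fintype.prod_sum_type, Perm.parts_partition, PT_add, PT_replicate,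
    Perm.cycleType_def, PT, Multiset.map_map, ← Finset.prod_eq_multiset_prod,
    ← prod_coe_sort g.cycleFactorsFinset]
  · congr 1
    · refine prod_congr rfl fun c _ => congrArg _ (congrArg Finset.card ?_)
      ext a
      simp only [mem_filter, mem_univ, true_and, h1]
    · rw [prod_congr rfl fun c _ => show ps N #{a | lab a = .inr c} = ps N 1 from by
        simp only [h2, filter_eq', mem_univ, if_true, card_singleton], prod_const, card_univ,
        Fintype.card_subtype_compl, Fintype.card_coe]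
  · rintro (c | c)
    · obtain ⟨a, ha⟩ := (Perm.mem_cycleFactorsFinset_iff.1 c.2).1.nonempty_support
      exact ⟨a, (h1 a c).2 ha⟩
    · exact ⟨c, (h2 _ c).2 rfl⟩
  · intro a b
    by_cases hb : b ∈ g.support
    · rw [show lab b = .inl ⟨_, Perm.cycleOf_mem_cycleFactorsFinset_iff.2 hb⟩ from dif_pos hb, h1,
        Perm.mem_support_cycleOf_iff, and_iff_left hb, Perm.sameCycle_comm]
    · rw [show lab b = .inr ⟨b, hb⟩ from dif_neg hb, h2]
      exact ⟨fun e => e ▸ .rfl, fun e => e.eq_of_right (Perm.notMem_support.1 hb)⟩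

end Cfsg.Agent.H87.Sn
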