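import Cfsg.Agent.H87.SnA

/-! The Frobenius formula: irreducible characters of symmetric groups as coefficients of
alternants. -/

set_option autoImplicit false

namespace Cfsg.Agent.H87.Sn

open Equiv MvPolynomial Finset
open scoped ComplexConjugate

variable {N : ℕ} {Ω : Type*} [Fintype Ω] [DecidableEq Ω]

/-- The sign as a complex number. -/
noncomputable def sg (σ : Perm Ω) : ℂ := ((Perm.sign σ : ℤ) : ℂ)

theorem sg_mul (σ τ : Perm Ω) : sg (σ * τ) = sg σ * sg τ := by simp [sg]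

theorem sg_inv (σ : Perm Ω) : sg σ⁻¹ = sg σ := by simp [sg]

theorem sg_one : sg (1 : Perm Ω) = 1 := by simp [sg]

theorem sg_mul_self (σ : Perm Ω) : sg σ * sg σ = 1 := by
  rw [sg, ← Int.cast_mul, ← Units.val_mul, Int.units_mul_self]; simp

theorem sg_ne_zero (σ : Perm Ω) : sg σ ≠ 0 := left_ne_zero_of_mul_eq_one (sg_mul_self σ)

theorem sg_swap {i j : Ω} (h : i ≠ j) : sg (swap i j) = -1 := by simp [sg, Perm.sign_swap h]

/-- Antisymmetric polynomials. -/
def Anti (P : PR N) : Prop := ∀ σ : Perm (Fin N), rename σ P = sg σ • P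

/-- Alternants. -/
noncomputable def alt (m : Fin N → ℕ) : PR N := ∑ σ : Perm (Fin N), sg σ • mon (m ∘ σ)

variable (N) in
/-- The staircase. -/
def dl : Fin N → ℕ := fun i => i

theorem rename_mon (σ : Perm (Fin N)) (m : Fin N → ℕ) : rename σ (mon m) = mon (m ∘ σ.symm) := by
  rw [mon, rename_monomial, mon]
  congr 2
  ext i
  simp [Finsupp.mapDomain_equiv_apply]

theorem cf_rename (σ : Perm (Fin N)) (m : Fin N → ℕ) (P : PR N) :
    cf m (rename σ P) = cf (m ∘ σ) P := by
  rw [cf_apply, cf_apply, ← coeff_rename_mapDomain σ σ.injective P]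
  congr 1
  ext i
  simp [Finsupp.mapDomain_equiv_apply]

theorem Anti.cf_comp {P : PR N} (h : Anti P) (σ : Perm (Fin N)) (m : Fin N → ℕ) :
    cf (m ∘ σ) P = sg σ * cf m P := by
  rw [← cf_rename, h, map_smul, smul_eq_mul]

theorem comp_swap_eq {m : Fin N → ℕ} {i j : Fin N} (h : m i = m j) : m ∘ swap i j = m :=
  funext fun k => apply_swap_eq_self h k

theorem Anti.cf_eq_zero {P : PR N} (h : Anti P) {m : Fin N → ℕ} (hm : ¬ Function.Injective m) :
    cf m P = 0 := by
  obtain ⟨i, j, e, hij⟩ := Function.not_injective_iff.1 hm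
  have := h.cf_comp (swap i j) m
  rw [comp_swap_eq e, sg_swap hij] at this
  linear_combination this / 2

theorem anti_alt (m : Fin N → ℕ) : Anti (alt m) := fun τ => by
  simp only [alt, map_sum, map_smul, rename_mon, smul_sum, smul_smul]
  refine Fintype.sum_equiv (Equiv.mulRight τ⁻¹) _ _ fun σ => ?_
  simp only [coe_mulRight, sg_mul, sg_inv]
  rw [mul_comm (sg σ), ← mul_assoc, sg_mul_self, one_mul]
  rfl

theorem Anti.mul {P Q : PR N} (h : Anti P) (hQ : Q.IsSymmetric) : Anti (P * Q) := fun σ => by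
  rw [map_mul, h, hQ, smul_mul_assoc]

theorem Anti.mul' {P Q : PR N} (h : Anti P) (hQ : Q.IsSymmetric) : Anti (Q * P) :=
  mul_comm P Q ▸ h.mul hQ

theorem symm_ps (k : ℕ) : (ps N k).IsSymmetric := psum_isSymmetric (Fin N) ℂ k

theorem symm_PT (μ : Multiset ℕ) : (PT N μ).IsSymmetric := by
  induction μ using Multiset.induction_on with
  | empty => exact IsSymmetric.one
  | cons k μ ih => rw [PT_cons]; exact (symm_ps k).mul ih

theorem symm_pw (g : Perm Ω) : (pw N g).IsSymmetric := pw_eq (N := N) g ▸ symm_PT _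

theorem cf_alt (l m : Fin N → ℕ) :
    cf l (alt m) = ∑ σ : Perm (Fin N), if m ∘ σ = l then sg σ else 0 := by
  simp [alt, cf_mon]

theorem cf_alt_comm (l m : Fin N → ℕ) : cf l (alt m) = cf m (alt l) := by
  rw [cf_alt, cf_alt]
  refine Fintype.sum_equiv (Equiv.inv _) _ _ fun σ => if_congr ?_ (sg_inv σ).symm rfl
  constructor <;> rintro rfl <;> funext i <;> simp

theorem cf_alt_self {l : Fin N → ℕ} (h : Function.Injective l) : cf l (alt l) = 1 := by
  rw [cf_alt, sum_eq_single 1, if_pos (show l ∘ (1 : Perm (Fin N)) = l from rfl), sg_one]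
  · exact fun σ _ hσ => if_neg fun e => hσ (Equiv.ext fun i => h (congrFun e i))
  · simp

theorem exists_perm_of_cf_alt {l m : Fin N → ℕ} (h : cf l (alt m) ≠ 0) :
    ∃ σ : Perm (Fin N), m ∘ σ = l := by
  by_contra! e
  exact h (by simp [cf_alt, e])

theorem alt_eq_zero {m : Fin N → ℕ} (hm : ¬ Function.Injective m) : alt m = 0 :=
  ext_cf fun l => by rw [cf_alt_comm, (anti_alt l).cf_eq_zero hm, map_zero]

theorem ps_mul_alt (k : ℕ) (m : Fin N → ℕ) :
    ps N k * alt m = ∑ i, alt (m + Pi.single i k) := by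
  simp only [alt, mul_sum, ps, sum_mul, mul_smul_comm]
  rw [sum_comm (s := univ) (t := (univ : Finset (Perm (Fin N))))]
  refine sum_congr rfl fun σ _ => ?_
  rw [smul_sum]
  refine Fintype.sum_equiv σ _ _ fun i => ?_
  rw [← mon_single, ← mon_add, add_comm]
  congr 2
  funext j
  simp [Pi.single_apply]

theorem cf_ps_mul (k : ℕ) (m : Fin N → ℕ) (P : PR N) :
    cf m (ps N k * P) = ∑ i, if k ≤ m i then cf (m - Pi.single i k) P else 0 := by
  simp only [ps, sum_mul, map_sum, ← mon_single, cf_mon_mul]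
  refine sum_congr rfl fun i _ => if_congr ⟨fun h => by simpa using h i, fun h j => ?_⟩ rfl rfl
  rcases eq_or_ne j i with rfl | e
  · simpa using h
  · simp [e]

theorem exists_sort {m : Fin N → ℕ} (h : Function.Injective m) :
    ∃ σ : Perm (Fin N), StrictMono (m ∘ σ) :=
  ⟨Tuple.sort m, (Tuple.monotone_sort m).strictMono_of_injective (h.comp (Equiv.injective _))⟩

theorem dl_le {m : Fin N → ℕ} (h : StrictMono m) (i : Fin N) : i.val ≤ m i := by
  obtain ⟨i, hi⟩ := i
  induction i with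
  | zero => exact Nat.zero_le _
  | succ i ih => exact Nat.succ_le_of_lt ((ih (by omega)).trans_lt (h (by simp [Fin.lt_def])))

theorem sum_dl_le {m : Fin N → ℕ} (h : Function.Injective m) : ∑ i, dl N i ≤ ∑ i, m i := by
  obtain ⟨σ, hσ⟩ := exists_sort h
  rw [← Equiv.sum_comp σ m]
  exact sum_le_sum fun i _ => dl_le hσ i

theorem dl_injective : Function.Injective (dl N) := Fin.val_injective

/-- The Frobenius character. -/
noncomputable def Xc (m : Fin N → ℕ) (g : Perm Ω) : ℂ := cf m (alt (dl N) * pw N g)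

theorem anti_P (g : Perm Ω) : Anti (alt (dl N) * pw N g) := (anti_alt _).mul (symm_pw g)

theorem Xc_comp (m : Fin N → ℕ) (σ : Perm (Fin N)) (g : Perm Ω) :
    Xc (m ∘ σ) g = sg σ * Xc m g := (anti_P g).cf_comp σ m

theorem Xc_eq (m : Fin N → ℕ) (g : Perm Ω) : Xc m g = ∑ κ : Perm (Fin N),
    if ∀ i, (κ i).val ≤ m i then sg κ * cnt (fun i => m i - κ i) g else 0 := by
  simp only [Xc, alt, sum_mul, map_sum, smul_mul_assoc, map_smul, cf_mon_mul, smul_eq_mul,
    mul_ite, mul_zero, cf_pw]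
  rfl

theorem sum_sub_perm {m : Fin N → ℕ} {κ : Perm (Fin N)} (h : ∀ i, (κ i).val ≤ m i) :
    ∑ i, (m i - κ i) + ∑ i, dl N i = ∑ i, m i := by
  rw [← Equiv.sum_comp κ (dl N), ← sum_add_distrib]
  exact sum_congr rfl fun i _ => Nat.sub_add_cancel (h i)

theorem Xc_eq_zero {m : Fin N → ℕ} (h : ∑ i, m i ≠ Fintype.card Ω + ∑ i, dl N i) (g : Perm Ω) :
    Xc m g = 0 := by
  rw [Xc_eq]
  refine sum_eq_zero fun κ _ => ite_eq_right_iff.2 fun hκ => ?_
  rw [cnt_eq_zero (fun e => h (by rw [← e, sum_sub_perm hκ])), Nat.cast_zero, mul_zero]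

theorem virt_Xc (m : Fin N → ℕ) : IsGeneralizedCharacter (Perm Ω) (Xc m) := by
  have : (Xc m : Perm Ω → ℂ) = ∑ κ : Perm (Fin N), if ∀ i, (κ i).val ≤ m i then
      (Perm.sign κ : ℤ) • (fun g => (cnt (fun i => m i - κ i) g : ℂ)) else 0 := by
    funext g
    rw [Xc_eq, Finset.sum_apply]
    refine sum_congr rfl fun κ _ => ?_
    split_ifs <;> simp [sg]
  rw [this]
  refine H53.virt_sum _ _ fun κ _ => ?_
  split_ifs
  exacts [H53.virt_zsmul _ (H53.virt_of_char (isCharacter_cnt _)), H53.virt_zero]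

theorem conj_Xc (m : Fin N → ℕ) (g : Perm Ω) : conj (Xc m g) = Xc m g := by
  rw [Xc_eq, map_sum]
  refine sum_congr rfl fun κ _ => ?_
  split_ifs <;> simp [sg]

theorem sum_Xc_mul {l : Fin N → ℕ} (hl : ∑ i, l i = Fintype.card Ω + ∑ i, dl N i)
    (m : Fin N → ℕ) :
    ∑ g : Perm Ω, Xc l g * Xc m g = (Fintype.card Ω).factorial * cf l (alt m) := by
  have h := congrArg (Int.cast : ℤ → ℂ) (H66.alt_sum_natMat l m)
  push_cast at h
  rw [cf_alt]
  erw [← h]
  simp only [Xc_eq, sum_mul_sum]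
  rw [sum_comm, mul_sum]
  refine sum_congr rfl fun κ _ => ?_
  rw [sum_comm, mul_sum]
  refine sum_congr rfl fun κ' _ => ?_
  by_cases h1 : ∀ i, (κ i).val ≤ l i
  · by_cases h2 : ∀ i, (κ' i).val ≤ m i
    · have h3 := congrArg (Nat.cast : ℕ → ℂ) (sum_cnt_mul_cnt (Ω := Ω) (α := fun i => l i - κ i)
        (by have := sum_sub_perm h1; omega) fun i => m i - κ' i)
      push_cast at h3
      simp only [if_pos h1, if_pos h2, if_pos (And.intro h1 h2), mul_left_comm _ (sg κ'), mul_assoc,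
        ← mul_sum, h3]
      simp only [sg]
      ring
    · simp only [if_neg h2, if_neg (fun h : _ ∧ _ => h2 h.2), mul_zero, sum_const_zero]
  · simp only [if_neg h1, if_neg (fun h : _ ∧ _ => h1 h.1), mul_zero, zero_mul, sum_const_zero]

/-- The Frobenius formula. -/
theorem frob {l : Fin N → ℕ} (hl : ∑ i, l i = Fintype.card Ω + ∑ i, dl N i) :
    ∑ g : Perm Ω, Xc l g • (alt (dl N) * pw N g) = ((Fintype.card Ω).factorial : ℂ) • alt l :=
  ext_cf fun m => by
    simp only [map_sum, map_smul, smul_eq_mul]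
    rw [cf_alt_comm, ← sum_Xc_mul hl]
    rfl

theorem ci_Xc {l : Fin N → ℕ} (hl : ∑ i, l i = Fintype.card Ω + ∑ i, dl N i) (m : Fin N → ℕ) :
    classInner (Xc l : Perm Ω → ℂ) (Xc m) = cf l (alt m) := by
  simp only [classInner, conj_Xc, sum_Xc_mul hl, Nat.card_eq_fintype_card, Fintype.card_perm]
  rw [inv_mul_cancel_left₀ (by exact_mod_cast Nat.factorial_ne_zero _)]

/-- `χ` is the Frobenius character of `l` up to sign. -/
def Is (l : Fin N → ℕ) (χ : IrrCharacter (Perm Ω)) : Prop :=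
  Function.Injective l ∧ ∑ i, l i = Fintype.card Ω + ∑ i, dl N i ∧
    ∃ ε : ℂ, ε * ε = 1 ∧ ∀ g, χ.1 g = ε * Xc l g

theorem exists_is {l : Fin N → ℕ} (h : Function.Injective l)
    (hl : ∑ i, l i = Fintype.card Ω + ∑ i, dl N i) : ∃ χ : IrrCharacter (Perm Ω), Is l χ := by
  have h1 : H53.ip (Xc l : Perm Ω → ℂ) (Xc l) = 1 := by
    have := H53.virt_ci_eq (virt_Xc (Ω := Ω) l) (virt_Xc l)
    rw [ci_Xc hl, cf_alt_self h] at this
    exact_mod_cast this.symm
  rcases H53.virt_norm_one (virt_Xc l) h1 with e | e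
  · exact ⟨⟨_, e⟩, h, hl, 1, one_mul _, fun g => (one_mul _).symm⟩
  · exact ⟨⟨_, e⟩, h, hl, -1, by simp, fun g => by simp⟩

theorem Is.comp {l : Fin N → ℕ} {χ : IrrCharacter (Perm Ω)} (h : Is l χ) (σ : Perm (Fin N)) :
    Is (l ∘ σ) χ := by
  obtain ⟨h1, h2, ε, h3, h4⟩ := h
  refine ⟨h1.comp σ.injective, (Equiv.sum_comp σ l).trans h2, ε * sg σ, ?_, fun g => ?_⟩
  · linear_combination sg σ * sg σ * h3 + sg_mul_self σ
  · rw [h4, Xc_comp]
    linear_combination (-ε * Xc l g) * sg_mul_self σ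

theorem Is.ci {l m : Fin N → ℕ} {χ ψ : IrrCharacter (Perm Ω)} (h : Is l χ) (h' : Is m ψ) :
    (∃ σ : Perm (Fin N), m ∘ σ = l) ∨ classInner χ.1 ψ.1 = 0 := by
  obtain ⟨-, h2, ε, -, h4⟩ := h
  obtain ⟨-, -, ε', -, h4'⟩ := h'
  by_cases e : cf l (alt m) = 0
  · right
    rw [show χ.1 = ε • Xc l from funext h4, show ψ.1 = ε' • Xc m from funext h4',
      H5.classInner_smul_left, H5.classInner_smul_right, ci_Xc h2, e, mul_zero, mul_zero]
  · exact .inl (exists_perm_of_cf_alt e)

theorem exists_is' (hN : Fintype.card Ω ≤ N) (χ : IrrCharacter (Perm Ω)) :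
    ∃ l : Fin N → ℕ, StrictMono l ∧ Is l χ := by
  have h0 : ∃ l : Fin N → ℕ, classInner (Xc l) χ.1 ≠ 0 := by
    by_contra! h
    have h1 : alt (dl N) * ∑ g : Perm Ω, conj (χ.1 g) • pw N g = 0 := ext_cf fun m => by
      have := h m
      rw [classInner, mul_eq_zero, or_iff_right (inv_ne_zero H5.natCard_ne_zero)] at this
      simp only [mul_sum, mul_smul_comm, map_sum, map_smul, map_zero, smul_eq_mul, ← this]
      exact sum_congr rfl fun g _ => mul_comm _ _
    rw [mul_eq_zero, or_iff_right fun e => by simpa [e] using cf_alt_self (dl_injective (N := N))]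
      at h1
    obtain ⟨f⟩ := Function.Embedding.nonempty_of_card_le (α := Ω) (β := Fin N) (by simpa)
    have h2 := congrArg (cf (cont f)) h1
    simp only [map_sum, map_smul, cf_pw, map_zero, smul_eq_mul] at h2
    rw [sum_eq_single 1, mul_eq_zero, map_eq_zero, or_iff_right (H5.degree_ne_zero χ.2),
      Nat.cast_eq_zero, cnt, card_eq_zero, filter_eq_empty_iff] at h2
    · exact h2 (mem_univ (f : Ω → Fin N)) ⟨fun _ => rfl, rfl⟩
    · intro g _ hg
      rw [cnt, card_eq_zero.2, Nat.cast_zero, mul_zero]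
      refine filter_eq_empty_iff.2 fun u _ hu => hg (Equiv.ext fun a => ?_)
      obtain ⟨ρ, hρ⟩ := H66.exists_perm_of_card_fiber_eq u f fun x => congrFun hu.2 x
      exact ρ.injective (f.injective (by rw [hρ, hρ, hu.1]; rfl))
    · simp
  obtain ⟨l, hl⟩ := h0
  have h1 : Function.Injective l := by
    by_contra e
    exact hl (by rw [show Xc l = 0 from funext fun g => (anti_P g).cf_eq_zero e]; simp)
  have h2 : ∑ i, l i = Fintype.card Ω + ∑ i, dl N i := by
    by_contra e
    exact hl (by rw [show Xc l = 0 from funext fun g => Xc_eq_zero e g]; simp)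
  obtain ⟨ψ, hψ⟩ := exists_is h1 h2
  obtain ⟨σ, hσ⟩ := exists_sort h1
  refine ⟨_, hσ, Is.comp ?_ σ⟩
  obtain ⟨-, -, ε, h3, h4⟩ := id hψ
  have : Xc l = ε • ψ.1 := funext fun g => by
    rw [Pi.smul_apply, h4, smul_eq_mul, ← mul_assoc, h3, one_mul]
  rw [this, H5.classInner_smul_left] at hl
  rwa [← Subtype.ext (H5.eq_of_classInner_irr_ne_zero ψ.2 χ.2 (right_ne_zero_of_mul hl))]

theorem exists_parts {μ : Multiset ℕ} (h0 : ∀ k ∈ μ, 0 < k) (hs : μ.sum = Fintype.card Ω) :
    ∃ g : Perm Ω, g.partition.parts = μ := by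
  have h1 := Multiset.filter_add_not (fun k => 2 ≤ k) μ
  have h2 : μ.filter (fun k => ¬ 2 ≤ k) = Multiset.replicate (μ.filter fun k => ¬ 2 ≤ k).card 1 :=
    Multiset.eq_replicate.2 ⟨rfl, fun k hk => by
      have := Multiset.mem_filter.1 hk
      have := h0 k this.1
      omega⟩
  have h3 := congrArg Multiset.sum h1
  rw [Multiset.sum_add, h2, Multiset.sum_replicate, smul_eq_mul, mul_one] at h3
  obtain ⟨g, hg⟩ := (Perm.exists_with_cycleType_iff (α := Ω) (m := μ.filter fun k => 2 ≤ k)).2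
    ⟨by omega, fun k hk => (Multiset.mem_filter.1 hk).2⟩
  refine ⟨g, ?_⟩
  rw [Perm.parts_partition, ← Perm.sum_cycleType, hg]
  conv_rhs => rw [← h1, h2]
  congr 2
  omega

/-- Adding a rim hook gives a class function supported on elements with a cycle of that length. -/
theorem sum_Xc_add (hN : Fintype.card Ω ≤ N) {k : ℕ} (hk : 0 < k) {x : Perm Ω}
    (hx : k ∉ x.partition.parts) (m : Fin N → ℕ) : ∑ i, Xc (m + Pi.single i k) x = 0 := by
  classical
  have hs : ∀ i, ∑ j, (m + Pi.single i k : Fin N → ℕ) j = ∑ j, m j + k := fun i => by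
    simp [sum_add_distrib]
  by_cases h : ∑ j, m j + k = Fintype.card Ω + ∑ i, dl N i
  swap
  · exact sum_eq_zero fun i _ => Xc_eq_zero (by rwa [hs]) x
  have hF : IsClassFunction (Perm Ω) (∑ i, Xc (m + Pi.single i k)) :=
    H53.virt_classFun (H53.virt_sum _ _ fun i _ => virt_Xc _)
  have key : ∀ l : Fin N → ℕ, classInner (∑ i, Xc (m + Pi.single i k) : Perm Ω → ℂ) (Xc l) =
      cf l (ps N k * alt m) := fun l => by
    rw [H5.classInner_sum_left, ps_mul_alt, map_sum]
    exact sum_congr rfl fun i _ => by rw [ci_Xc (by rwa [hs]), cf_alt_comm]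
  rw [← Finset.sum_apply, H5.classFunction_apply_eq_sum hF]
  by_cases hm : Function.Injective m
  swap
  · refine sum_eq_zero fun χ _ => ?_
    obtain ⟨l, -, -, -, ε, -, h4⟩ := exists_is' hN χ
    rw [show χ.1 = ε • Xc l from funext h4, H5.classInner_smul_right, key, alt_eq_zero hm]
    simp
  have h1 := sum_dl_le hm
  have h2 := frob (Ω := Fin (Fintype.card Ω - k)) (l := m) (by rw [Fintype.card_fin]; omega)
  have h3 : ∀ g : Perm (Fin (Fintype.card Ω - k)), ∃ y : Perm Ω,
      y.partition.parts = k ::ₘ g.partition.parts := fun g => exists_parts (fun j hj => by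
    rcases Multiset.mem_cons.1 hj with rfl | hj
    exacts [hk, g.partition.parts_pos hj]) (by
      rw [Multiset.sum_cons, g.partition.parts_sum, Fintype.card_fin]; omega)
  choose y hy using h3
  refine mul_left_cancel₀ (a := ((Fintype.card (Fin (Fintype.card Ω - k))).factorial : ℂ))
    (by exact_mod_cast Nat.factorial_ne_zero _) ?_
  rw [mul_zero, mul_sum, ← sum_eq_zero (s := univ) fun g _ => mul_eq_zero_of_right (Xc m g)
    (H5.sum_irr_mul_conj_of_not_isConj (g := x) (h := y g) fun e => hx (by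
      rw [Perm.partition_eq_of_isConj.1 e, hy]; exact Multiset.mem_cons_self _ _))]
  simp only [mul_sum]
  rw [sum_comm]
  refine sum_congr rfl fun χ _ => ?_
  obtain ⟨l, -, -, -, ε, -, h4⟩ := exists_is' hN χ
  have h5 := congrArg (fun P => cf l (ps N k * P)) h2
  simp only [mul_smul_comm, map_smul, mul_sum, map_sum, smul_eq_mul] at h5
  conv_lhs => rw [show χ.1 = ε • Xc l from funext h4, H5.classInner_smul_right, key,
    mul_assoc (conj ε), mul_left_comm, ← mul_assoc _ (cf l _), ← h5, sum_mul, mul_sum]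
  refine sum_congr rfl fun g _ => ?_
  have h6 : Xc l (y g) = cf l (ps N k * (alt (dl N) * pw N g)) := by
    rw [Xc, pw_eq (y g), hy, PT_cons, ← pw_eq, mul_left_comm]
  rw [h4 (y g), map_mul conj, conj_Xc, h6, h4 x]
  simp only [Pi.smul_apply, smul_eq_mul]
  ring

end Cfsg.Agent.H87.Sn
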