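import Cfsg.Agent.H87.SnB

/-! Residues, cores and weights of bead configurations. -/

set_option autoImplicit false

namespace Cfsg.Agent.H87.Sn

open Equiv MvPolynomial Finset
open scoped ComplexConjugate

variable {N : ℕ} {Ω : Type*} [Fintype Ω] [DecidableEq Ω] {p : ℕ} {ρ m l : Fin N → ℕ}

/-- `m` has residue pattern `ρ`. -/
def Pat (p : ℕ) (ρ m : Fin N → ℕ) : Prop := ∀ i, m i % p = ρ i

/-- `m` is increasing on each runner. -/
def Std (ρ m : Fin N → ℕ) : Prop := ∀ i j, i < j → ρ i = ρ j → m i < m j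

/-- The core configuration with a given residue pattern. -/
def core (p : ℕ) (ρ : Fin N → ℕ) (i : Fin N) : ℕ := ρ i + p * #{j | j < i ∧ ρ j = ρ i}

/-- Number of beads on a runner. -/
def rc (ρ : Fin N → ℕ) (r : ℕ) : ℕ := #{j | ρ j = r}

theorem pat_core (h : ∀ i, ρ i < p) : Pat p ρ (core p ρ) := fun i => by
  rw [core, Nat.add_mul_mod_self_left, Nat.mod_eq_of_lt (h i)]

theorem core_div (h : ∀ i, ρ i < p) (i : Fin N) :
    core p ρ i / p = #{j | j < i ∧ ρ j = ρ i} := by
  rw [core, Nat.add_mul_div_left _ _ (Nat.zero_lt_of_lt (h i)), Nat.div_eq_of_lt (h i), zero_add]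

theorem card_lt_lt {i j : Fin N} (hij : i < j) (e : ρ i = ρ j) :
    #{k | k < i ∧ ρ k = ρ i} < #{k | k < j ∧ ρ k = ρ j} :=
  card_lt_card ⟨fun k hk => by
    simp only [mem_filter, mem_univ, true_and] at hk ⊢
    exact ⟨hk.1.trans hij, hk.2.trans e⟩, fun h => by
    have := @h i (by simp [hij, e])
    simp at this⟩

theorem std_core (hp : 0 < p) : Std ρ (core p ρ) := fun i j hij e => by
  have := card_lt_lt hij e
  rw [core, core, ← e] at *
  nlinarith

theorem Std.injective (hs : Std ρ m) (hm : Pat p ρ m) : Function.Injective m := fun i j e => by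
  have e' : ρ i = ρ j := by rw [← hm, ← hm, e]
  rcases lt_trichotomy i j with h | h | h
  exacts [absurd e (hs i j h e').ne, h, absurd e (hs j i h e'.symm).ne']

theorem core_injective (h : ∀ i, ρ i < p) : Function.Injective (core p ρ) := fun i j =>
  (std_core (Nat.zero_lt_of_lt (h i))).injective (pat_core h) (a₁ := i) (a₂ := j)

theorem Pat.eq (hm : Pat p ρ m) (i : Fin N) : m i = ρ i + p * (m i / p) := by
  rw [← hm i, Nat.mod_add_div]

theorem Pat.div_lt (hm : Pat p ρ m) {i j : Fin N} (e : ρ i = ρ j) (h : m i < m j) :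
    m i / p < m j / p := by
  rw [hm.eq i, hm.eq j, e] at h
  exact lt_of_mul_lt_mul_left (Nat.lt_of_add_lt_add_left h) (Nat.zero_le _)

theorem Std.core_le (hs : Std ρ m) (hm : Pat p ρ m) (i : Fin N) : core p ρ i ≤ m i := by
  rw [core, hm.eq i]
  refine Nat.add_le_add_left (Nat.mul_le_mul_left _ ?_) _
  rw [← card_range (m i / p)]
  refine card_le_card_of_injOn (fun j => m j / p) (fun j hj => ?_) fun j hj k hk e => ?_
  · simp only [coe_filter, mem_univ, true_and, Set.mem_ofPred_eq] at hj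
    exact mem_coe.2 (mem_range.2 (hm.div_lt hj.2 (hs j i hj.1 hj.2)))
  · simp only [coe_filter, mem_univ, true_and, Set.mem_ofPred_eq] at hj hk
    refine hs.injective hm ?_
    rw [hm.eq j, hm.eq k, hj.2, hk.2, show m j / p = m k / p from e]

theorem mem_range_core (h : ∀ i, ρ i < p) (v : ℕ) :
    v ∈ Set.range (core p ρ) ↔ v / p < rc ρ (v % p) := by
  have h1 : ∀ i, core p ρ i / p < rc ρ (ρ i) := fun i => by
    rw [core_div h]
    refine card_lt_card ⟨fun k hk => ?_, fun e => ?_⟩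
    · simp only [mem_filter, mem_univ, true_and] at hk ⊢
      exact hk.2
    · have := @e i (by simp)
      simp at this
  refine ⟨by rintro ⟨i, rfl⟩; rw [pat_core h]; exact h1 i, fun hv => ?_⟩
  obtain ⟨i, hi, e⟩ := surj_on_of_inj_on_of_card_le (s := ({j | ρ j = v % p} : Finset _))
    (t := range (rc ρ (v % p))) (fun j _ => core p ρ j / p)
    (fun j hj => mem_range.2 ((mem_filter.1 hj).2 ▸ h1 j)) (fun j k hj hk e => core_injective h (by
      rw [(pat_core h).eq j, (pat_core h).eq k, (mem_filter.1 hj).2, (mem_filter.1 hk).2, e]))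
    (card_range _).le _ (mem_range.2 hv)
  exact ⟨i, by rw [(pat_core h).eq i, (mem_filter.1 hi).2, ← e, Nat.mod_add_div]⟩

theorem exists_perm_of_range {u v : Fin N → ℕ} (hu : Function.Injective u)
    (hv : Function.Injective v) (h : Set.range u = Set.range v) :
    ∃ σ : Perm (Fin N), u = v ∘ σ :=
  ⟨(ofInjective u hu).trans ((setCongr h).trans (ofInjective v hv).symm), funext fun i => by
    simp [apply_ofInjective_symm hv]⟩

theorem rc_comp (τ : Perm (Fin N)) (r : ℕ) : rc (ρ ∘ τ) r = rc ρ r :=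
  Finset.card_equiv τ (by simp)

theorem core_perm (h : ∀ i, ρ i < p) (τ : Perm (Fin N)) :
    ∃ σ : Perm (Fin N), core p (ρ ∘ τ) = core p ρ ∘ σ :=
  exists_perm_of_range (core_injective fun i => h _) (core_injective h) (Set.ext fun v => by
    rw [mem_range_core h, mem_range_core (ρ := ρ ∘ τ) fun i => h _, rc_comp])

theorem Pat.comp (hm : Pat p ρ m) (τ : Perm (Fin N)) : Pat p (ρ ∘ τ) (m ∘ τ) := fun _ => hm _

theorem std_of_strictMono (h : StrictMono m) : Std ρ m := fun _ _ hij _ => h hij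

theorem sum_core_comp (h : ∀ i, ρ i < p) (τ : Perm (Fin N)) :
    ∑ i, core p (ρ ∘ τ) i = ∑ i, core p ρ i := by
  obtain ⟨σ, e⟩ := core_perm h τ
  rw [e]
  exact Equiv.sum_comp σ _

theorem Std.eq_core (hs : Std ρ m) (hm : Pat p ρ m) (e : ∑ i, m i ≤ ∑ i, core p ρ i) :
    m = core p ρ := funext fun i => ((sum_eq_sum_iff_of_le fun i _ => hs.core_le hm i).1
  ((sum_le_sum fun i _ => hs.core_le hm i).antisymm e) i (mem_univ _)).symm

theorem Pat.exists_wt (h : ∀ i, ρ i < p) (hm : Pat p ρ m) (hi : Function.Injective m) :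
    ∃ w, ∑ i, m i = ∑ i, core p ρ i + p * w := by
  obtain ⟨τ, hτ⟩ := exists_sort hi
  have h1 := (std_of_strictMono hτ).core_le (hm.comp τ)
  have h2 : ∀ i, p ∣ (m ∘ τ) i - core p (ρ ∘ τ) i := fun i =>
    (Nat.modEq_iff_dvd' (h1 i)).1 ((pat_core (fun i => h _) i).trans (hm.comp τ i).symm)
  obtain ⟨w, hw⟩ := dvd_sum (s := univ) fun i _ => h2 i
  refine ⟨w, ?_⟩
  rw [← hw, ← sum_core_comp h τ, ← sum_add_distrib, ← Equiv.sum_comp τ m]
  exact sum_congr rfl fun i _ => (Nat.add_sub_cancel' (h1 i)).symm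

theorem Pat.eq_core (h : ∀ i, ρ i < p) (hm : Pat p ρ m) (hi : Function.Injective m)
    (e : ∑ i, m i ≤ ∑ i, core p ρ i) :
    ∃ σ : Perm (Fin N), (∀ i, ρ (σ i) = ρ i) ∧ m = core p ρ ∘ σ := by
  obtain ⟨τ, hτ⟩ := exists_sort hi
  obtain ⟨σ, hσ⟩ := core_perm h τ
  have h1 := (std_of_strictMono hτ).eq_core (hm.comp τ) (by
    rw [sum_core_comp h]; exact (Equiv.sum_comp τ m).trans_le e)
  have h2 : m = core p ρ ∘ (σ * τ⁻¹ : Perm (Fin N)) := funext fun i => by
    simpa using congrFun (h1.trans hσ) (τ⁻¹ i)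
  exact ⟨_, fun i => by rw [← pat_core h, ← hm i, h2]; rfl, h2⟩

theorem Pat.sub (hm : Pat p ρ m) {i : Fin N} {k : ℕ} (hk : p * k ≤ m i) :
    Pat p ρ (m - Pi.single i (p * k)) := fun j => by
  rcases eq_or_ne j i with rfl | e
  · obtain ⟨t, ht⟩ := Nat.exists_eq_add_of_le hk
    simp only [Pi.sub_apply, Pi.single_eq_same, ← hm j, ht, Nat.add_sub_cancel_left,
      Nat.mul_add_mod]
  · simpa [e] using hm j

theorem sum_sub_single {i : Fin N} {k : ℕ} (hk : k ≤ m i) :
    ∑ j, (m - Pi.single i k : Fin N → ℕ) j + k = ∑ j, m j := by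
  conv_lhs => enter [2]; rw [← Finset.sum_pi_single' i k univ |>.trans (if_pos (mem_univ i))]
  rw [← sum_add_distrib]
  refine sum_congr rfl fun j _ => ?_
  rcases eq_or_ne j i with rfl | e
  · simpa using Nat.sub_add_cancel hk
  · simp [e]

theorem Std.sub (hs : Std ρ m) (hm : Pat p ρ m) {i : Fin N} (hk : p ≤ m i)
    (hi : Function.Injective (m - Pi.single i p : Fin N → ℕ)) : Std ρ (m - Pi.single i p) := by
  intro j k hjk e
  have h1 := hs j k hjk e
  rcases eq_or_ne k i with rfl | e'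
  · have h2 := hm.div_lt e h1
    have h3 := hi.ne hjk.ne
    have h4 := hm.eq j
    have h5 := hm.eq k
    have h6 := Nat.mul_le_mul_left p (Nat.succ_le_of_lt h2)
    simp only [Pi.sub_apply, Pi.single_eq_same, Pi.single_eq_of_ne hjk.ne, Nat.succ_eq_add_one,
      mul_add, mul_one] at h3 h6 ⊢
    omega
  · simp only [Pi.sub_apply, Pi.single_eq_of_ne e']
    omega

/-- Removing all the `p`-hooks. -/
theorem nv (hp : 0 < p) (w : ℕ) : ∀ m : Fin N → ℕ, Pat p ρ m →
    (Function.Injective m → Std ρ m) → ∑ i, m i = ∑ i, core p ρ i + p * w →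
    ∃ c : ℕ, (Function.Injective m → 0 < c) ∧
      ∀ P : PR N, Anti P → cf m (ps N p ^ w * P) = c * cf (core p ρ) P := by
  have hA : ∀ w (P : PR N), Anti P → Anti (ps N p ^ w * P) := fun w P hP =>
    hP.mul' (PT_replicate (N := N) w p ▸ symm_PT _)
  induction w with
  | zero =>
    intro m hm hs e
    by_cases hi : Function.Injective m
    · exact ⟨1, fun _ => one_pos, fun P _ => by rw [(hs hi).eq_core hm e.le]; simp⟩
    · exact ⟨0, fun e => (hi e).elim, fun P hP => by simp [hP.cf_eq_zero hi]⟩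
  | succ w ih =>
    intro m hm hs e
    by_cases hi : Function.Injective m
    swap
    · exact ⟨0, fun e => (hi e).elim, fun P hP => by simp [(hA _ P hP).cf_eq_zero hi]⟩
    replace hs := hs hi
    have h1 : ∀ i, ∃ c : ℕ, (p ≤ m i → Function.Injective (m - Pi.single i p : Fin N → ℕ) →
        0 < c) ∧ ∀ P : PR N, Anti P → (if p ≤ m i then cf (m - Pi.single i p) (ps N p ^ w * P)
          else 0) = c * cf (core p ρ) P := fun i => by
      by_cases hk : p ≤ m i
      · obtain ⟨c, h1, h2⟩ := ih _ (by simpa using hm.sub (k := 1) (by simpa using hk))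
          (hs.sub hm hk) (by have := sum_sub_single hk; rw [mul_add] at e; omega)
        exact ⟨c, fun _ => h1, fun P hP => by rw [if_pos hk, h2 P hP]⟩
      · exact ⟨0, fun e => (hk e).elim, fun P _ => by simp [hk]⟩
    choose c h1 h2 using h1
    refine ⟨∑ i, c i, fun _ => ?_, fun P hP => ?_⟩
    · have h3 : ({i | core p ρ i < m i} : Finset (Fin N)).Nonempty := by
        by_contra h3
        simp only [Finset.Nonempty, mem_filter, mem_univ, true_and, not_exists, not_lt] at h3
        have := sum_le_sum (s := univ) fun i _ => h3 i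
        nlinarith
      obtain ⟨i, h4, h5⟩ := exists_min_image _ id h3
      simp only [mem_filter, mem_univ, true_and, id] at h4 h5
      have h6 : core p ρ i + p ≤ m i := by
        rw [hm.eq i, core] at h4 ⊢
        have := Nat.mul_le_mul_left p (Nat.succ_le_of_lt
          (lt_of_mul_lt_mul_left (Nat.lt_of_add_lt_add_left h4) (Nat.zero_le _)))
        rw [Nat.mul_succ] at this
        omega
      refine (h1 i (by omega) (Std.injective (fun j k hjk e' => ?_)
        (by simpa using hm.sub (k := 1) (i := i) (by omega)))).trans_le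
          (single_le_sum (fun _ _ => Nat.zero_le _) (mem_univ i))
      have h7 := hs j k hjk e'
      rcases eq_or_ne k i with rfl | e''
      · have h8 := std_core hp j k hjk e'
        have h9 : ¬ core p ρ j < m j := fun e => (h5 j e).not_gt hjk
        simp only [Pi.sub_apply, Pi.single_eq_same, Pi.single_eq_of_ne hjk.ne]
        omega
      · simp only [Pi.sub_apply, Pi.single_eq_of_ne e'']
        omega
    · rw [pow_succ', mul_assoc, cf_ps_mul, Nat.cast_sum, sum_mul]
      exact sum_congr rfl fun i _ => h2 i P hP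

theorem nv' (hp : 0 < p) (h : ∀ i, ρ i < p) {w : ℕ} (hm : Pat p ρ m) (hi : Function.Injective m)
    (e : ∑ i, m i = ∑ i, core p ρ i + p * w) :
    ∃ c : ℂ, c ≠ 0 ∧ ∀ P : PR N, Anti P → cf m (ps N p ^ w * P) = c * cf (core p ρ) P := by
  obtain ⟨τ, hτ⟩ := exists_sort hi
  obtain ⟨σ, hσ⟩ := core_perm h τ
  obtain ⟨c, h1, h2⟩ := nv hp (ρ := ρ ∘ τ) w _ (hm.comp τ)
    (fun _ => std_of_strictMono hτ) (by rw [sum_core_comp h, ← e]; exact Equiv.sum_comp τ m)
  refine ⟨sg τ * (c * sg σ), mul_ne_zero (sg_ne_zero _) (mul_ne_zero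
    (Nat.cast_ne_zero.2 (h1 hτ.injective).ne') (sg_ne_zero _)), fun P hP => ?_⟩
  have h3 := h2 P hP
  rw [(hP.mul' (PT_replicate (N := N) w p ▸ symm_PT _)).cf_comp, hσ, hP.cf_comp] at h3
  linear_combination sg τ * h3 - cf m (ps N p ^ w * P) * sg_mul_self τ

theorem dvd_orderOf_iff (hp : p.Prime) (g : Perm Ω) :
    p ∣ orderOf g ↔ ∃ k ∈ g.partition.parts, p ∣ k := by
  rw [Perm.parts_partition]
  refine ⟨fun h => ?_, fun ⟨k, hk, e⟩ => ?_⟩
  · by_contra! e
    refine hp.coprime_iff_not_dvd.1 ?_ h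
    rw [← Perm.lcm_cycleType]
    refine Nat.Coprime.coprime_dvd_right (Multiset.lcm_dvd.2 fun b hb => Multiset.dvd_prod hb) ?_
    exact (Nat.coprime_multiset_prod_right_iff).2 fun b hb =>
      hp.coprime_iff_not_dvd.2 (e b (Multiset.mem_add.2 (.inl hb)))
  · rcases Multiset.mem_add.1 hk with hk | hk
    · exact e.trans (Perm.dvd_of_mem_cycleType hk)
    · exact absurd (Nat.dvd_one.1 (Multiset.eq_of_mem_replicate hk ▸ e)) hp.one_lt.ne'

/-- Same residue content. -/
def SameC (p : ℕ) (ρ m : Fin N → ℕ) : Prop := ∃ σ : Perm (Fin N), Pat p ρ (m ∘ σ)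

theorem sameC_comp (σ : Perm (Fin N)) : SameC p ρ (m ∘ σ) ↔ SameC p ρ m :=
  ⟨fun ⟨τ, h⟩ => ⟨σ * τ, h⟩, fun ⟨τ, h⟩ => ⟨σ⁻¹ * τ, fun i => by simpa using h i⟩⟩

theorem sameC_add {k : ℕ} (hk : p ∣ k) (i : Fin N) :
    SameC p ρ (m + Pi.single i k) ↔ SameC p ρ m := by
  obtain ⟨k, rfl⟩ := hk
  refine exists_congr fun σ => forall_congr' fun j => ?_
  rcases eq_or_ne (σ j) i with e | e <;> simp [e]

open Classical in
/-- The reproducing kernel of a content class. -/
noncomputable def ker (p : ℕ) (ρ : Fin N → ℕ) (x y : Perm Ω) : ℂ :=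
  ∑ m ∈ Nat.antidiagonalTuple N (Fintype.card Ω + ∑ i, dl N i) with SameC p ρ m, Xc m x * Xc m y

theorem ker_comm (x y : Perm Ω) : ker p ρ x y = ker p ρ y x :=
  sum_congr rfl fun _ _ => mul_comm _ _

theorem ker_eq_zero (hp : p.Prime) (hN : Fintype.card Ω ≤ N) {x y : Perm Ω}
    (hx : ¬ p ∣ orderOf x) (hy : p ∣ orderOf y) : ker p ρ x y = 0 := by
  classical
  obtain ⟨k, hk, e⟩ := (dvd_orderOf_iff hp y).1 hy
  obtain ⟨μ, hμ⟩ := Multiset.exists_cons_of_mem hk
  have hk0 := y.partition.parts_pos hk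
  have hkn : k ≤ Fintype.card Ω := y.partition.parts_sum ▸ Multiset.single_le_sum (by simp) k hk
  have h1 : ∀ m : Fin N → ℕ, Xc m y = ∑ i, if k ≤ m i then
      cf (m - Pi.single i k) (alt (dl N) * PT N μ) else 0 := fun m => by
    rw [Xc, pw_eq, hμ, PT_cons, mul_left_comm, cf_ps_mul]
  simp only [ker, h1, mul_sum]
  refine sum_comm.trans (Eq.trans ?_ (sum_eq_zero (s := {m ∈ Nat.antidiagonalTuple N
    (Fintype.card Ω - k + ∑ i, dl N i) | SameC p ρ m}) fun m _ => mul_eq_zero_of_left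
      (sum_Xc_add hN hk0 (x := x) (fun h => hx ((dvd_orderOf_iff hp x).2 ⟨k, h, e⟩)) m)
      (cf m (alt (dl N) * PT N μ))))
  simp only [sum_mul]
  refine (sum_congr rfl fun i _ => ?_).trans sum_comm
  simp only [mul_ite, mul_zero]
  rw [← sum_filter]
  have h2 : ∀ m : Fin N → ℕ, k ≤ m i → m - Pi.single i k + Pi.single i k = m := fun m h =>
    funext fun j => by rcases eq_or_ne j i with rfl | e <;> simp [*]
  refine sum_nbij' (fun m => m - Pi.single i k) (fun m => m + Pi.single i k) (fun m hm => ?_)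
    (fun m hm => ?_) (fun m hm => h2 m (mem_filter.1 hm).2) (fun m _ => by simp)
    fun m hm => by rw [h2 m (mem_filter.1 hm).2]
  · simp only [mem_filter, Nat.mem_antidiagonalTuple] at hm ⊢
    have := sum_sub_single hm.2
    exact ⟨by omega, (sameC_add e i).1 ((h2 m hm.2).symm ▸ hm.1.2)⟩
  · simp only [mem_filter, Nat.mem_antidiagonalTuple] at hm ⊢
    refine ⟨⟨?_, (sameC_add e i).2 hm.2⟩, by simp⟩
    simp only [Pi.add_apply, sum_add_distrib, hm.1, Finset.sum_pi_single', mem_univ, if_true]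
    omega

open Classical in
theorem sum_ker_mul (hl : ∑ i, l i = Fintype.card Ω + ∑ i, dl N i) (x : Perm Ω) :
    ∑ g, ker p ρ x g * Xc l g = if SameC p ρ l then
      (Fintype.card Ω).factorial * (N.factorial * Xc l x) else 0 := by
  simp only [ker, sum_mul, mul_assoc]
  rw [sum_comm, sum_congr rfl fun m hm => by
    rw [← mul_sum, sum_Xc_mul (Nat.mem_antidiagonalTuple.1 (mem_filter.1 hm).1), cf_alt]]
  simp only [mul_sum, mul_ite, mul_zero]
  rw [sum_comm]
  simp only [sum_ite_eq, mem_filter, Nat.mem_antidiagonalTuple, sameC_comp, Xc_comp,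
    Function.comp_apply, Equiv.sum_comp _ l, hl, true_and]
  split_ifs
  · rw [sum_congr rfl fun σ _ => show _ = (Fintype.card Ω).factorial * Xc l x from by
      linear_combination (Fintype.card Ω).factorial * Xc l x * sg_mul_self σ]
    simp [Fintype.card_perm]
    ring
  · simp

/-- Characters with different contents are orthogonal on the regular elements. -/
theorem sum_reg_eq_zero (hp : p.Prime) (hN : Fintype.card Ω ≤ N)
    (hl : ∑ i, l i = Fintype.card Ω + ∑ i, dl N i) (hm : ∑ i, m i = Fintype.card Ω + ∑ i, dl N i)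
    (h1 : SameC p ρ l) (h2 : ¬ SameC p ρ m) :
    ∑ x : Perm Ω with ¬ p ∣ orderOf x, Xc m x * Xc l x = 0 := by
  have h3 : ∀ (x : Perm Ω) (f : Perm Ω → ℂ), ¬ p ∣ orderOf x → ∑ g, ker p ρ x g * f g =
      ∑ g with ¬ p ∣ orderOf g, ker p ρ x g * f g := fun x f hx => by
    rw [sum_filter]
    refine sum_congr rfl fun g _ => ?_
    split_ifs with hg
    exacts [by rw [ker_eq_zero hp hN hx hg, zero_mul], rfl]
  refine mul_left_cancel₀ (a := ((Fintype.card Ω).factorial * N.factorial : ℂ)) (by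
    exact_mod_cast (mul_pos (Nat.factorial_pos _) (Nat.factorial_pos _)).ne') ?_
  rw [mul_zero, mul_sum, sum_congr rfl fun x hx => show _ = ∑ g with ¬ p ∣ orderOf g,
    Xc l g * (ker p ρ g x * Xc m x) from by
      rw [mul_left_comm, mul_assoc, ← if_pos h1 (t := (_ * (_ * Xc l x))) (e := 0),
        ← sum_ker_mul hl, h3 x _ (mem_filter.1 hx).2, mul_sum]
      exact sum_congr rfl fun g _ => by rw [ker_comm]; ring, sum_comm]
  refine sum_eq_zero fun g hg => ?_
  rw [← mul_sum, ← h3 g _ (mem_filter.1 hg).2, sum_ker_mul hm, if_neg h2, mul_zero]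

end Cfsg.Agent.H87.Sn
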