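import Cfsg.Agent.H87.SnC
import Cfsg.Agent.H86.Sec
import Cfsg.Agent.H33.Height
import Cfsg.Agent.S4653
import Cfsg.Agent.S0917

/-! The Nakayama conjecture: blocks of symmetric groups are the core classes. -/

set_option autoImplicit false

namespace Cfsg.Agent.H87.Sn

open Equiv MvPolynomial Finset
open scoped ComplexConjugate

variable {N : ℕ} {Ω : Type*} [Fintype Ω] [DecidableEq Ω] {p : ℕ} {ρ m l : Fin N → ℕ}

/-- The group generated by the cycles of `x`. -/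
def Ex (x : Perm Ω) : Subgroup (Perm Ω) where
  carrier := {g | Commute g x ∧ ∀ a, x.SameCycle a (g a)}
  one_mem' := ⟨.one_left _, fun _ => .rfl⟩
  mul_mem' ha hb := ⟨ha.1.mul_left hb.1, fun a => (hb.2 a).trans (ha.2 _)⟩
  inv_mem' {g} ha := ⟨ha.1.inv_left, fun a => by simpa using (ha.2 (g⁻¹ a)).symm⟩

omit [Fintype Ω] [DecidableEq Ω] in
theorem pow_apply_eq {x g : Perm Ω} (h : Commute g x) (hx : x ^ p = 1) {a : Ω}
    (ha : x.SameCycle a (g a)) : (g ^ p) a = a := by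
  obtain ⟨k, hk⟩ := ha
  have : ∀ j : ℕ, (g ^ j) a = ((x ^ k) ^ j) a := fun j => by
    induction j with
    | zero => rfl
    | succ j ih =>
      rw [pow_succ', Perm.mul_apply, ih, ← Perm.mul_apply, ((h.zpow_right k).pow_right j).eq,
        Perm.mul_apply, ← hk, pow_succ, Perm.mul_apply]
  rw [this, ← zpow_natCast, ← zpow_mul, mul_comm, zpow_mul, zpow_natCast, hx, one_zpow]
  rfl

omit [Fintype Ω] [DecidableEq Ω] in
theorem isPGroup_Ex {x : Perm Ω} (hx : x ^ p = 1) : IsPGroup p (Ex x) := fun g =>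
  ⟨1, Subtype.ext (Equiv.ext fun a => by simpa using pow_apply_eq g.2.1 hx (g.2.2 a))⟩

omit [Fintype Ω] [DecidableEq Ω] in
theorem Ex_le (x : Perm Ω) : Ex x ≤ Subgroup.centralizer {x} := fun _ h =>
  Subgroup.mem_centralizer_singleton_iff.2 h.1

omit [Fintype Ω] [DecidableEq Ω] in
theorem normal_Ex (x : Perm Ω) : ((Ex x).subgroupOf (Subgroup.centralizer {x})).Normal :=
  ⟨fun g hg c => by
    have hc : Commute c.1 x := Subgroup.mem_centralizer_singleton_iff.1 c.2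
    refine ⟨(hc.mul_left hg.1).mul_left hc.inv_left, fun a => ?_⟩
    obtain ⟨k, hk⟩ := hg.2 (c.1⁻¹ a)
    refine ⟨k, ?_⟩
    change _ = c.1 (g.1 (c.1⁻¹ a))
    rw [← show _ = g.1 (c.1⁻¹ a) from hk, ← Perm.mul_apply, (hc.zpow_right k).eq]
    simp⟩

theorem apply_eq_of_mem_Ce (hp : p.Prime) {x y : Perm Ω} (hx : x ^ p = 1) (hy : y ∈ Ce (Ex x))
    (hr : ¬ p ∣ orderOf y) : Perm.Disjoint y x := fun a => by
  refine or_iff_not_imp_right.2 fun ha => ?_
  have h1 : Commute x y := mem_Ce.1 hy x ⟨.refl _, fun _ => Perm.sameCycle_apply_right.2 .rfl⟩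
  have h2 : Commute (x.cycleOf a) y := mem_Ce.1 hy _ ⟨Perm.self_mem_cycle_factors_commute
    (Perm.cycleOf_mem_cycleFactorsFinset_iff.2 (Perm.mem_support.2 ha)), fun b => by
      rw [Perm.cycleOf_apply]
      split_ifs
      exacts [Perm.sameCycle_apply_right.2 .rfl, .rfl]⟩
  have h3 : x.SameCycle a (y a) := by
    refine (Perm.mem_support_cycleOf_iff.1 (Perm.mem_support.2 fun e => ha (y.injective ?_))).1
    rw [← e, ← Perm.mul_apply (x.cycleOf a), h2.eq, Perm.mul_apply, Perm.cycleOf_apply_self]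
  have h4 := pow_apply_eq h1.symm hx h3
  obtain ⟨k, hk⟩ := (mem_zpowers_pow_iff (g := y) (k := p)).2 ((hp.coprime_iff_not_dvd).2 hr)
  rw [← hk]
  exact Perm.zpow_apply_eq_self_of_apply_eq_self h4 k

theorem cf_ne_zero (h : Function.Injective l) {j : ℕ} (hl : ∑ i, l i = j + ∑ i, dl N i) :
    cf l (alt (dl N) * ps N 1 ^ j) ≠ 0 := by
  obtain ⟨χ, -, -, ε, -, h4⟩ := exists_is (Ω := Fin j) h (by simpa using hl)
  have := H5.degree_ne_zero χ.2
  rw [h4, Xc, pw_eq, Perm.parts_partition] at this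
  simpa [PT_replicate] using right_ne_zero_of_mul this

variable {M : Ideal AlgInt} {B : Set (IrrCharacter (Perm Ω))} {w : ℕ}

theorem sameC_of_mem (hM : IsPModular p M) (hN : Fintype.card Ω ≤ N) (hB : IsPBlock M B)
    {χ ψ : IrrCharacter (Perm Ω)} (hχ : χ ∈ B) (hψ : ψ ∈ B) (h0 : blockHeight p B χ.1 = 0)
    (hl : Is l χ) (hm : Is m ψ) : SameC p ρ l ↔ SameC p ρ m := by
  have := hM.2.1
  have h1 := H33.om_cReg_notMem_of_height_zero hM hB hχ h0 hψ
  obtain ⟨-, h2, ε, -, h4⟩ := hl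
  obtain ⟨-, h2', ε', -, h4'⟩ := hm
  have h3 : ∑ x : Perm Ω with ¬ p ∣ orderOf x, Xc m x * Xc l x ≠ 0 := fun e => h1 (by
    have : ∑ g, H33.cReg p χ.1 g * ψ.1 g = ε * ε' * 0 := by
      rw [← e, sum_filter, mul_sum]
      refine sum_congr rfl fun g _ => ?_
      rw [H33.cReg, h4, h4', H53.virt_apply_inv (virt_Xc l), conj_Xc]
      split_ifs
      · simp
      · ring
    rw [H33.om, this]
    simp)
  refine ⟨fun h => by_contra fun h' => h3 (sum_reg_eq_zero hM.1 hN h2 h2' h h'),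
    fun h => by_contra fun h' => h3 ?_⟩
  rw [← sum_reg_eq_zero hM.1 hN h2' h2 h h']
  exact sum_congr rfl fun _ _ => mul_comm _ _

theorem exists_pat_of_mem (hM : IsPModular p M) (hN : Fintype.card Ω ≤ N) (hB : IsPBlock M B)
    {χ ψ : IrrCharacter (Perm Ω)} (hχ : χ ∈ B) (hψ : ψ ∈ B) (hl : Is l χ) (h : Pat p ρ l) :
    ∃ m, Pat p ρ m ∧ Is m ψ := by
  obtain ⟨χ₀, h0, h1⟩ := H86.exists_height_zero (p := p) ⟨χ, hχ⟩
  obtain ⟨l₀, -, h2⟩ := exists_is' hN χ₀
  obtain ⟨m, -, h3⟩ := exists_is' hN ψ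
  obtain ⟨σ, hσ⟩ := (sameC_of_mem (ρ := ρ) hM hN hB h0 hψ h1 h2 h3).1
    ((sameC_of_mem hM hN hB h0 hχ h1 h2 hl).2 ⟨1, h⟩)
  exact ⟨_, hσ, h3.comp σ⟩

theorem pow_eq_one_of_type (hp : p.Prime) {x : Perm Ω}
    (hx : x.cycleType = Multiset.replicate w p) : x ^ p = 1 :=
  haveI := Fact.mk hp
  Perm.pow_prime_eq_one_iff.2 fun _ hc => Multiset.eq_of_mem_replicate (hx ▸ hc)

theorem card_support_of_type {x : Perm Ω} (hx : x.cycleType = Multiset.replicate w p) :
    #x.support = p * w := by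
  rw [← Perm.sum_cycleType, hx, Multiset.sum_replicate, smul_eq_mul, mul_comm]

theorem exists_induced (hM : IsPModular p M) (h : ∀ i, ρ i < p)
    (hs : Fintype.card Ω + ∑ i, dl N i = ∑ i, core p ρ i + p * w) {x : Perm Ω}
    (hx : x.cycleType = Multiset.replicate w p) {χ₀ : IrrCharacter (Perm Ω)} (h0 : Is l χ₀)
    (hl : Pat p ρ l) : ∃ b B, IsInducedBlock M (Subgroup.centralizer {x}) b B ∧
      ∀ m χ, Pat p ρ m → Is m χ → χ ∈ B := by
  classical
  have := hM.2.1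
  have := Fact.mk hM.1
  have hxp := pow_eq_one_of_type hM.1 hx
  have hsx := card_support_of_type hx
  set H := Subgroup.centralizer ({x} : Set (Perm Ω))
  let xH : H := ⟨x, Subgroup.mem_centralizer_singleton_iff.2 rfl⟩
  let t : Perm Ω → ℂ := fun k => cf (core p ρ) (alt (dl N) * PT N (k.cycleType +
    Multiset.replicate (Fintype.card Ω - (#k.support + p * w)) 1))
  have h1 : ∀ m χ, Pat p ρ m → Is m χ → ∃ c : ℂ, c ≠ 0 ∧
      ∀ k, Perm.Disjoint k x → χ.1 (k * x) = c * t k := by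
    rintro m χ hm ⟨h1, h2, ε, h3, h4⟩
    obtain ⟨c, h5, h6⟩ := nv' hM.1.pos h hm h1 (h2.trans hs)
    refine ⟨ε * c, mul_ne_zero (left_ne_zero_of_mul_eq_one h3) h5, fun k hk => ?_⟩
    rw [h4, mul_assoc, ← h6 _ ((anti_alt _).mul (symm_PT _)), Xc, pw_eq, Perm.parts_partition,
      hk.cycleType_mul, hk.card_support_mul, hsx, hx, add_right_comm, PT_add, PT_replicate,
      ← mul_assoc, mul_comm _ (_ ^ _)]
  have h2 : ∀ b, IsPBlock M b → ∀ (χ : IrrCharacter (Perm Ω)) (c : ℂ),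
      (∀ k, Perm.Disjoint k x → χ.1 (k * x) = c * t k) →
      blockPart b (fun k : H => χ.1 k) xH = c * ∑ k : H, blockCoeff b k * t k := by
    intro b hb χ c hc
    rw [H33.blockPart_eq_sum_blockCoeff (H5.isClassFunction_of_isCharacter
      (H5.isCharacter_restrict (H5.isCharacter_of_isIrr χ.2) H)), mul_sum]
    refine sum_congr rfl fun k _ => ?_
    by_cases hk : blockCoeff b k = 0
    · simp [hk]
    have := normal_Ex x
    rw [mul_left_comm, ← hc k (apply_eq_of_mem_Ce hM.1 hxp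
      ((H32.mem_Ce_subgroupOf_iff (Ex_le x) k).1 (by_contra fun e => hk
        (S4653.result p M hM ((Ex x).subgroupOf H) ((isPGroup_Ex hxp).comap_subtype) b hb k e)))
      fun e => hk (H33.blockCoeff_eq_zero_of_singular hM hb (by simpa using e)))]
    rfl
  obtain ⟨c, hc, h3⟩ := h1 l χ₀ hl h0
  have h4 : ∑ b ∈ H86.blocks H M, blockPart b (fun k : H => χ₀.1 k) xH ≠ 0 := by
    simp only [H86.blockPart_apply]
    rw [H86.sum_blocks_sum, ← H5.classFunction_apply_eq_sum (H5.isClassFunction_of_isCharacter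
      (H5.isCharacter_restrict (H5.isCharacter_of_isIrr χ₀.2) H))]
    have h5 := h3 1 (Perm.disjoint_one_left x)
    rw [one_mul] at h5
    refine h5 ▸ mul_ne_zero hc ?_
    have h6 : p * w ≤ Fintype.card Ω := hsx ▸ card_le_univ _
    simpa [t, PT_replicate] using cf_ne_zero (core_injective h)
      (j := Fintype.card Ω - p * w) (by omega)
  obtain ⟨b, hb, h5⟩ := exists_ne_zero_of_sum_ne_zero h4
  rw [H86.mem_blocks] at hb
  rw [h2 b hb χ₀ c h3] at h5
  have hz : ∃ k, orderOf x = p ^ k := ((Nat.dvd_prime_pow hM.1).1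
    (orderOf_dvd_of_pow_eq_one (n := p ^ 1) (by simpa using hxp))).imp fun _ h => h.2
  obtain ⟨B, hB⟩ := H33.inducedBlockDefined_centralizer hM hz hb
  refine ⟨b, B, hB, fun m χ hm hχ => by_contra fun e => ?_⟩
  obtain ⟨c', hc', h6⟩ := h1 m χ hm hχ
  exact mul_ne_zero hc' (right_ne_zero_of_mul h5) ((h2 b hb χ c' h6).symm.trans
    (H33.blockPart_restrict_eq_zero hM hB xH (H33.isPPart_self hM.1 hz) le_rfl e))

/-- The block `B` consists of the characters with residue pattern `ρ`, and has weight `w`. -/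
structure Blk (p : ℕ) (M : Ideal AlgInt) (B : Set (IrrCharacter (Perm Ω))) (ρ : Fin N → ℕ)
    (w : ℕ) : Prop where
  mod : IsPModular p M
  blk : IsPBlock M B
  le : Fintype.card Ω ≤ N
  lt : ∀ i, ρ i < p
  sum : Fintype.card Ω + ∑ i, dl N i = ∑ i, core p ρ i + p * w
  mem : ∀ χ, χ ∈ B ↔ ∃ m, Pat p ρ m ∧ Is m χ
  def_ge : ∀ x : Perm Ω, x.cycleType = Multiset.replicate w p →
    ∃ D, IsDefectGroup p M B D ∧ Ex x ≤ D
  low : ∀ i : Fin N, i.val + Fintype.card Ω < N → ρ i = i.val % p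

theorem exists_type (hp : p.Prime) (h : p * w ≤ Fintype.card Ω) :
    ∃ x : Perm Ω, x.cycleType = Multiset.replicate w p :=
  (Perm.exists_with_cycleType_iff Ω).2 ⟨by simpa [mul_comm] using h,
    fun _ hk => Multiset.eq_of_mem_replicate hk ▸ hp.two_le⟩

theorem eq_of_low (hl : StrictMono l) {n : ℕ} (hs : ∑ i, l i = n + ∑ i, dl N i) {i : Fin N}
    (hi : i.val + n < N) : l i = i := by
  refine (dl_le hl i).eq_of_not_lt' fun h => ?_
  have h1 : ∀ j : Fin N, i ≤ j → j.val + 1 ≤ l j := by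
    rintro ⟨j, hj⟩ hij
    induction j, (show i.val ≤ j from hij) using Nat.le_induction with
    | base => exact h
    | succ j h ih => exact Nat.succ_le_of_lt ((ih (by omega) h).trans_lt (hl (by simp [Fin.lt_def])))
  have h2 : ∑ j, (dl N j + if i ≤ j then 1 else 0) ≤ ∑ j, l j := sum_le_sum fun j _ => by
    split_ifs with e
    exacts [h1 j e, dl_le hl j]
  rw [sum_add_distrib, ← card_filter, show ({j | i ≤ j} : Finset _) = Ici i by ext; simp,
    Fin.card_Ici] at h2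
  omega

/-- The Nakayama conjecture. -/
theorem exists_blk (hM : IsPModular p M) (hN : Fintype.card Ω ≤ N) (hB : IsPBlock M B) :
    ∃ (ρ : Fin N → ℕ) (w : ℕ), Blk p M B ρ w := by
  have := hM.2.1
  have := Fact.mk hM.1
  obtain ⟨χ, hχ⟩ := H32.isPBlock_nonempty hB
  obtain ⟨l, hl, h0⟩ := exists_is' hN χ
  have h1 : ∀ i, l i % p < p := fun i => Nat.mod_lt _ hM.1.pos
  have h2 : Pat p (fun i => l i % p) l := fun _ => rfl
  obtain ⟨w, hw⟩ := h2.exists_wt h1 h0.1
  have h3 := h0.2.1.symm.trans hw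
  have h4 : ∀ x : Perm Ω, x.cycleType = Multiset.replicate w p → ∃ b,
      IsInducedBlock M (Subgroup.centralizer {x}) b B ∧
        ∀ m χ, Pat p (fun i => l i % p) m → Is m χ → χ ∈ B := fun x hx => by
    obtain ⟨b, B', h4, h5⟩ := exists_induced hM h1 h3 hx h0 h2
    obtain rfl := H32.block_eq_of_mem hB h4.2.1 hχ (h5 l χ h2 h0)
    exact ⟨b, h4, h5⟩
  refine ⟨_, w, hM, hB, hN, h1, h3, fun ψ => ⟨fun hψ => exists_pat_of_mem hM hN hB hχ hψ h0 h2,
    fun ⟨m, h5, h6⟩ => ?_⟩, fun x hx => ?_, fun i hi => by rw [eq_of_low hl h0.2.1 hi]⟩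
  · obtain ⟨x, hx⟩ := exists_type (Ω := Ω) (w := w) hM.1 (by
      have := sum_dl_le (core_injective h1); omega)
    obtain ⟨b, -, h7⟩ := h4 x hx
    exact h7 m ψ h5 h6
  · obtain ⟨b, h5, -⟩ := h4 x hx
    obtain ⟨D, hD⟩ := H32.exists_isDefectGroup p h5.1
    obtain ⟨E, hE, h6⟩ := S0917.result p M hM _ b h5.1 B hB h5 D hD
    have := normal_Ex x
    refine ⟨E, hE, le_trans (fun g hg => ?_) h6⟩
    exact ⟨⟨g, Ex_le x hg⟩, H32.normal_le_defectGroup hM h5.1 hD (Q := (Ex x).subgroupOf _)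
      ((isPGroup_Ex (pow_eq_one_of_type hM.1 hx)).comap_subtype) hg, rfl⟩

theorem Blk.wt_le (h : Blk p M B ρ w) : p * w ≤ Fintype.card Ω := by
  have := sum_dl_le (core_injective h.lt)
  have := h.sum
  omega

end Cfsg.Agent.H87.Sn
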