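import Cfsg.Agent.H87.SnD

/-! The number of Brauer characters in a block of a symmetric group. -/

set_option autoImplicit false

namespace Cfsg.Agent.H87.Sn

open Equiv MvPolynomial Finset

variable {N : ℕ} {p : ℕ} {ρ m : Fin N → ℕ} {V : Type*} [AddCommGroup V] [Module ℂ V]

theorem lin_ext {f g : PR N →ₗ[ℂ] V} (h : ∀ m, f (mon m) = g (mon m)) : f = g :=
  (basisMonomials (Fin N) ℂ).ext fun d => by simpa [mon] using h d

theorem pair_sum (g : ℕ → ℕ → V) (hg : ∀ u v, g v u = -g u v) (a c : ℕ) :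
    ∑ k ∈ range a, g (a - (k + 1)) (c + (k + 1)) + ∑ k ∈ range c, g (a + (k + 1)) (c - (k + 1)) =
      -g a c := by
  have h1 : ∑ s ∈ range (a + c + 1), g s (a + c - s) = 0 := by
    have h2 := sum_range_reflect (fun s => g s (a + c - s)) (a + c + 1)
    rw [sum_congr rfl fun s hs => show _ = -g s (a + c - s) from by
      rw [← hg]
      have := mem_range.1 hs
      congr 1
      omega, sum_neg_distrib, neg_eq_iff_add_eq_zero, ← two_smul ℂ] at h2
    exact (smul_eq_zero.1 h2).resolve_left two_ne_zero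
  rw [add_right_comm, sum_range_add, sum_range_succ, ← sum_range_reflect _ a] at h1
  rw [eq_neg_iff_add_eq_zero, ← h1, add_right_comm, Nat.add_sub_cancel_left]
  congr 2
  · exact sum_congr rfl fun k hk => by have := mem_range.1 hk; congr 1 <;> omega
  · funext k
    congr 1 <;> omega

/-- Power sums in the variables of one runner. -/
noncomputable def qs (p : ℕ) (ρ : Fin N → ℕ) (t : ℕ × ℕ) : PR N :=
  ∑ i with ρ i = t.1, X i ^ (p * t.2)

/-- Antisymmetry under the permutations preserving the runners. -/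
def RA (ρ : Fin N → ℕ) (Φ : PR N →ₗ[ℂ] V) : Prop :=
  ∀ σ : Perm (Fin N), (∀ i, ρ (σ i) = ρ i) → ∀ Q, Φ (rename σ Q) = sg σ • Φ Q

theorem RA.mul {Φ : PR N →ₗ[ℂ] V} (h : RA ρ Φ) (t : ℕ × ℕ) :
    RA ρ (Φ ∘ₗ LinearMap.mulLeft ℂ (qs p ρ t)) := fun σ hσ Q => by
  have : rename σ (qs p ρ t) = qs p ρ t := by
    simp only [qs, map_sum, map_pow, rename_X]
    exact sum_equiv σ (by simp [hσ]) fun _ _ => rfl
  simp only [LinearMap.comp_apply, LinearMap.mulLeft_apply]
  rw [← h σ hσ, map_mul (rename σ), this]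

theorem RA.comp {Φ : PR N →ₗ[ℂ] V} (h : RA ρ Φ) {σ : Perm (Fin N)} (hσ : ∀ i, ρ (σ i) = ρ i)
    (m : Fin N → ℕ) : Φ (mon (m ∘ σ)) = sg σ • Φ (mon m) := by
  rw [← sg_inv, ← h σ⁻¹ (fun i => by rw [← hσ]; simp), rename_mon]
  rfl

theorem RA.swap {Φ : PR N →ₗ[ℂ] V} (h : RA ρ Φ) {i j : Fin N} (hij : i ≠ j) (e : ρ i = ρ j)
    (m : Fin N → ℕ) : Φ (mon (m ∘ swap i j)) = -Φ (mon m) := by
  rw [h.comp (apply_swap_eq_self e), sg_swap hij, neg_one_smul]

theorem RA.eq_zero {Φ : PR N →ₗ[ℂ] V} (h : RA ρ Φ) (hm : Pat p ρ m)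
    (hi : ¬ Function.Injective m) : Φ (mon m) = 0 := by
  obtain ⟨i, j, e, hij⟩ := Function.not_injective_iff.1 hi
  have := h.swap hij (by rw [← hm, ← hm, e]) m
  rw [comp_swap_eq e, eq_neg_iff_add_eq_zero, ← two_smul ℂ] at this
  exact (smul_eq_zero.1 this).resolve_left two_ne_zero

theorem RA.euler {Φ : PR N →ₗ[ℂ] V} (h : RA ρ Φ) (hρ : ∀ i, ρ i < p) (hm : Pat p ρ m) {w : ℕ}
    (hw : ∑ i, m i = ∑ i, core p ρ i + p * w) (hp : 0 < p) :
    ∑ i, ∑ k ∈ range (m i / p), Φ (qs p ρ (ρ i, k + 1) * mon (m - Pi.single i (p * (k + 1)))) =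
      (w : ℂ) • Φ (mon m) := by
  let T : Fin N → Fin N → V := fun i j => ∑ k ∈ range (m i / p),
    Φ (mon (Pi.single j (p * (k + 1)) + (m - Pi.single i (p * (k + 1)))))
  have h0 : ∀ i k, k ∈ range (m i / p) → p * (k + 1) ≤ m i := fun i k hk =>
    (Nat.mul_le_mul_left p (mem_range.1 hk)).trans (Nat.mul_div_le _ _)
  have h1 : ∀ i, T i i = (m i / p : ℕ) • Φ (mon m) := fun i => by
    rw [← card_range (m i / p), ← sum_const]
    refine sum_congr rfl fun k hk => congrArg (fun m => Φ (mon m)) (funext fun j => ?_)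
    rcases eq_or_ne j i with rfl | e
    · simpa using Nat.add_sub_cancel' (h0 _ k hk)
    · simp [e]
  have h2 : ∀ i j, i ≠ j → ρ i = ρ j → T i j + T j i = -Φ (mon m) := fun i j hij e => by
    let g : ℕ → ℕ → V := fun u v => Φ (mon fun l =>
      if l = i then ρ i + p * u else if l = j then ρ i + p * v else m l)
    have h3 := pair_sum g (fun u v => by
      rw [← h.swap hij e]
      refine congrArg (fun m => Φ (mon m)) (funext fun l => ?_)
      by_cases h1 : l = i
      · simp [h1, hij.symm]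
      · by_cases h2 : l = j <;> simp [h1, h2, swap_apply_of_ne_of_ne, hij.symm])
      (m i / p) (m j / p)
    have h4 := hm.eq i
    have h5 := hm.eq j
    have h6 : ∀ (i j l : Fin N) (x : ℕ), (Pi.single j x + (m - Pi.single i x) : Fin N → ℕ) l =
        (if l = j then x else 0) + (m l - if l = i then x else 0) := fun i j l x => by
      simp [Pi.single_apply]
    convert h3 using 2
    · refine sum_congr rfl fun k hk => congrArg (fun m => Φ (mon m)) (funext fun l => ?_)
      have := h0 _ k hk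
      have h7 : p * (k + 1) ≤ _ := Nat.mul_le_mul_left p (mem_range.1 hk)
      rw [h6, Nat.mul_sub, mul_add p (m j / p)]
      split_ifs with h1 h2 <;> first | omega | (subst l; omega)
    · refine sum_congr rfl fun k hk => congrArg (fun m => Φ (mon m)) (funext fun l => ?_)
      have := h0 _ k hk
      have h7 : p * (k + 1) ≤ _ := Nat.mul_le_mul_left p (mem_range.1 hk)
      rw [h6, Nat.mul_sub, mul_add p (m i / p)]
      split_ifs with h1 h2 <;> first | omega | (subst l; omega)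
    · refine congrArg (fun m => Φ (mon m)) (funext fun l => ?_)
      split_ifs with h1 h2 <;> first | omega | (subst l; omega)
  have h3 : ∀ i, ∑ k ∈ range (m i / p), Φ (qs p ρ (ρ i, k + 1) *
      mon (m - Pi.single i (p * (k + 1)))) = T i i + (∑ j, if j < i ∧ ρ j = ρ i then T i j else 0) +
        ∑ j, if i < j ∧ ρ i = ρ j then T i j else 0 := fun i => by
    simp only [qs, sum_mul, map_sum, ← mon_single, ← mon_add]
    rw [sum_comm, sum_filter, ← sum_ite_eq' univ i (T i) |>.trans (if_pos (mem_univ i)),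
      ← sum_add_distrib, ← sum_add_distrib]
    refine sum_congr rfl fun j _ => ?_
    rcases lt_trichotomy j i with e | rfl | e
    · simp [e, e.ne, e.not_gt, T]
    · simp [T]
    · simp [e, e.ne', e.not_gt, T, eq_comm]
  have h5 : ∀ i, (∑ j, if j < i ∧ ρ j = ρ i then T i j else 0) +
      (∑ j, if j < i ∧ ρ j = ρ i then T j i else 0) = -((core p ρ i / p) • Φ (mon m)) := fun i => by
    rw [← sum_add_distrib, core_div hρ, ← sum_const, ← sum_neg_distrib, sum_filter]
    refine sum_congr rfl fun j _ => ?_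
    split_ifs with e
    exacts [h2 i j e.1.ne' e.2.symm, add_zero _]
  simp only [h3, sum_add_distrib, h1]
  rw [add_assoc, sum_comm (f := fun i j => if i < j ∧ ρ i = ρ j then T i j else 0),
    ← sum_add_distrib (f := fun i => ∑ j, if j < i ∧ ρ j = ρ i then T i j else 0),
    sum_congr rfl fun i _ => h5 i, sum_neg_distrib, ← sum_smul, ← sum_smul]
  have h4 : ∑ i, m i / p = ∑ i, core p ρ i / p + w := by
    rw [sum_congr rfl fun i _ => hm.eq i, sum_congr rfl fun i _ => (pat_core hρ).eq i,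
      sum_add_distrib, sum_add_distrib, ← mul_sum, ← mul_sum, add_assoc, ← mul_add] at hw
    exact Nat.eq_of_mul_eq_mul_left hp (Nat.add_left_cancel hw)
  rw [h4, add_smul, add_comm (_ • _), add_neg_cancel_right, Nat.cast_smul_eq_nsmul]

/-- Admissible multisets of coloured parts. -/
def Adm (p w : ℕ) (s : Multiset (ℕ × ℕ)) : Prop :=
  (∀ t ∈ s, t.1 ∈ Ico 1 p ∧ 0 < t.2) ∧ (s.map Prod.snd).sum = w

theorem RA.mem_span (hρ : ∀ i, ρ i < p) (hp : 0 < p) (w : ℕ) : ∀ (Φ : PR N →ₗ[ℂ] V), RA ρ Φ →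
    (∀ k Q, Φ (ps N (p * (k + 1)) * Q) = 0) → ∀ m, Pat p ρ m →
    ∑ i, m i = ∑ i, core p ρ i + p * w → Φ (mon m) ∈ Submodule.span ℂ
      ((fun s => Φ ((s.map (qs p ρ)).prod * mon (core p ρ))) '' {s | Adm p w s}) := by
  induction w using Nat.strong_induction_on with
  | _ w ih =>
  intro Φ h hz m hm hw
  by_cases hi : Function.Injective m
  swap
  · rw [h.eq_zero hm hi]; exact zero_mem _
  rcases Nat.eq_zero_or_pos w with rfl | hw0
  · obtain ⟨σ, h1, rfl⟩ := hm.eq_core hρ hi hw.le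
    rw [h.comp h1]
    exact Submodule.smul_mem _ _ (Submodule.subset_span ⟨0, ⟨by simp, rfl⟩, by simp⟩)
  rw [← Submodule.smul_mem_iff _ (Nat.cast_ne_zero (R := ℂ) |>.2 hw0.ne'), ← h.euler hρ hm hw hp]
  refine sum_mem fun i _ => sum_mem fun k hk => ?_
  have h0 : p * (k + 1) ≤ m i := (Nat.mul_le_mul_left p (mem_range.1 hk)).trans (Nat.mul_div_le _ _)
  have h1 : ∀ r ∈ Ico 1 p, Φ (qs p ρ (r, k + 1) * mon (m - Pi.single i (p * (k + 1)))) ∈
      Submodule.span ℂ ((fun s => Φ ((s.map (qs p ρ)).prod * mon (core p ρ))) ''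
        {s | Adm p w s}) := fun r hr => by
    by_cases hi' : Function.Injective (m - Pi.single i (p * (k + 1)) : Fin N → ℕ)
    swap
    · exact (Submodule.mem_bot ℂ |>.2 ((h.mul (p := p) (r, k + 1)).eq_zero (hm.sub h0) hi') :) |>
        (bot_le (a := Submodule.span ℂ _))
    obtain ⟨w', hw'⟩ := (hm.sub h0).exists_wt hρ hi'
    have h2 : k + 1 + w' = w := by
      have := sum_sub_single h0
      refine Nat.eq_of_mul_eq_mul_left hp ?_
      rw [mul_add]
      omega
    refine Submodule.span_mono ?_ (ih w' (by omega) _ (h.mul (p := p) (r, k + 1)) (fun k Q => by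
      rw [LinearMap.comp_apply, LinearMap.mulLeft_apply, mul_left_comm, hz]) _ (hm.sub h0) hw')
    rintro _ ⟨s, hs, rfl⟩
    refine ⟨(r, k + 1) ::ₘ s, ⟨fun t ht => ?_, by simp [hs.2, h2]⟩, by simp [mul_assoc]⟩
    rcases Multiset.mem_cons.1 ht with rfl | ht
    exacts [⟨hr, k.succ_pos⟩, hs.1 t ht]
  rcases Nat.eq_zero_or_pos (ρ i) with e | e
  · have h2 : ps N (p * (k + 1)) = qs p ρ (0, k + 1) + ∑ r ∈ Ico 1 p, qs p ρ (r, k + 1) := by
      rw [← sum_eq_sum_Ico_succ_bot hp fun r => qs p ρ (r, k + 1)]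
      exact (sum_fiberwise_of_maps_to (fun j _ => by simpa using hρ j) _).symm
    have h3 := hz k (mon (m - Pi.single i (p * (k + 1))))
    rw [h2, add_mul, map_add, add_eq_zero_iff_eq_neg, sum_mul, map_sum] at h3
    rw [e, h3]
    exact neg_mem (sum_mem h1)
  · exact h1 _ (mem_Ico.2 ⟨e, hρ i⟩)

/-- An upper bound for the number of multipartitions. -/
def ub (a : ℕ) (w : ℕ) : ℕ :=
  a * ∑ j : Fin (w - 1), ub a j + (a + w - 1).choose w
decreasing_by omega

theorem ub_eq (a w : ℕ) : ub a w = a * ∑ j ∈ range (w - 1), ub a j + (a + w - 1).choose w := by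
  rw [ub, Fin.sum_univ_eq_sum_range]

theorem exists_adm (p w : ℕ) : ∃ F : Finset (Multiset (ℕ × ℕ)), #F ≤ ub (p - 1) w ∧
    ∀ s, Adm p w s → s ∈ F := by
  classical
  induction w using Nat.strong_induction_on with
  | _ w ih =>
  choose! F h1 h2 using ih
  refine ⟨(range (w - 1)).biUnion (fun j => (Ico 1 p ×ˢ F j).image fun x => (x.1, w - j) ::ₘ x.2) ∪
    univ.image fun σ : Sym (Ico 1 p) w => σ.1.map fun r => (r.1, 1), ?_, fun s hs => ?_⟩
  · rw [ub_eq, mul_sum]
    refine (card_union_le _ _).trans (add_le_add (card_biUnion_le.trans (sum_le_sum fun j hj => ?_))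
      (card_image_le.trans ?_))
    · refine card_image_le.trans ?_
      rw [card_product, Nat.card_Ico]
      exact Nat.mul_le_mul_left _ (h1 j (by have := mem_range.1 hj; omega))
    · rw [card_univ, Sym.card_sym_eq_choose, Fintype.card_coe, Nat.card_Ico]
  · rw [mem_union]
    by_cases h : ∀ t ∈ s, t.2 = 1
    · refine .inr (mem_image.2 ⟨⟨s.attach.map fun t => ⟨t.1.1, (hs.1 _ t.2).1⟩, ?_⟩, mem_univ _, ?_⟩)
      · have := hs.2
        rw [Multiset.map_congr rfl h] at this
        simpa using this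
      · simp only [Multiset.map_map]
        conv_rhs => rw [← s.attach_map_val]
        exact Multiset.map_congr rfl fun t _ => Prod.ext rfl (h _ t.2).symm
    · push Not at h
      obtain ⟨t, ht, h3⟩ := h
      obtain ⟨s', rfl⟩ := Multiset.exists_cons_of_mem ht
      have h4 := (hs.1 t ht).2
      have h5 := hs.2
      rw [Multiset.map_cons, Multiset.sum_cons] at h5
      refine .inl (mem_biUnion.2 ⟨w - t.2, mem_range.2 (by omega), mem_image.2 ⟨(t.1, s'),
        mem_product.2 ⟨(hs.1 t ht).1, h2 _ (by omega) _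
          ⟨fun u hu => hs.1 u (Multiset.mem_cons_of_mem hu), by dsimp only; omega⟩⟩, ?_⟩⟩)
      rw [show w - (w - t.2) = t.2 by omega]

theorem ub_succ_le {a : ℕ} (ha : 0 < a) (w : ℕ) :
    ub a (w + 1) ≤ a * ∑ j ∈ range (w + 1), ub a j := by
  rw [ub_eq, sum_range_succ, mul_add, Nat.add_sub_cancel]
  refine Nat.add_le_add_left (le_trans ?_ (Nat.mul_le_mul_left a
    (ub_eq a w ▸ Nat.le_add_left _ _))) _
  obtain ⟨a, rfl⟩ := Nat.exists_eq_add_of_le' ha
  have := Nat.add_one_mul_choose_eq (a + w) w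
  rw [show a + 1 + (w + 1) - 1 = a + w + 1 by omega, show a + 1 + w - 1 = a + w by omega]
  refine Nat.le_of_mul_le_mul_right ?_ w.succ_pos
  rw [Nat.succ_eq_add_one, ← this]
  nlinarith [Nat.zero_le (a * w * (a + w).choose w)]

theorem sum_ub_le {a : ℕ} (ha : 0 < a) (v w : ℕ) : ∑ j ∈ range (v + w + 1), ub a j ≤
    (a + 1) ^ w * ∑ j ∈ range (v + 1), ub a j := by
  induction w with
  | zero => simp
  | succ w ih =>
    rw [← add_assoc, sum_range_succ, pow_succ']
    have := ub_succ_le ha (v + w)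
    nlinarith

theorem ub_zero (a : ℕ) : ub a 0 = 1 := by rw [ub_eq]; simp

theorem ub_lt {a w : ℕ} (ha : 0 < a) (hw : 0 < w) : ub a w < (a + 1) ^ w := by
  obtain ⟨w, rfl⟩ := Nat.exists_eq_add_of_le' hw
  have h1 := ub_succ_le ha w
  have h2 := sum_ub_le ha 0 w
  simp only [zero_add, range_one, sum_singleton, ub_zero, mul_one] at h2
  have : 0 < (a + 1) ^ w := by positivity
  rw [pow_succ']
  nlinarith

theorem two_mul_ub_lt {a w : ℕ} (ha : 0 < a) (hw : 3 ≤ w) : 2 * ub a w < (a + 1) ^ w := by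
  have h1 : ub a 1 = a := by rw [ub_eq]; simp
  have c2 := Nat.add_one_mul_choose_eq a 1
  have c3 := Nat.add_one_mul_choose_eq (a + 1) 2
  have h2 : 2 * ub a 2 = a * (a + 3) := by
    rw [ub_eq]
    simp only [Nat.choose_one_right, range_one, sum_singleton, ub_zero, Nat.add_one_sub_one,
      show a + 2 - 1 = a + 1 from rfl, Nat.reduceAdd] at c2 ⊢
    nlinarith
  have h3 : 6 * ub a 3 = a * (a + 1) * (a + 8) := by
    rw [ub_eq]
    simp only [Nat.choose_one_right, sum_range_succ, range_zero, sum_empty, ub_zero, h1,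
      show a + 3 - 1 = a + 1 + 1 from rfl, Nat.reduceAdd, Nat.reduceSub] at c2 c3 ⊢
    nlinarith
  rcases hw.eq_or_lt with rfl | hw
  · nlinarith [sq_nonneg (a : ℤ)]
  obtain ⟨w, rfl⟩ := Nat.exists_eq_add_of_le (Nat.succ_le_of_lt hw)
  have h4 := ub_succ_le ha (3 + w)
  have h5 := sum_ub_le ha 3 w
  have h6 : 2 * (a * ∑ j ∈ range (3 + 1), ub a j) < (a + 1) ^ 4 := by
    simp only [sum_range_succ, range_zero, sum_empty, ub_zero, h1]
    obtain ⟨a, rfl⟩ := Nat.exists_eq_add_of_le' ha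
    nlinarith [Nat.zero_le (a ^ 4), Nat.zero_le (a ^ 3), Nat.zero_le (a ^ 2)]
  rw [show (3 : ℕ).succ + w = 3 + w + 1 by omega, show 3 + w + 1 = w + 4 by omega, pow_add]
  rw [show 3 + w + 1 = w + 4 by omega] at h4 h5
  have : 0 < (a + 1) ^ w := by positivity
  nlinarith

variable {Ω : Type*} [Fintype Ω] [DecidableEq Ω] {M : Ideal AlgInt}
  {B : Set (IrrCharacter (Perm Ω))} {w : ℕ}

theorem exists_lin (f : (Fin N → ℕ) → V) : ∃ Φ : PR N →ₗ[ℂ] V, ∀ m, Φ (mon m) = f m :=
  ⟨(basisMonomials (Fin N) ℂ).constr ℂ fun d => f d, fun m => by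
    simpa [mon] using (basisMonomials (Fin N) ℂ).constr_basis ℂ (fun d => f d)
      (Finsupp.equivFunOnFinite.symm m)⟩

theorem Blk.rank_le (h : Blk p M B ρ w) : blockRank p B ≤ ub (p - 1) w := by
  classical
  obtain ⟨Φ, h1⟩ := exists_lin (N := N) fun m => pRegularPart p (Xc m : Perm Ω → ℂ)
  have h2 : RA ρ Φ := fun σ _ Q => by
    refine LinearMap.congr_fun (lin_ext (f := Φ ∘ₗ (rename σ).toLinearMap)
      (g := sg σ • Φ) fun m => ?_) Q
    simp only [LinearMap.comp_apply, AlgHom.toLinearMap_apply, rename_mon, h1,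
      LinearMap.smul_apply]
    funext g
    simp only [pRegularPart, Xc_comp, Pi.smul_apply, smul_eq_mul, mul_ite, mul_zero]
    rw [show sg σ.symm = sg σ from sg_inv σ]
  have h3 : ∀ k Q, Φ (ps N (p * (k + 1)) * Q) = 0 := fun k Q => by
    refine LinearMap.congr_fun (lin_ext
      (f := Φ ∘ₗ LinearMap.mulLeft ℂ (ps N (p * (k + 1)))) (g := 0) fun m => ?_) Q
    simp only [LinearMap.comp_apply, LinearMap.mulLeft_apply, ps, sum_mul, ← mon_single,
      ← mon_add, map_sum, h1, LinearMap.zero_apply]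
    funext g
    simp only [Finset.sum_apply, pRegularPart, Pi.zero_apply, add_comm _ m]
    split_ifs with hg
    · exact sum_Xc_add h.le (mul_pos h.mod.1.pos k.succ_pos) (fun e => hg
        ((dvd_orderOf_iff h.mod.1 g).2 ⟨_, e, Dvd.intro _ rfl⟩)) m
    · simp
  obtain ⟨F, h4, h5⟩ := exists_adm p w
  refine le_trans ?_ ((finrank_span_finset_le_card (R := ℂ) (F.image fun s =>
    Φ ((s.map (qs p ρ)).prod * mon (core p ρ)))).trans (card_image_le.trans h4))
  refine Submodule.finrank_mono (Submodule.span_le.2 ?_)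
  rintro _ ⟨χ, hχ, rfl⟩
  obtain ⟨m, h6, -, h7, ε, -, h8⟩ := (h.mem χ).1 hχ
  have h9 : pRegularPart p χ.1 = ε • Φ (mon m) := funext fun g => by
    simp [h1, pRegularPart, h8]
  simp only [SetLike.mem_coe, h9]
  refine Submodule.smul_mem _ _ (Submodule.span_mono ?_
    (RA.mem_span h.lt h.mod.1.pos w Φ h2 h3 m h6 (h7.trans h.sum)))
  rw [coe_image]
  exact Set.image_mono h5

end Cfsg.Agent.H87.Sn
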