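import Cfsg.Agent.H87.SnD

/-! Degrees of the characters of symmetric groups and their `p`-parts. -/

set_option autoImplicit false

namespace Cfsg.Agent.H87.Sn

open Equiv MvPolynomial Finset Nat

variable {N : ℕ} {Ω : Type*} [Fintype Ω] [DecidableEq Ω] {p : ℕ} {ρ m l : Fin N → ℕ}

theorem cnt_one_mul {α : Fin N → ℕ} (h : ∑ i, α i = Fintype.card Ω) :
    (cnt α (1 : Perm Ω) : ℂ) * ∏ i, ((α i)! : ℂ) = (Fintype.card Ω)! := by
  rw [← cf_pw, pw_eq, Perm.parts_partition]
  simp only [Perm.cycleType_one, Perm.support_one, card_empty, tsub_zero, zero_add, PT_replicate,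
    ps, pow_one, cf_apply, coeff_sum_X_pow_of_fintype]
  rw [if_pos (by rw [Finsupp.sum_fintype _ _ (by simp)]; simpa using h),
    Finsupp.multinomial_eq_of_support_subset (subset_univ _), ← h, ← multinomial_spec, mul_comm]
  simp

theorem Xc_one_mul (hl : ∑ i, l i = Fintype.card Ω + ∑ i, dl N i) :
    Xc l (1 : Perm Ω) * ∏ i, ((l i)! : ℂ) =
      (Fintype.card Ω)! * ∏ i, ∏ j ∈ Ioi i, ((l j : ℂ) - l i) := by
  have hV := Matrix.det_eval_matrixOfPolynomials_eq_det_vandermonde (fun i => (l i : ℂ))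
    (fun j => descPochhammer ℂ j) (fun j => descPochhammer_natDegree ℂ j)
    (fun j => monic_descPochhammer ℂ j)
  rw [Matrix.det_vandermonde, ← Matrix.det_transpose, Matrix.det_apply'] at hV
  rw [hV, mul_sum, Xc_eq, sum_mul]
  refine sum_congr rfl fun κ _ => ?_
  simp only [Matrix.transpose_apply, Matrix.of_apply, descPochhammer_eval_eq_descFactorial]
  split_ifs with h
  · rw [← cnt_one_mul (Ω := Ω) (α := fun i => l i - κ i) (by have := sum_sub_perm h; omega),
      prod_congr rfl fun i _ => congrArg Nat.cast (factorial_mul_descFactorial (h i)).symm]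
    simp only [cast_mul, prod_mul_distrib, sg]
    ring
  · push Not at h
    obtain ⟨i, hi⟩ := h
    rw [prod_eq_zero (f := fun i => ((l i).descFactorial (κ i) : ℂ)) (mem_univ i)
      (by rw [descFactorial_eq_zero_iff_lt.2 hi, cast_zero])]
    simp

/-- Valuation of the Vandermonde product. -/
def VV (p : ℕ) {ι : Type*} (s : Finset ι) (u : ι → ℕ) : ℕ :=
  ∑ i ∈ s, ∑ j ∈ s, padicValNat p (u i - u j)

/-- Valuation of the product of the factorials. -/
def FF (p : ℕ) {ι : Type*} (s : Finset ι) (u : ι → ℕ) : ℕ := ∑ i ∈ s, padicValNat p (u i)!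

theorem val_prod [Fact p.Prime] {ι : Type*} (s : Finset ι) {f : ι → ℕ} (h : ∀ i ∈ s, f i ≠ 0) :
    padicValNat p (∏ i ∈ s, f i) = ∑ i ∈ s, padicValNat p (f i) := by
  classical
  induction s using Finset.induction_on with
  | empty => simp
  | insert a s ha ih =>
    rw [prod_insert ha, sum_insert ha, padicValNat.mul (h a (mem_insert_self _ _))
      (prod_ne_zero_iff.2 fun i hi => h i (mem_insert_of_mem hi)),
      ih fun i hi => h i (mem_insert_of_mem hi)]

theorem Is.val [Fact p.Prime] {χ : IrrCharacter (Perm Ω)} (h : Is l χ) :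
    padicValNat p (charDegree χ.1) + FF p univ l =
      padicValNat p (Fintype.card Ω)! + VV p univ l := by
  obtain ⟨σ, hσ⟩ := exists_sort h.1
  have h1 : FF p univ l = FF p univ (l ∘ σ) :=
    (Equiv.sum_comp σ fun i => padicValNat p (l i)!).symm
  have h2 : VV p univ l = VV p univ (l ∘ σ) := by
    rw [VV, ← Equiv.sum_comp σ]
    exact sum_congr rfl fun i _ => (Equiv.sum_comp σ _).symm
  rw [h1, h2]
  obtain ⟨-, h3, ε, h4, h5⟩ := h.comp σ
  generalize l ∘ σ = m at *
  have h6 := congrArg (ε * ·) (Xc_one_mul h3)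
  simp only [← mul_assoc, ← h5, ← H33.irr_charDegree_cast] at h6
  rw [prod_congr rfl fun i _ => prod_congr rfl fun j hj =>
    (cast_sub (hσ (mem_Ioi.1 hj)).le).symm] at h6
  have h7 : ‖ε‖ = 1 := by rcases mul_self_eq_one_iff.1 h4 with rfl | rfl <;> simp
  replace h6 := congrArg norm h6
  rw [mul_assoc, norm_mul ε, h7, one_mul] at h6
  norm_cast at h6
  have h8 : ∀ i, ∀ j ∈ Ioi i, m j - m i ≠ 0 := fun i j hj =>
    Nat.sub_ne_zero_of_lt (hσ (mem_Ioi.1 hj))
  replace h6 := congrArg (padicValNat p) h6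
  rw [padicValNat.mul (H33.charDegree_ne_zero χ) (prod_ne_zero_iff.2 fun _ _ => factorial_ne_zero _),
    padicValNat.mul (factorial_ne_zero _) (prod_ne_zero_iff.2 fun i _ =>
      prod_ne_zero_iff.2 (h8 i)), val_prod _ fun _ _ => factorial_ne_zero _,
    val_prod _ fun i _ => prod_ne_zero_iff.2 (h8 i), sum_congr rfl fun i _ => val_prod _ (h8 i)]
    at h6
  rw [FF, h6, VV, sum_comm]
  congr 1
  refine sum_congr rfl fun i _ => sum_subset (subset_univ _) fun j _ hj => ?_
  rw [Nat.sub_eq_zero_of_le (hσ.monotone (by simpa using hj)), padicValNat_zero_right]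

theorem sum_rank {ι : Type*} {s : Finset ι} {u : ι → ℕ} (h : Set.InjOn u s) (f : ℕ → ℕ) :
    ∑ i ∈ s, f #{j ∈ s | u j < u i} = ∑ a ∈ range #s, f a := by
  have h1 : ∀ i ∈ s, ∀ j ∈ s, u i < u j → #{k ∈ s | u k < u i} < #{k ∈ s | u k < u j} :=
    fun i hi j _ e => card_lt_card ⟨fun k hk => mem_filter.2 ⟨(mem_filter.1 hk).1,
      (mem_filter.1 hk).2.trans e⟩, fun h => by simpa using h (mem_filter.2 ⟨hi, e⟩)⟩
  have h2 : ∀ i ∈ s, #{k ∈ s | u k < u i} ∈ range #s := fun i hi =>
    mem_range.2 (card_lt_card ⟨filter_subset _ _, fun h => by simpa using h hi⟩)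
  have h3 : ∀ i ∈ s, ∀ j ∈ s, #{k ∈ s | u k < u i} = #{k ∈ s | u k < u j} → i = j :=
    fun i hi j hj e => h hi hj (by
      rcases lt_trichotomy (u i) (u j) with e' | e' | e'
      exacts [absurd e (h1 i hi j hj e').ne, e', absurd e (h1 j hj i hi e').ne'])
  refine sum_bij (fun i _ => #{k ∈ s | u k < u i}) h2 h3 (fun a ha => ?_) fun _ _ => rfl
  obtain ⟨i, hi, e⟩ := surj_on_of_inj_on_of_card_le (fun i _ => #{k ∈ s | u k < u i}) h2
    (fun i j hi hj => h3 i hi j hj) (card_range _).le a ha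
  exact ⟨i, hi, e.symm⟩

theorem exists_val [Fact p.Prime] {ι : Type*} {s : Finset ι} {u : ι → ℕ} (h : Set.InjOn u s) :
    ∃ k d, ∑ i ∈ s, u i = k + ∑ a ∈ range #s, a ∧ d ≤ padicValNat p k ! ∧
      d + FF p s u = padicValNat p k ! + VV p s u := by
  let v : Fin #s → ℕ := fun i => u (s.equivFin.symm i)
  have h1 : Function.Injective v := fun i j e => s.equivFin.symm.injective
    (Subtype.ext (h (s.equivFin.symm i).2 (s.equivFin.symm j).2 e))
  have h2 : ∀ f : ℕ → ℕ, ∑ i, f (v i) = ∑ i ∈ s, f (u i) := fun f =>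
    (Equiv.sum_comp s.equivFin.symm fun i => f (u i)).trans (sum_coe_sort s fun i => f (u i))
  obtain ⟨k, hk⟩ := Nat.exists_eq_add_of_le' (sum_dl_le h1)
  obtain ⟨χ, hχ⟩ := exists_is (Ω := Fin k) h1 (by simpa using hk)
  have h3 := hχ.val (p := p)
  rw [Fintype.card_fin, FF, h2 fun a => padicValNat p a !, VV,
    sum_congr rfl fun i _ => h2 fun a => padicValNat p (v i - a),
    h2 fun a => ∑ j ∈ s, padicValNat p (a - u j)] at h3
  refine ⟨k, _, ?_, ?_, h3⟩
  · rw [← h2 fun a => a, hk, ← Fin.sum_univ_eq_sum_range fun a => a]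
    rfl
  · have := H33.charDegree_dvd_card χ
    rw [Nat.card_eq_fintype_card, Fintype.card_perm, Fintype.card_fin] at this
    exact (padicValNat_dvd_iff_le (factorial_ne_zero _)).1 (pow_padicValNat_dvd.trans this)

/-- The beads on a runner. -/
def run (ρ : Fin N → ℕ) (r : ℕ) : Finset (Fin N) := {i | ρ i = r}

theorem sum_run (h : ∀ i, ρ i < p) (f : Fin N → ℕ) :
    ∑ r ∈ range p, ∑ i ∈ run ρ r, f i = ∑ i, f i :=
  sum_fiberwise_of_maps_to (fun i _ => mem_range.2 (h i)) f

theorem sum_run_core (h : ∀ i, ρ i < p) (r : ℕ) (f : ℕ → ℕ) :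
    ∑ i ∈ run ρ r, f (core p ρ i / p) = ∑ a ∈ range (rc ρ r), f a := by
  rw [rc, ← sum_rank (u := Fin.val) Fin.val_injective.injOn]
  refine sum_congr rfl fun i hi => ?_
  rw [core_div h]
  congr 2
  ext j
  simp [(mem_filter.1 hi).2, and_comm]

theorem Pat.injOn (hm : Pat p ρ m) (hi : Function.Injective m) (r : ℕ) :
    Set.InjOn (fun i => m i / p) (run ρ r) := fun i h1 j h2 e => hi (by
  rw [hm.eq i, hm.eq j, (mem_filter.1 h1).2, (mem_filter.1 h2).2, show m i / p = m j / p from e])

theorem Pat.sum_div (hρ : ∀ i, ρ i < p) (hm : Pat p ρ m) {w : ℕ} (hp : 0 < p)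
    (hw : ∑ i, m i = ∑ i, core p ρ i + p * w) :
    ∑ i, m i / p = w + ∑ r ∈ range p, ∑ a ∈ range (rc ρ r), a := by
  rw [sum_congr rfl fun i _ => hm.eq i, sum_congr rfl fun i _ => (pat_core hρ).eq i,
    sum_add_distrib, sum_add_distrib, ← mul_sum, ← mul_sum, add_assoc, ← mul_add] at hw
  rw [Nat.eq_of_mul_eq_mul_left hp (Nat.add_left_cancel hw), add_comm,
    ← sum_run hρ, sum_congr rfl fun r _ => sum_run_core hρ r fun a => a]

theorem Pat.val_sub [hp : Fact p.Prime] (hm : Pat p ρ m) (i j : Fin N) :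
    padicValNat p (m i - m j) = if ρ j = ρ i then
      (if m j / p < m i / p then 1 else 0) + padicValNat p (m i / p - m j / p) else 0 := by
  split_ifs with e h
  · rw [hm.eq i, hm.eq j, e, Nat.add_sub_add_left, ← Nat.mul_sub, Nat.add_mul_div_left _ _ hp.out.pos,
      Nat.add_mul_div_left _ _ hp.out.pos, Nat.add_sub_add_left,
      padicValNat.mul hp.out.ne_zero (Nat.sub_ne_zero_of_lt h), padicValNat_self]
  · rw [not_lt] at h
    rw [Nat.sub_eq_zero_of_le h, Nat.sub_eq_zero_of_le]
    · simp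
    · rw [hm.eq i, hm.eq j, e]
      exact Nat.add_le_add_left (Nat.mul_le_mul_left _ h) _
  · rcases le_total (m i) (m j) with h | h
    · rw [Nat.sub_eq_zero_of_le h, padicValNat_zero_right]
    · exact padicValNat.eq_zero_of_not_dvd fun h' => e (by
        rw [← hm, ← hm]; exact (Nat.modEq_iff_dvd' h).2 h')

theorem Is.val_run [hp : Fact p.Prime] {χ : IrrCharacter (Perm Ω)} (h : Is m χ)
    (hρ : ∀ i, ρ i < p) (hm : Pat p ρ m) {w : ℕ} (hw : ∑ i, m i = ∑ i, core p ρ i + p * w) :
    padicValNat p (charDegree χ.1) + w + ∑ r ∈ range p, FF p (run ρ r) (fun i => m i / p) =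
      padicValNat p (Fintype.card Ω)! + ∑ r ∈ range p, VV p (run ρ r) fun i => m i / p := by
  have h1 := h.val (p := p)
  have h2 : FF p univ m = ∑ r ∈ range p, FF p (run ρ r) (fun i => m i / p) + ∑ i, m i / p := by
    simp only [FF, sum_run hρ]
    rw [← sum_add_distrib]
    exact sum_congr rfl fun i _ => by
      rw [← padicValNat_mul_div_factorial, padicValNat_factorial_mul]
  have h3 : VV p univ m = ∑ r ∈ range p, ∑ a ∈ range (rc ρ r), a +
      ∑ r ∈ range p, VV p (run ρ r) fun i => m i / p := by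
    rw [VV, ← sum_run hρ, ← sum_add_distrib]
    refine sum_congr rfl fun r _ => ?_
    rw [show rc ρ r = #(run ρ r) from rfl, ← sum_rank (hm.injOn h.1 r) fun a => a, VV,
      ← sum_add_distrib]
    refine sum_congr rfl fun i hi => ?_
    simp only [hm.val_sub, (mem_filter.1 hi).2]
    rw [← sum_filter, sum_add_distrib, card_filter]
    rfl
  have h4 := hm.sum_div hρ hp.out.pos hw
  omega

theorem sum_val_le [Fact p.Prime] (s : Finset ℕ) (k : ℕ → ℕ) :
    ∑ r ∈ s, padicValNat p (k r)! ≤ padicValNat p (∑ r ∈ s, k r)! := by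
  rw [← val_prod _ fun _ _ => factorial_ne_zero _]
  exact (padicValNat_dvd_iff_le (factorial_ne_zero _)).1
    (pow_padicValNat_dvd.trans (prod_factorial_dvd_factorial_sum s k))

variable {M : Ideal AlgInt} {B : Set (IrrCharacter (Perm Ω))} {w : ℕ}

theorem Blk.val_bounds [hp : Fact p.Prime] (h : Blk p M B ρ w) {χ : IrrCharacter (Perm Ω)}
    (hχ : χ ∈ B) :
    padicValNat p (Fintype.card Ω)! ≤ padicValNat p (charDegree χ.1) + padicValNat p (p * w)! ∧
      padicValNat p (charDegree χ.1) + w ≤ padicValNat p (Fintype.card Ω)! := by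
  obtain ⟨m, h1, h2⟩ := (h.mem χ).1 hχ
  have h3 := h2.val_run h.lt h1 (h2.2.1.trans h.sum)
  choose k d h4 h5 h6 using fun r => exists_val (p := p) (h1.injOn h2.1 r)
  have h7 := sum_congr (rfl : range p = _) fun r _ => h6 r
  have h8 := sum_congr (rfl : range p = _) fun r _ => h4 r
  have h9 := sum_le_sum (s := range p) fun r _ => h5 r
  have h10 := sum_val_le (p := p) (range p) k
  rw [sum_run h.lt, h1.sum_div h.lt hp.out.pos (h2.2.1.trans h.sum), sum_add_distrib] at h8
  rw [sum_add_distrib, sum_add_distrib] at h7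
  rw [← Nat.add_right_cancel h8] at h10
  rw [padicValNat_factorial_mul]
  omega

/-- The configuration with prescribed displacements on each runner. -/
def cfg (p : ℕ) (ρ : Fin N → ℕ) (μ : ℕ → ℕ → ℕ) (i : Fin N) : ℕ :=
  core p ρ i + p * μ (ρ i) (core p ρ i / p)

theorem pat_cfg (hρ : ∀ i, ρ i < p) (μ : ℕ → ℕ → ℕ) : Pat p ρ (cfg p ρ μ) := fun i => by
  rw [cfg, Nat.add_mul_mod_self_left, pat_core hρ]

theorem std_cfg (hp : 0 < p) {μ : ℕ → ℕ → ℕ} (hμ : ∀ r, Monotone (μ r)) : Std ρ (cfg p ρ μ) :=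
  fun i j hij e => by
    have := std_core hp i j hij e
    rw [cfg, cfg, e]
    exact add_lt_add_of_lt_of_le this (Nat.mul_le_mul_left _ (hμ _ (Nat.div_le_div_right this.le)))

theorem Blk.exists_cfg [hp : Fact p.Prime] (h : Blk p M B ρ w) {μ : ℕ → ℕ → ℕ}
    (hμ : ∀ r, Monotone (μ r)) (hw : ∑ r ∈ range p, ∑ a ∈ range (rc ρ r), μ r a = w) :
    ∃ χ ∈ B, Is (cfg p ρ μ) χ ∧ padicValNat p (charDegree χ.1) + w +
      ∑ r ∈ range p, FF p (range (rc ρ r)) (fun a => a + μ r a) = padicValNat p (Fintype.card Ω)! +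
        ∑ r ∈ range p, VV p (range (rc ρ r)) fun a => a + μ r a := by
  have h1 : ∑ i, cfg p ρ μ i = ∑ i, core p ρ i + p * w := by
    simp only [cfg, sum_add_distrib, ← mul_sum]
    rw [← hw, ← sum_run h.lt fun i => μ _ _]
    exact congrArg (_ + p * ·) (sum_congr rfl fun r _ => (sum_congr rfl fun i hi => by
      rw [(mem_filter.1 hi).2]).trans (sum_run_core h.lt r (μ r)))
  obtain ⟨χ, hχ⟩ := exists_is (Ω := Ω) ((std_cfg hp.out.pos hμ).injective (pat_cfg h.lt μ))
    (h1.trans h.sum.symm)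
  refine ⟨χ, (h.mem χ).2 ⟨_, pat_cfg h.lt μ, hχ⟩, hχ, ?_⟩
  have h2 := hχ.val_run h.lt (pat_cfg h.lt μ) h1
  have h3 : ∀ r (f : ℕ → ℕ), ∑ i ∈ run ρ r, f (cfg p ρ μ i / p) =
      ∑ a ∈ range (rc ρ r), f (a + μ r a) := fun r f => by
    rw [← sum_run_core h.lt r fun a => f (a + μ r a)]
    exact sum_congr rfl fun i hi => by
      rw [cfg, Nat.add_mul_div_left _ _ hp.out.pos, (mem_filter.1 hi).2]
  convert h2 using 3 with r _ r _
  · exact (h3 r fun a => padicValNat p a !).symm
  · rw [VV, VV, ← h3 r fun a => ∑ b ∈ range (rc ρ r), padicValNat p (a - (b + μ r b))]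
    exact sum_congr rfl fun i _ => (h3 r fun b => padicValNat p (_ - b)).symm

theorem VV_succ {μ : ℕ → ℕ} (hμ : Monotone μ) (c : ℕ) :
    VV p (range (c + 1)) (fun a => a + μ a) = VV p (range c) (fun a => a + μ a) +
      ∑ a ∈ range c, padicValNat p (c + μ c - (a + μ a)) := by
  have h : Monotone fun a => a + μ a := monotone_id.add hμ
  simp only [VV, sum_range_succ, sum_add_distrib, Nat.sub_self, padicValNat_zero_right, add_zero]
  rw [sum_eq_zero (f := fun a => padicValNat p (a + μ a - (c + μ c))) fun a ha => by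
    rw [Nat.sub_eq_zero_of_le (h (mem_range.1 ha).le), padicValNat_zero_right], add_zero]

theorem val_factorial_add [Fact p.Prime] (k c : ℕ) :
    padicValNat p (c + k)! = padicValNat p k ! + ∑ a ∈ range c, padicValNat p (c + k - a) := by
  induction c with
  | zero => simp
  | succ c ih =>
    rw [sum_range_succ', show c + 1 + k = c + k + 1 by omega, factorial_succ,
      padicValNat.mul (by omega) (factorial_ne_zero _), ih]
    simp only [Nat.add_sub_add_right, tsub_zero]
    omega

theorem FF_eq_VV [Fact p.Prime] (c : ℕ) {β : ℕ → ℕ} (h : ∀ a < c, β a = a) :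
    FF p (range c) β = VV p (range c) β := by
  obtain ⟨k, d, h1, h2, h3⟩ := exists_val (p := p) (s := range c) (u := β) fun a ha b hb e => by
    rwa [h a (by simpa using ha), h b (by simpa using hb)] at e
  rw [sum_congr rfl fun a ha => h a (mem_range.1 ha), card_range] at h1
  obtain rfl : k = 0 := by omega
  simp only [factorial_zero, padicValNat_one_right] at h2 h3
  omega

/-- One-row partitions. -/
def row (c k a : ℕ) : ℕ := if a + 1 < c then 0 else k

theorem row_mono (c k : ℕ) : Monotone (row c k) := fun a b h => by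
  unfold row
  split_ifs <;> omega

theorem sum_row {c : ℕ} (hc : 0 < c) (k : ℕ) : ∑ a ∈ range c, row c k a = k := by
  obtain ⟨c, rfl⟩ : ∃ d, c = d + 1 := ⟨c - 1, by omega⟩
  rw [sum_range_succ, sum_eq_zero (f := row (c + 1) k) fun a ha => if_pos (by simpa using ha), row,
    if_neg (by omega), zero_add]

theorem FF_row [Fact p.Prime] {c : ℕ} (hc : 0 < c) (k : ℕ) :
    FF p (range c) (fun a => a + row c k a) =
      VV p (range c) (fun a => a + row c k a) + padicValNat p k ! := by
  obtain ⟨c, rfl⟩ : ∃ d, c = d + 1 := ⟨c - 1, by omega⟩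
  have h1 : ∀ a < c, a + row (c + 1) k a = a := fun a ha => by rw [row, if_pos (by omega), add_zero]
  rw [VV_succ (row_mono _ _), ← FF_eq_VV c h1, FF, sum_range_succ, FF,
    show row (c + 1) k c = k from if_neg (by omega), val_factorial_add,
    sum_congr rfl fun a ha => show padicValNat p (c + k - (a + row (c + 1) k a)) = _ by
      rw [h1 a (mem_range.1 ha)]]
  omega

/-- The partition `(k + 1, 1)`. -/
def row2 (c k a : ℕ) : ℕ := if a < c then 0 else if a = c then 1 else k + 1

theorem row2_mono (c k : ℕ) : Monotone (row2 c k) := fun a b h => by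
  unfold row2
  split_ifs <;> omega

theorem sum_row2 (c k : ℕ) : ∑ a ∈ range (c + 2), row2 c k a = k + 2 := by
  rw [sum_range_succ, sum_range_succ, sum_eq_zero (f := row2 c k) fun a ha =>
    if_pos (mem_range.1 ha)]
  simp only [row2, lt_self_iff_false, if_false, if_true, add_lt_iff_neg_left, not_lt_zero,
    Nat.add_eq_left, one_ne_zero]
  omega

theorem FF_row2 [Fact p.Prime] (c k : ℕ) :
    FF p (range (c + 2)) (fun a => a + row2 c k a) + padicValNat p (k + 1) =
      VV p (range (c + 2)) (fun a => a + row2 c k a) + padicValNat p (k + 2)! := by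
  have h1 : ∀ a < c, a + row2 c k a = a := fun a ha => by rw [row2, if_pos ha, add_zero]
  have h2 : row2 c k c = 1 := by simp [row2]
  have h3 : row2 c k (c + 1) = k + 1 := by simp [row2]
  rw [VV_succ (row2_mono _ _), VV_succ (row2_mono _ _),
    ← FF_eq_VV c h1, FF, sum_range_succ, sum_range_succ, sum_range_succ, FF, h2, h3,
    val_factorial_add 1 c, show c + 1 + (k + 1) = c + (k + 2) by omega, val_factorial_add,
    sum_congr rfl fun a ha => show padicValNat p (c + 1 - (a + row2 c k a)) = _ by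
      rw [h1 a (mem_range.1 ha)],
    sum_congr rfl fun a ha => show padicValNat p (c + (k + 2) - (a + row2 c k a)) = _ by
      rw [h1 a (mem_range.1 ha)], show c + (k + 2) - (c + 1) = k + 1 by omega]
  simp only [factorial_one, padicValNat_one_right]
  omega

end Cfsg.Agent.H87.Sn
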