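import Cfsg.Agent.H87.SnF
import Cfsg.Agent.H87.SnE
import Cfsg.Agent.H6.Ito
import Cfsg.Agent.H34.Reynolds
import Cfsg.Agent.H61.OrbitSum
import Cfsg.Agent.H3.PGroup
import Cfsg.Agent.S0908

/-! Defect groups of blocks of symmetric groups, and Sylow subgroups of symmetric groups. -/

set_option autoImplicit false

namespace Cfsg.Agent.H87.Sn

open Equiv Finset Nat
open scoped commutatorElement

variable {N : ℕ} {Ω : Type*} [Fintype Ω] [DecidableEq Ω] {p : ℕ} {ρ : Fin N → ℕ}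
  {M : Ideal AlgInt} {B : Set (IrrCharacter (Perm Ω))} {w : ℕ}

theorem card_sylow [Fact p.Prime] (P : Sylow p (Perm Ω)) :
    Nat.card P = p ^ padicValNat p (Fintype.card Ω)! := by
  rw [P.card_eq_multiplicity, Nat.card_eq_fintype_card, Fintype.card_perm,
    Nat.factorization_def _ Fact.out]

theorem Blk.defect [hp : Fact p.Prime] (h : Blk p M B ρ w) {D : Subgroup (Perm Ω)}
    (hD : IsDefectGroup p M B D) : ∃ f : Perm (Fin (p * w)) →* Perm Ω, Function.Injective f ∧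
      (∀ g, Perm.sign (f g) = Perm.sign g) ∧
        ∃ P : Sylow p (Perm (Fin (p * w))), D = (P : Subgroup _).map f := by
  have := h.mod.2.1
  obtain ⟨x, hx⟩ := exists_type hp.out h.wt_le
  obtain ⟨D', h1, h2⟩ := h.def_ge x hx
  obtain ⟨y, h3, h4⟩ := H32.isDefectGroup_iff.1 h1
  have h5 := apply_eq_of_mem_Ce hp.out (pow_eq_one_of_type hp.out hx)
    (mem_Ce_iff_le.2 (h2.trans h4.le)) (H33.IsDefectClass.regular h.mod h.blk h3)
  let e : Fin (p * w) ≃ {a // a ∈ x.support} :=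
    (Fintype.equivFinOfCardEq ((Fintype.card_coe _).trans (card_support_of_type hx))).symm
  let f := Perm.extendDomainHom e
  have hf : Function.Injective f := Perm.extendDomainHom_injective e
  obtain ⟨P⟩ : Nonempty (Sylow p (Perm (Fin (p * w)))) := inferInstance
  have h6 : IsDefectGroup p M B ((P : Subgroup _).map f) := by
    refine H32.isDefectGroup_of_card_le h.mod h.blk hD (P.isPGroup'.map f) (c := y)
      (mem_Ce.2 ?_) h3.2.1 ?_
    · rintro _ ⟨g, -, rfl⟩
      refine (Perm.Disjoint.commute fun a => ?_).eq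
      by_cases ha : a ∈ x.support
      · exact Or.inr ((h5 a).resolve_right (Perm.mem_support.1 ha))
      · exact Or.inl (Perm.extendDomain_apply_not_subtype _ _ ha)
    · rw [Subgroup.card_map_of_injective hf, card_sylow, S0908.result p M h.mod B h.blk D hD,
        Fintype.card_fin, H32.blockDefect_eq]
      obtain ⟨χ, hχ, h7⟩ := H32.exists_minVal p (H32.isPBlock_nonempty h.blk)
      have := (h.val_bounds hχ).1
      rw [← h7, Nat.card_eq_fintype_card, Fintype.card_perm, Nat.factorization_def _ hp.out,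
        Nat.factorization_def _ hp.out]
      exact Nat.pow_le_pow_right hp.out.pos (by omega)
  obtain ⟨g, rfl⟩ := H32.defectGroup_conj h.mod h.blk h6 hD
  refine ⟨(MulAut.conj g).toMonoidHom.comp f, (MulAut.conj g).injective.comp hf, fun k => ?_, P,
    Subgroup.map_map _ _ _⟩
  simp [f, mul_comm (Perm.sign g), mul_assoc]

theorem Blk.defect_eq [hp : Fact p.Prime] (h : Blk p M B ρ w) :
    blockDefect p B = padicValNat p (p * w)! := by
  have := h.mod.2.1
  obtain ⟨D, hD⟩ := H32.exists_isDefectGroup p h.blk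
  have h1 := S0908.result p M h.mod B h.blk D hD
  obtain ⟨f, hf, -, P, rfl⟩ := h.defect hD
  rw [Subgroup.card_map_of_injective hf, card_sylow, Fintype.card_fin] at h1
  exact (Nat.pow_right_injective hp.out.two_le h1).symm

section psi

variable {ι V : Type*} [Group V]

/-- A product of regular representations. -/
def psi (e : ι × V ≃ Ω) : (ι → V) →* Perm Ω where
  toFun v := e.permCongr (prodCongrRight fun i => Equiv.mulLeft (v i))
  map_one' := by ext a; obtain ⟨⟨i, u⟩, rfl⟩ := e.surjective a; simp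
  map_mul' u v := by ext a; obtain ⟨⟨i, u⟩, rfl⟩ := e.surjective a; simp

omit [Fintype Ω] [DecidableEq Ω] in
theorem psi_apply (e : ι × V ≃ Ω) (v : ι → V) (i : ι) (u : V) :
    psi e v (e (i, u)) = e (i, v i * u) := by simp [psi]

omit [Fintype Ω] [DecidableEq Ω] in
theorem psi_injective (e : ι × V ≃ Ω) : Function.Injective (psi e) := fun u v h => by
  ext i
  simpa [psi_apply] using congrArg (fun g : Perm Ω => g (e (i, 1))) h

variable [Fintype ι] [Fintype V] [DecidableEq ι] [DecidableEq V]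

theorem sign_psi (e : ι × V ≃ Ω) (v : ι → V) :
    Perm.sign (psi e v) = ∏ i, Perm.sign (Equiv.mulLeft (v i)) :=
  (Perm.sign_permCongr _ _).trans (Perm.sign_prodCongrRight _)

omit [DecidableEq Ω] [DecidableEq ι] [DecidableEq V] in
theorem exists_psi [Fact p.Prime] (P : Sylow p (Perm Ω)) (hV : ∀ v : V, v ^ p = 1)
    (h : Fintype.card ι * Fintype.card V = Fintype.card Ω) :
    ∃ e : ι × V ≃ Ω, ∀ v, psi e v ∈ (P : Subgroup _) := by
  let e : ι × V ≃ Ω := Fintype.equivOfCardEq (by simpa using h)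
  have h1 : IsPGroup p (psi e).range := by
    rintro ⟨_, v, rfl⟩
    exact ⟨1, Subtype.ext (by simp [← map_pow, show v ^ p = 1 from funext fun i => hV _])⟩
  obtain ⟨y, -, hy⟩ := (sylIn_top_iff.2 ⟨P, rfl⟩).le_conj h1 le_top
  refine ⟨e.trans y⁻¹, fun v => ?_⟩
  convert mem_cjS.1 (hy ⟨v, rfl⟩) using 1
  ext; simp [psi, Perm.inv_def]

end psi

theorem card_le_of_rank {G A : Type*} [Group G] [Group A] {s : ℕ}
    (hs : SectionalPRankLE p s G) (f : A →* G) (hf : Function.Injective f)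
    (h1 : ∀ a b : A, a * b = b * a) (h2 : ∀ a : A, a ^ p = 1) : Nat.card A ≤ p ^ s := by
  let g : A →* (⊤ : Subgroup G) ⧸ (⊥ : Subgroup (⊤ : Subgroup G)) :=
    (QuotientGroup.quotientBot.symm.toMonoidHom.comp Subgroup.topEquiv.symm.toMonoidHom).comp f
  have hg : Function.Injective g :=
    (QuotientGroup.quotientBot.symm.injective.comp Subgroup.topEquiv.symm.injective).comp hf
  rw [Nat.card_congr (MonoidHom.ofInjective hg).toEquiv]
  refine hs ⊤ ⊥ g.range ⟨⟨?_⟩⟩ ?_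
  · rintro ⟨_, a, rfl⟩ ⟨_, b, rfl⟩
    exact Subtype.ext (by simp [← map_mul, h1 a b])
  · rintro _ ⟨a, rfl⟩
    rw [← map_pow, h2, map_one]

theorem le_alt_of_odd (hp : p.Prime) (h2 : p ≠ 2) {P : Subgroup (Perm Ω)} (hP : IsPGroup p P) :
    P ≤ alternatingGroup Ω := fun g hg => by
  obtain ⟨k, hk⟩ := hP ⟨g, hg⟩
  have h1 := congrArg (fun x : P => Perm.sign x.1) hk
  obtain ⟨j, hj⟩ := (hp.odd_of_ne_two h2).pow (n := k)
  rw [Perm.mem_alternatingGroup]
  simpa [hj, pow_add, pow_mul] using h1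

/-- The even part of a Sylow subgroup. -/
abbrev PA (P : Sylow p (Perm Ω)) : Subgroup (Perm Ω) := P ⊓ alternatingGroup Ω

theorem zmod_pow (v : Multiplicative (ZMod p)) : v ^ p = 1 := by
  rw [← ofAdd_toAdd v, ← ofAdd_nsmul]; simp

omit [DecidableEq Ω] in
theorem exists_psi_zmod [hp : Fact p.Prime] (P : Sylow p (Perm Ω)) (h : Fintype.card Ω = p * w) :
    ∃ e : Fin w × Multiplicative (ZMod p) ≃ Ω, ∀ v, psi e v ∈ (P : Subgroup _) :=
  exists_psi P zmod_pow (by simp [h, mul_comm])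

omit [DecidableEq Ω] in
theorem rank_sylow [hp : Fact p.Prime] (P : Sylow p (Perm Ω)) (h : Fintype.card Ω = p * w) {s : ℕ}
    (hs : SectionalPRankLE p s P) : w ≤ s := by
  obtain ⟨e, he⟩ := exists_psi_zmod P h
  have := card_le_of_rank hs ((psi e).codRestrict _ he)
    (fun a b h => psi_injective e (congrArg Subtype.val h)) mul_comm
    fun a => funext fun i => zmod_pow _
  exact (Nat.pow_le_pow_iff_right hp.out.one_lt).1 (by simpa using this)

theorem rank_PA [hp : Fact p.Prime] (P : Sylow p (Perm Ω)) (h : Fintype.card Ω = p * w) {s : ℕ}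
    (hs : SectionalPRankLE p s (PA P)) : p ^ w ≤ 2 * p ^ s := by
  obtain ⟨e, he⟩ := exists_psi_zmod P h
  let K := (Perm.sign.comp (psi e)).ker
  have h1 := card_le_of_rank hs (((psi e).comp K.subtype).codRestrict _ fun v => ⟨he v, v.2⟩)
    (fun a b h => Subtype.ext (psi_injective e (congrArg Subtype.val h))) mul_comm
    fun a => Subtype.ext (funext fun i => zmod_pow _)
  have h2 := K.index_mul_card
  have h3 : K.index ≤ 2 := by
    rw [Subgroup.index_ker]
    exact (Subgroup.card_le_card_group _).trans (by simp)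
  calc p ^ w = K.index * Nat.card K := by rw [h2]; simp
    _ ≤ _ := Nat.mul_le_mul h3 h1

theorem rank_four (P : Sylow 2 (Perm Ω)) (h : Fintype.card Ω = 4 * w) {s : ℕ}
    (hs : SectionalPRankLE 2 s (PA P)) : 2 * w ≤ s := by
  have h0 : ∀ v : Multiplicative (ZMod 2 × ZMod 2), v ^ 2 = 1 := by decide
  have h1 : ∀ v : Multiplicative (ZMod 2 × ZMod 2), Perm.sign (Equiv.mulLeft v) = 1 := by decide
  obtain ⟨e, he⟩ := exists_psi (ι := Fin w) P h0 (by simp [h, mul_comm])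
  have := card_le_of_rank hs ((psi e).codRestrict _ fun v =>
    ⟨he v, by simp [Perm.mem_alternatingGroup, sign_psi, h1]⟩)
    (fun a b h => psi_injective e (congrArg Subtype.val h)) mul_comm
    fun a => funext fun i => h0 _
  exact (Nat.pow_le_pow_iff_right one_lt_two).1 (by simpa [pow_mul] using this)

theorem val_mul_factorial [hp : Fact p.Prime] (w : ℕ) :
    padicValNat p (p * w)! = w + padicValNat p w ! := by
  rw [padicValNat_factorial_mul, add_comm]

theorem val_factorial_of_lt [hp : Fact p.Prime] (h : w < p) : padicValNat p w ! = 0 :=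
  padicValNat.eq_zero_of_not_dvd (by rw [hp.out.dvd_factorial]; omega)

theorem comm_of_lt [hp : Fact p.Prime] (P : Sylow p (Perm Ω)) (h : Fintype.card Ω = p * w)
    (hw : w < p) {a b : Perm Ω} (ha : a ∈ (P : Subgroup _)) (hb : b ∈ (P : Subgroup _)) :
    a * b = b * a := by
  obtain ⟨e, he⟩ := exists_psi_zmod P h
  have : (psi e).range = P := Subgroup.eq_of_le_of_card_ge (by rintro _ ⟨v, rfl⟩; exact he v) (by
    rw [card_sylow, h, val_mul_factorial, val_factorial_of_lt hw,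
      ← Nat.card_congr (MonoidHom.ofInjective (psi_injective e)).toEquiv]
    simp)
  rw [← this] at ha hb
  obtain ⟨⟨u, rfl⟩, v, rfl⟩ := And.intro ha hb
  rw [← map_mul, mul_comm, map_mul]

theorem exists_odd (P : Sylow 2 (Perm Ω)) (h : Fintype.card Ω = 2 * w) (s : Finset Ω)
    (hs : #s < w) : ∃ t ∈ (P : Subgroup (Perm Ω)), Perm.sign t = -1 ∧ ∀ a ∈ s, t a = a := by
  obtain ⟨e, he⟩ := exists_psi_zmod P h
  obtain ⟨i, -, hi⟩ := exists_mem_notMem_of_card_lt_card (s := s.image fun a => (e.symm a).1)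
    (t := univ) (card_image_le.trans_lt (by simpa using hs))
  refine ⟨_, he (Pi.mulSingle i (Multiplicative.ofAdd 1)), ?_, fun a ha => ?_⟩
  · rw [sign_psi, prod_eq_single i (fun j _ hj => by simp [hj]) (by simp), Pi.mulSingle_eq_same]
    decide
  · obtain ⟨⟨j, u⟩, rfl⟩ := e.surjective a
    rw [psi_apply, Pi.mulSingle_eq_of_ne, one_mul]
    rintro rfl
    exact hi (mem_image.2 ⟨_, ha, by simp⟩)

theorem card_PA (P : Sylow 2 (Perm Ω)) (h : Fintype.card Ω = 2 * w) (hw : 0 < w) :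
    2 * Nat.card (PA P) = Nat.card P := by
  obtain ⟨t, h1, h2, -⟩ := exists_odd P h ∅ hw
  have h3 : ((alternatingGroup Ω).subgroupOf P).index = 2 :=
    Subgroup.index_eq_two_iff.2 ⟨⟨t, h1⟩, fun b => by
      rcases Int.units_eq_one_or (Perm.sign b.1) with e | e <;>
        simp [Subgroup.mem_subgroupOf, Perm.mem_alternatingGroup, e, h2]⟩
  rw [← ((alternatingGroup Ω).subgroupOf P).index_mul_card, h3, ← Subgroup.inf_subgroupOf_left,
    Nat.card_congr (Subgroup.subgroupOfEquivOfLe inf_le_left).toEquiv]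

theorem exists_degree_of {G Q : Type*} [Group G] [Group Q] [Finite Q] (hp : p.Prime) (f : Q →* G)
    (H : Subgroup G) [H.Normal] (hH : H.index = p) {H₁ : Subgroup G} (h1 : ⁅H, H⁆ ≤ H₁) {g d : Q}
    (h : f ⁅g, d⁆ ∉ H₁) : ∃ χ : IrrCharacter Q, charDegree χ.1 = p := by
  by_contra! hc
  let K := H.comap f
  have h2 : ∀ χ : IrrCharacter (Q ⧸ ⁅K, K⁆), χ.1 1 = 1 := fun χ => by
    obtain ⟨n, hn⟩ := H5.exists_nat_degree (H5.isCharacter_of_isIrr χ.2)
    have := Subgroup.Normal.map (H := K) inferInstance _ (QuotientGroup.mk'_surjective ⁅K, K⁆)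
    have h3 := H6.degree_dvd_index_of_abelian_normal (K.map (QuotientGroup.mk' ⁅K, K⁆)) (by
      rintro _ ⟨a, ha, rfl⟩ _ ⟨b, hb, rfl⟩
      rw [← commutatorElement_eq_one_iff_mul_comm, ← map_commutatorElement]
      exact (QuotientGroup.eq_one_iff _).2 (Subgroup.commutator_mem_commutator ha hb)) χ.2 hn
    have h4 : K.index ∣ p := by
      rw [Subgroup.index_comap, ← hH]
      exact Subgroup.relIndex_dvd_index_of_normal _ _
    rcases (Nat.dvd_prime hp).1 ((h3.trans (K.index_map_dvd (QuotientGroup.mk'_surjective _))).trans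
      h4) with rfl | rfl
    · simpa using hn
    · exact absurd (H34.charDegree_eq_of_cast (by simpa using hn))
        (hc ⟨_, H5.isIrrCharacter_comp χ.2 _ (QuotientGroup.mk'_surjective _)⟩)
  have h3 : ⁅g, d⁆ ∈ ⁅K, K⁆ := (QuotientGroup.eq_one_iff _).1 (by
    change QuotientGroup.mk' _ _ = _
    rw [map_commutatorElement, commutatorElement_eq_one_iff_mul_comm]
    exact H34.comm_of_forall_degree_eq_one h2 _ _)
  refine h (h1 (Subgroup.commutator_mono (H.map_comap_le f) (H.map_comap_le f) ?_))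
  rw [← Subgroup.map_commutator]
  exact ⟨_, h3, rfl⟩

omit [DecidableEq Ω] in
theorem exists_restr [Fact p.Prime] (P : Sylow p (Perm Ω)) (H : Subgroup P) [hn : H.Normal] (a : Ω)
    {h : P} (hh : h ∈ H) : ∃ g : P, g.1 a = h.1 a ∧ ∀ b, (∀ k ∈ H, k.1 a ≠ b) → g.1 b = b := by
  classical
  let K : Subgroup (Perm Ω) :=
    { carrier := {g | ∀ b, ∃ h ∈ H, ∀ k ∈ H, g (k.1 b) = h.1 (k.1 b)}
      one_mem' := fun _ => ⟨1, H.one_mem, fun _ _ => rfl⟩
      mul_mem' := fun {g g'} hg hg' b => by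
        obtain ⟨⟨u, h1, h2⟩, v, h3, h4⟩ := And.intro (hg b) (hg' b)
        exact ⟨u * v, H.mul_mem h1 h3, fun k hk =>
          (congrArg g (h4 k hk)).trans (h2 (v * k) (H.mul_mem h3 hk))⟩
      inv_mem' := fun {g} hg b => by
        obtain ⟨u, h1, h2⟩ := hg b
        refine ⟨u⁻¹, H.inv_mem h1, fun k hk => Perm.inv_eq_iff_eq.2 ?_⟩
        simpa using (h2 (u⁻¹ * k) (H.mul_mem (H.inv_mem h1) hk)).symm }
  have h1 : IsPGroup p K := fun g => by
    obtain ⟨e, he⟩ := P.isPGroup'.exists_card_eq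
    refine ⟨e, Subtype.ext (Equiv.ext fun b => ?_)⟩
    obtain ⟨u, h1, h2⟩ := g.2 b
    have : ∀ j : ℕ, (g.1 ^ j) b = (u ^ j).1 b := fun j => by
      induction j with
      | zero => rfl
      | succ j ih => rw [_root_.pow_succ', Perm.mul_apply, ih, h2 _ (H.pow_mem h1 j), _root_.pow_succ']; rfl
    rw [Subgroup.coe_pow, this, ← he, pow_card_eq_one']
    rfl
  have h2 : ∀ d : P, ∀ g ∈ K, d.1 * g * d.1⁻¹ ∈ K := fun d g hg b => by
    obtain ⟨u, h1, h2⟩ := hg (d.1⁻¹ b)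
    refine ⟨d * u * d⁻¹, hn.conj_mem _ h1 d, fun k hk => ?_⟩
    simpa using h2 _ (hn.conj_mem _ hk d⁻¹)
  have h3 : (P : Subgroup (Perm Ω)) ≤ No K := fun d hd => Subgroup.mem_normalizer_iff.2 fun g =>
    ⟨h2 ⟨d, hd⟩ g, fun hg => by simpa [mul_assoc] using h2 ⟨d, hd⟩⁻¹ _ hg⟩
  have h4 := ((sylIn_top_iff.2 ⟨P, rfl⟩).of_le h3 le_top).normal_le h1 Subgroup.le_normalizer le_rfl
  have h5 : ∀ b, (∃ k ∈ H, k.1 a = h.1 b) ↔ ∃ k ∈ H, k.1 a = b := fun b =>
    ⟨fun ⟨k, hk, e⟩ => ⟨h⁻¹ * k, H.mul_mem (H.inv_mem hh) hk, by simp [e]⟩,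
      fun ⟨k, hk, e⟩ => ⟨h * k, H.mul_mem hh hk, by simp [e]⟩⟩
  let g := Perm.ofSubtype (h.1.subtypePerm (p := fun b => ∃ k ∈ H, k.1 a = b) h5)
  have h6 : ∀ b, (∃ k ∈ H, k.1 a = b) → g b = h.1 b := fun _ e =>
    Perm.ofSubtype_apply_of_mem (h.1.subtypePerm h5) e
  have h7 : ∀ b, (¬ ∃ k ∈ H, k.1 a = b) → g b = b := fun _ e =>
    Perm.ofSubtype_apply_of_not_mem (h.1.subtypePerm h5) e
  refine ⟨⟨g, h4 fun b => ?_⟩, h6 _ ⟨1, H.one_mem, rfl⟩, fun b hb => h7 _ fun ⟨k, hk, e⟩ => hb k hk e⟩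
  by_cases hb : ∃ k ∈ H, k.1 a = b
  · obtain ⟨u, hu, rfl⟩ := hb
    exact ⟨h, hh, fun k hk => h6 _ ⟨k * u, H.mul_mem hk hu, rfl⟩⟩
  · exact ⟨1, H.one_mem, fun k hk => h7 _ fun ⟨u, hu, e⟩ =>
      hb ⟨k⁻¹ * u, H.mul_mem (H.inv_mem hk) hu, by simp [e]⟩⟩

theorem exists_pow_ne [hp : Fact p.Prime] (P : Sylow p (Perm Ω)) (h : p * p ≤ Fintype.card Ω) :
    ∃ (x : P) (a : Ω), (x ^ p).1 a ≠ a := by
  obtain ⟨c, hc⟩ := (Perm.exists_with_cycleType_iff Ω (m := {p ^ 2})).2
    ⟨by simpa [sq] using h, by simpa using hp.out.two_le.trans (Nat.le_self_pow two_ne_zero _)⟩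
  have h1 : orderOf c = p ^ 2 := by simp [← Perm.lcm_cycleType, hc]
  obtain ⟨y, -, hy⟩ := (sylIn_top_iff.2 ⟨P, rfl⟩).le_conj
    (IsPGroup.of_card ((Nat.card_zpowers c).trans h1)) le_top
  by_contra! h2
  have h3 : (y⁻¹ * c * y⁻¹⁻¹) ^ p = 1 :=
    Equiv.ext (h2 ⟨_, (inv_inv y).symm ▸ mem_cjS.1 (hy (Subgroup.mem_zpowers c))⟩)
  rw [conj_pow, conj_eq_one_iff, ← orderOf_dvd_iff_pow_eq_one, h1] at h3
  exact absurd (Nat.le_of_dvd hp.out.pos h3) (by have := hp.out.two_le; nlinarith)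

theorem exists_degree [hp : Fact p.Prime] (P : Sylow p (Perm Ω)) (h : Fintype.card Ω = p * w)
    (h1 : p ≤ w) (h2 : 3 ≤ w) : ∃ χ : IrrCharacter (PA P), charDegree χ.1 = p := by
  have h3 : ∀ (g : P) (a b : Ω), ∃ t : P, t.1 a = a ∧ t.1 b = b ∧ (g * t).1 ∈ PA P :=
    fun g a b => by
    by_cases e : Perm.sign g.1 = 1
    · exact ⟨1, rfl, rfl, by simp, by simpa⟩
    obtain rfl : p = 2 := by_contra fun h4 => e (le_alt_of_odd hp.out h4 P.isPGroup' g.2)
    obtain ⟨t, h4, h5, h6⟩ := exists_odd P h {a, b} (card_le_two.trans_lt h2)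
    exact ⟨⟨t, h4⟩, h6 a (by simp), h6 b (by simp), (g * ⟨t, h4⟩).2,
      by simp [h5, (Int.units_eq_one_or _).resolve_left e]⟩
  obtain ⟨x, a, hx⟩ := exists_pow_ne P (h ▸ Nat.mul_le_mul_left p h1)
  let R := MulAction.stabilizer P a
  obtain ⟨H, h4, h5, h6⟩ := H61.exists_normal_index_prime P.isPGroup' (R := R)
    fun e => hx (show x ^ p ∈ R from e ▸ Subgroup.mem_top _)
  obtain ⟨H₁, h7, h8, h9⟩ := H61.exists_normal_index_prime (P.isPGroup'.to_subgroup H)
    (R := R.subgroupOf H) fun e =>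
      hx (show x ^ p ∈ R from Subgroup.subgroupOf_eq_top.1 e (by simpa only [h6] using H.pow_index_mem x))
  have h10 : ∀ {G : Type _} [Group G] {K : Subgroup G}, K.index = p → ∃ g, g ∉ K :=
    fun hK => by_contra fun e => hp.out.ne_one (by
      rw [← hK, Subgroup.index_eq_one, Subgroup.eq_top_iff']; simpa using e)
  obtain ⟨⟨d, hd⟩, u, hu⟩ := And.intro (h10 h6) (h10 h9)
  obtain ⟨t, h11, -, h12⟩ := h3 d a a
  obtain ⟨g, h13, h14⟩ := exists_restr P H a u.2
  obtain ⟨s, h15, h16, h17⟩ := h3 g a ((d * t).1 a)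
  have h18 : R ≤ H₁.map H.subtype := fun r hr => ⟨⟨r, h4 hr⟩, h7 hr, rfl⟩
  refine exists_degree_of hp.out (Subgroup.inclusion inf_le_left) H h6 (H₁ := H₁.map H.subtype)
    (g := ⟨_, h17⟩⁻¹) (d := ⟨_, h12⟩⁻¹) ?_ fun e => hu ?_
  · rw [← Subgroup.map_subtype_commutator]
    exact Subgroup.map_mono (H3.commutator_le_of_normal_index_prime h9)
  · have h19 : g.1 ((d * t).1 a) = (d * t).1 a := h14 _ fun k hk e => hd (by
      have : k⁻¹ * (d * t) ∈ R := (Perm.inv_eq_iff_eq.2 e.symm :)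
      simpa using H.mul_mem (H.mul_mem hk (h4 this)) (H.inv_mem (h4 (show t ∈ R from h11))))
    have h20 : (d * t)⁻¹ * (g * s) * (d * t) ∈ R :=
      (Perm.inv_eq_iff_eq.2 ((congrArg g.1 h16).trans h19) :)
    have h21 : u.1⁻¹ * (g * s) ∈ R := (Perm.inv_eq_iff_eq.2 ((congrArg g.1 h15).trans h13) :)
    have h22 : (g * s)⁻¹ * ((d * t)⁻¹ * (g * s) * (d * t)) ∈ H₁.map H.subtype := by
      rw [← mul_assoc, ← mul_assoc]
      exact e
    have h23 := (H₁.map H.subtype).mul_mem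
      ((Subgroup.mul_mem_cancel_right _ (h18 h20)).1 h22 |> inv_mem_iff.1) (inv_mem (h18 h21))
    exact (Subgroup.mem_map_iff_mem H.subtype_injective).1 (by simpa [mul_assoc] using h23)

end Cfsg.Agent.H87.Sn
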