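import Cfsg.Agent.H87.SnG
import Cfsg.Agent.H32.IBr4
import Cfsg.Agent.H6.IndRep
import Cfsg.Agent.S4432
import Cfsg.Agent.S0964
import Cfsg.Agent.S4438

/-! Blocks of subgroups of index two, and blocks of alternating groups. -/

set_option autoImplicit false

namespace Cfsg.Agent.H87.Sn

open Equiv Finset Nat

section two

variable {G : Type*} [Group G] [Fintype G] {A : Subgroup G} [A.Normal] [Fintype A] {p : ℕ}

theorem dich (hA : A.index = 2) {χ : G → ℂ} (hχ : IsIrrCharacter G χ) {θ : A → ℂ}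
    (hθ : IsIrrCharacter A θ) (h : classInner (fun n : A => χ n) θ ≠ 0) :
    (fun n : A => χ n) = θ ∨ (χ 1 = 2 * θ 1 ∧ ∀ g ∉ A, χ g = 0) := by
  have h1 := H5.isCharacter_restrict (H5.isCharacter_of_isIrr hχ) A
  have h2 := H6.isCharacter_indFun A (H5.isCharacter_of_isIrr hθ)
  have h3 : classInner (indFun A θ) χ ≠ 0 := by
    rwa [H5.classInner_comm_of_isCharacter h2 (H5.isCharacter_of_isIrr hχ),
      H6.classInner_indFun_right _ _ (H5.isClassFunction_of_isIrr hχ)]
  obtain ⟨e, he⟩ := H5.exists_nat_classInner h1 (H5.isCharacter_of_isIrr hθ)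
  obtain ⟨d, hd⟩ := H5.exists_nat_degree (H5.isCharacter_of_isIrr hθ)
  obtain ⟨k, hk⟩ := H5.exists_nat_degree (H5.isCharacter_sub_of_constituent h2 hχ h3)
  have h4 := H6.clifford_degree A hχ hθ h
  have h5 := H6.indFun_apply_one A θ
  rw [he, ← Nat.cast_mul] at h4
  generalize e * (H6.inertia A θ).index = c at h4
  have h6 : c ≠ 0 := fun e => H5.degree_ne_zero hχ (by simp [h4, e])
  have h7 : d ≠ 0 := fun e => H5.degree_ne_zero hθ (by simp [hd, e])
  have h8 : 2 * d = k + c * d := by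
    rw [Pi.sub_apply, h5, h4, hd, hA, sub_eq_iff_eq_add] at hk
    exact_mod_cast hk
  have h9 : c ≤ 2 := Nat.le_of_mul_le_mul_right (c := d) (by omega) (by omega)
  obtain rfl | rfl : c = 1 ∨ c = 2 := by omega
  · exact Or.inl (H6.eq_of_constituent_of_degree_eq h1 hθ h (by simpa using h4))
  · refine Or.inr ⟨by simpa using h4, fun g hg => ?_⟩
    rw [← H6.eq_of_constituent_of_degree_eq h2 hχ h3 (by rw [h5, h4, hA])]
    exact H6.indFun_normal_of_notMem A θ hg

theorem val_eq_of_res (hA : A.index = 2) {χ : IrrCharacter G}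
    {θ : IrrCharacter A} (h : classInner (fun n : A => χ.1 n) θ.1 ≠ 0)
    (h1 : p ≠ 2 ∨ ∃ g ∉ A, χ.1 g ≠ 0) :
    (charDegree χ.1).factorization p = (charDegree θ.1).factorization p := by
  rcases dich hA χ.2 θ.2 h with e | ⟨e, h2⟩
  · rw [← e]; rfl
  · have h3 : charDegree χ.1 = 2 * charDegree θ.1 :=
      H34.charDegree_eq_of_cast (by rw [e, ← H34.irr_degree_cast, Nat.cast_mul, Nat.cast_two])
    have h4 : p ≠ 2 := h1.resolve_right fun ⟨g, h4, h5⟩ => h5 (h2 g h4)
    rw [h3, Nat.factorization_mul two_ne_zero (H34.irr_degree_ne_zero θ), Finsupp.add_apply,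
      Nat.prime_two.factorization, Finsupp.single_eq_of_ne h4, zero_add]

theorem add_conj_eq (hA : A.index = 2) {s : G} (hs : s ∉ A) {χ : G → ℂ} (hχ : IsIrrCharacter G χ)
    {θ : A → ℂ} (hθ : IsIrrCharacter A θ) (h : classInner (fun n : A => χ n) θ ≠ 0) :
    ∃ c : ℂ, θ + H6.conjChar A s θ = c • fun n : A => χ n := by
  classical
  have h1 := H5.isClassFunction_of_isIrr hθ
  have h2 : ∀ x, H6.conjChar A x θ + H6.conjChar A (x * s) θ = θ + H6.conjChar A s θ := fun x => by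
    by_cases hx : x ∈ A
    · rw [H6.conjChar_mul, H6.conjChar_of_mem A h1 hx]
    · have h3 : ∀ y ∉ A, y * s⁻¹ ∈ A := fun y hy =>
        (Subgroup.mul_mem_iff_of_index_two hA).2 (by simp [hy, hs])
      rw [H6.conjChar_of_mem A h1 (g := x * s)
        ((Subgroup.mul_mem_iff_of_index_two hA).2 (by simp [hx, hs])),
        (H6.conjChar_eq_iff A).2 (H6.le_inertia A h1 (h3 x hx)), add_comm]
  have h3 := sum_congr rfl fun x (_ : x ∈ univ) => h2 x
  rw [sum_add_distrib, show ∑ x, H6.conjChar A (x * s) θ = _ from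
    Equiv.sum_comp (Equiv.mulRight s) fun x => H6.conjChar A x θ,
    sum_const, Finset.card_univ, ← Nat.cast_smul_eq_nsmul ℂ, ← two_smul ℂ] at h3
  have h4 := H6.clifford_sum A hχ hθ h
  refine ⟨(Fintype.card G : ℂ)⁻¹ * 2 * (classInner (fun n : A => χ n) θ)⁻¹ *
    Nat.card (H6.inertia A θ), ?_⟩
  rw [mul_smul, h4, mul_smul, inv_smul_smul₀ h, mul_smul, h3,
    inv_smul_smul₀ (Nat.cast_ne_zero.2 Fintype.card_ne_zero)]

variable {M : Ideal AlgInt} {B : Set (IrrCharacter G)} {b : Set (IrrCharacter A)}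

/-- `B` covers `b`. -/
def Cov (B : Set (IrrCharacter G)) (b : Set (IrrCharacter A)) : Prop :=
  ∃ χ ∈ B, ∃ θ ∈ b, classInner (fun n : A => (χ : G → ℂ) n) (θ : A → ℂ) ≠ 0

omit [A.Normal] in
theorem exists_cov [M.IsMaximal] (hb : IsPBlock M b) :
    ∃ B : Set (IrrCharacter G), IsPBlock M B ∧ Cov B b := by
  obtain ⟨θ, hθ⟩ := H32.isPBlock_nonempty hb
  have h2 := H6.isCharacter_indFun A (H5.isCharacter_of_isIrr θ.2)
  obtain ⟨χ, h3, h4⟩ := H5.exists_irr_constituent h2 fun e => by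
    have := H6.indFun_apply_one A θ.1
    rw [e] at this
    exact mul_ne_zero (Nat.cast_ne_zero.2 A.index_ne_zero_of_finite) (H5.degree_ne_zero θ.2) this.symm
  refine ⟨_, H32.isPBlock_blockOf ⟨χ, h3⟩, ⟨χ, h3⟩, H32.mem_blockOf_self _, θ, hθ, ?_⟩
  rwa [H5.classInner_comm_of_isCharacter h2 (H5.isCharacter_of_isIrr h3),
    H6.classInner_indFun_right _ _ (H5.isClassFunction_of_isIrr h3)] at h4

omit [Fintype G] [A.Normal] [Fintype A] in
theorem reg_res (χ : G → ℂ) : pRegularPart p (fun n : A => χ n) =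
    LinearMap.funLeft ℂ ℂ A.subtype (pRegularPart p χ) := by
  classical
  ext n
  simp [H86.reg_apply, LinearMap.funLeft_apply]

/-- The span of the regular parts of the characters of a block. -/
noncomputable abbrev sp (p : ℕ) (B : Set (IrrCharacter G)) : Submodule ℂ (G → ℂ) :=
  Submodule.span ℂ ((fun χ : IrrCharacter G => pRegularPart p (χ : G → ℂ)) '' B)

theorem rank_le_of_res [Fact p.Prime] (hA : A.index = 2) (hM : IsPModular p M) (hB : IsPBlock M B)
    (hb : IsPBlock M b) (hc : Cov B b) (h : ∀ χ ∈ B, ∃ g ∉ A, χ.1 g ≠ 0) :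
    blockRank p b ≤ blockRank p B := by
  refine (Submodule.finrank_mono (Submodule.span_le.2 ?_)).trans
    (Submodule.finrank_map_le (LinearMap.funLeft ℂ ℂ A.subtype) (sp p B))
  rintro _ ⟨θ, hθ, rfl⟩
  obtain ⟨χ, h1, h2⟩ := S4432.result p M hM A B hB b hb hc θ hθ
  obtain ⟨g, h3, h4⟩ := h χ h1
  refine ⟨_, Submodule.subset_span ⟨χ, h1, rfl⟩, ?_⟩
  rw [← reg_res, (dich hA χ.2 θ.2 h2).resolve_right fun e => h4 (e.2 g h3)]

theorem rank_le_two_mul [Fact p.Prime] (hA : A.index = 2) (hM : IsPModular p M) (hB : IsPBlock M B)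
    (hb : IsPBlock M b) (hc : Cov B b) : blockRank p b ≤ 2 * blockRank p B := by
  classical
  have := hM.2.1
  obtain ⟨s, hs⟩ : ∃ s, s ∉ A := by
    by_contra! e
    rw [(Subgroup.eq_top_iff' A).2 e] at hA
    simp at hA
  let T : (A → ℂ) →ₗ[ℂ] (A → ℂ) := LinearMap.id + LinearMap.funLeft ℂ ℂ (MulAut.conjNormal s)
  let W := (sp p B).map (LinearMap.funLeft ℂ ℂ A.subtype)
  have h1 : (sp p b).map T ≤ W := by
    rw [Submodule.map_span, Submodule.span_le]
    rintro _ ⟨_, ⟨θ, hθ, rfl⟩, rfl⟩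
    obtain ⟨χ, h1, h2⟩ := S4432.result p M hM A B hB b hb hc θ hθ
    obtain ⟨c, h3⟩ := add_conj_eq hA hs χ.2 θ.2 h2
    refine ⟨c • _, Submodule.smul_mem _ c (Submodule.subset_span ⟨χ, h1, rfl⟩), ?_⟩
    rw [map_smul, ← reg_res]
    ext n
    have := congrFun h3 n
    simp only [T, H86.reg_apply, Pi.smul_apply, LinearMap.add_apply, LinearMap.id_apply,
      Pi.add_apply, LinearMap.funLeft_apply, MulEquiv.orderOf_eq] at this ⊢
    split_ifs
    · simp
    · exact this.symm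
  let σ : H32.IBr M A ≃ H32.IBr M A := H32.IBr.congr (MulAut.conjNormal s)
  have h2 : ∀ i, H32.phi (σ i) = H6.conjChar A s (H32.phi i) := H32.phi_congr hM _
  have h3 : ∀ i, σ (σ i) = i := fun i => H32.phi_injective (by
    rw [h2, h2, ← H6.conjChar_mul, H6.conjChar_of_mem A (H32.isClassFunction_phi i)
      ((Subgroup.mul_mem_iff_of_index_two hA).2 .rfl)])
  let I := H32.ibrOf M b
  let J := I.filter fun i => σ i ∈ I → i ≤ σ i
  have h4 : #I ≤ 2 * #J := by
    refine (card_le_card (t := J ∪ J.image σ) fun i hi => ?_).trans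
      ((card_union_le _ _).trans (by have := Finset.card_image_le (s := J) (f := σ); omega))
    by_cases e : σ i ∈ I → i ≤ σ i
    · exact mem_union_left _ (mem_filter.2 ⟨hi, e⟩)
    · push Not at e
      exact mem_union_right _ (mem_image.2
        ⟨σ i, mem_filter.2 ⟨e.1, fun _ => by rw [h3]; exact e.2.le⟩, h3 i⟩)
  have h5 : ∀ j : J, T (H32.phi j.1) ∈ W := fun j => h1 ⟨_, by
    rw [sp, H32.span_reg_eq hM hb]
    exact Submodule.subset_span ⟨⟨j.1, (mem_filter.1 j.2).1⟩, rfl⟩, rfl⟩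
  have h6 : LinearIndependent ℂ fun j : J => (⟨_, h5 j⟩ : W) := by
    refine .of_comp W.subtype (Fintype.linearIndependent_iff.2 fun c hc j => ?_)
    have h7 : ∀ i, T (H32.phi i) = H32.phi i + H32.phi (σ i) := fun i => by rw [h2]; rfl
    have h8 := congrArg (classInner · (H32.Phi j.1)) hc
    simp only [Function.comp_apply, Submodule.subtype_apply, h7, H5.classInner_sum_left,
      H5.classInner_smul_left, H5.classInner_add_left, H32.classInner_phi_Phi,
      H5.classInner_zero_left] at h8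
    rw [sum_eq_single j (fun i _ hi => ?_) (by simp), if_pos rfl] at h8
    · refine (mul_eq_zero.1 h8).resolve_right ?_
      split_ifs <;> norm_num
    · obtain ⟨⟨h9, h10⟩, h11, h12⟩ := And.intro (mem_filter.1 i.2) (mem_filter.1 j.2)
      rw [if_neg fun e => hi (Subtype.ext e), if_neg fun e => hi (Subtype.ext ?_)]
      · simp
      · rw [← e, h3] at h12
        exact le_antisymm (e ▸ h10 (e ▸ h11)) (e ▸ h12 h9)
  have h7 := h6.fintype_card_le_finrank.trans (Submodule.finrank_map_le _ _)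
  rw [H32.blockRank_eq_card hM hb]
  exact h4.trans (Nat.mul_le_mul_left 2 (Fintype.card_coe J ▸ h7))

theorem exists_under [Fact p.Prime] (hA : A.index = 2) (hM : IsPModular p M) (hB : IsPBlock M B)
    (hb : IsPBlock M b) (hc : Cov B b) {χ : IrrCharacter G} (hχ : χ ∈ B)
    (h1 : p ≠ 2 ∨ ∃ g ∉ A, χ.1 g ≠ 0) :
    ∃ θ ∈ b, (charDegree χ.1).factorization p = (charDegree θ.1).factorization p := by
  obtain ⟨ψ, h2, h3⟩ := H5.exists_irr_constituent (H5.isCharacter_restrict
    (H5.isCharacter_of_isIrr χ.2) A) fun e => H5.degree_ne_zero χ.2 (congrFun e 1)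
  obtain ⟨χ₀, h4, θ₀, h5, h6⟩ := hc
  obtain ⟨g, θ, h7, h8⟩ := S0964.result p M hM A B hB b hb χ₀ h4 θ₀ h5 h6 χ hχ ⟨ψ, h2⟩ h3
  refine ⟨θ, h7, (val_eq_of_res hA (θ := ⟨ψ, h2⟩) h3 h1).trans ?_⟩
  rw [charDegree, charDegree, h8]
  simp only [OneMemClass.coe_one, mul_one, mul_inv_cancel]
  rfl

end two

variable {N : ℕ} {Ω : Type*} [Fintype Ω] [DecidableEq Ω] {p : ℕ} {ρ : Fin N → ℕ}
  {M : Ideal AlgInt} {B : Set (IrrCharacter (Perm Ω))} {w : ℕ}
  {b : Set (IrrCharacter (alternatingGroup Ω))}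

theorem Blk.defect_alt [hp : Fact p.Prime] (h : Blk p M B ρ w) (hb : IsPBlock M b) (hc : Cov B b)
    {D : Subgroup (alternatingGroup Ω)} (hD : IsDefectGroup p M b D) :
    ∃ P : Sylow p (Perm (Fin (p * w))), Nonempty (PA P ≃* D) := by
  obtain ⟨E, h1, h2⟩ := S4438.result p M h.mod _ b hb (D.map (alternatingGroup Ω).subtype)
    (Subgroup.map_subtype_le D) (by rwa [Subgroup.subgroupOf,
      Subgroup.comap_map_eq_self_of_injective (Subgroup.subtype_injective _)]) B h.blk hc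
  obtain ⟨f, hf, h3, P, rfl⟩ := h.defect h1
  have h4 : (PA P).map f = D.map (alternatingGroup Ω).subtype := by
    rw [← h2]
    ext g
    exact ⟨fun ⟨k, hk, e⟩ => ⟨⟨k, hk.1, e⟩, e ▸ (h3 k).trans hk.2⟩,
      fun ⟨⟨k, hk, e⟩, hg⟩ => ⟨k, ⟨hk, (h3 k).symm.trans (e ▸ hg :)⟩, e⟩⟩
  exact ⟨P, ⟨(((PA P).equivMapOfInjective f hf).trans (MulEquiv.subgroupCongr h4)).trans
    (D.equivMapOfInjective _ (Subgroup.subtype_injective _)).symm⟩⟩

theorem PA_eq [hp : Fact p.Prime] (h2 : p ≠ 2) (P : Sylow p (Perm Ω)) : PA P = P :=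
  inf_eq_left.2 (le_alt_of_odd hp.out h2 P.isPGroup')

theorem Blk.defect_alt_eq [hp : Fact p.Prime] (h : Blk p M B ρ w) (hb : IsPBlock M b)
    (hc : Cov B b) :
    blockDefect p b + (if p = 2 ∧ 0 < w then 1 else 0) = padicValNat p (p * w)! := by
  have := h.mod.2.1
  obtain ⟨D, hD⟩ := H32.exists_isDefectGroup p hb
  obtain ⟨P, ⟨e⟩⟩ := h.defect_alt hb hc hD
  have h1 := (Nat.card_congr e.toEquiv).trans (S0908.result p M h.mod b hb D hD)
  have h2 := card_sylow P
  rw [Fintype.card_fin] at h2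
  refine Nat.pow_right_injective hp.out.two_le ?_
  dsimp only
  rw [_root_.pow_add, ← h1, ← h2]
  split_ifs with h3
  · obtain ⟨rfl, h3⟩ := h3
    rw [← card_PA P (Fintype.card_fin _) h3, pow_one, mul_comm]
  · rw [_root_.pow_zero, mul_one]
    by_cases h4 : p = 2
    · obtain rfl : w = 0 := by simpa [h4] using h3
      have : Subsingleton (Perm (Fin (p * 0))) := ⟨fun _ _ => Equiv.ext fun a => a.elim0⟩
      rw [Subsingleton.elim (PA P) P]
    · rw [PA_eq h4]

theorem Blk.minVal_alt [hp : Fact p.Prime] [Nontrivial Ω] (h : Blk p M B ρ w) (hb : IsPBlock M b)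
    (hc : Cov B b) (h1 : p = 2 → 0 < w) : H32.minVal p b = H32.minVal p B := by
  have := h.mod.2.1
  have h2 := H32.blockDefect_add_minVal (p := p) (H32.isPBlock_nonempty hb)
  have h3 := H32.blockDefect_add_minVal (p := p) (H32.isPBlock_nonempty h.blk)
  have h4 := h.defect_alt_eq hb hc
  rw [← (alternatingGroup Ω).index_mul_card, alternatingGroup.index_eq_two, h.defect_eq,
    Nat.factorization_mul two_ne_zero Nat.card_pos.ne', Finsupp.add_apply,
    Nat.prime_two.factorization] at h3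
  by_cases e : p = 2
  · rw [if_pos ⟨e, h1 e⟩] at h4
    rw [e, Finsupp.single_eq_same, ← e] at h3
    omega
  · rw [if_neg fun h => e h.1] at h4
    rw [Finsupp.single_eq_of_ne e] at h3
    omega

end Cfsg.Agent.H87.Sn
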