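import Cfsg.Agent.H87.SnH

/-! Characters of height one in blocks of symmetric groups. -/

set_option autoImplicit false

namespace Cfsg.Agent.H87.Sn

open Equiv Finset Nat

variable {N : ℕ} {Ω : Type*} [Fintype Ω] [DecidableEq Ω] {p : ℕ} {ρ m : Fin N → ℕ}
  {M : Ideal AlgInt} {B : Set (IrrCharacter (Perm Ω))} {w : ℕ} {χ : IrrCharacter (Perm Ω)}

theorem Is.ne_zero (h : Is m χ) {x : Perm Ω} (h1 : cf m (PT N x.cycleType *
    (alt (dl N) * ps N 1 ^ (Fintype.card Ω - x.cycleType.sum))) ≠ 0) : χ.1 x ≠ 0 := by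
  obtain ⟨-, -, ε, h2, h3⟩ := h
  rw [h3, Xc, pw_eq, Perm.parts_partition, PT_add, PT_replicate, mul_left_comm (alt _),
    ← Perm.sum_cycleType]
  exact mul_ne_zero (left_ne_zero_of_mul_eq_one h2) h1

theorem anti_one (j : ℕ) : Anti (alt (dl N) * ps N 1 ^ j) :=
  (anti_alt _).mul (PT_replicate (N := N) j 1 ▸ symm_PT _)

theorem Blk.cf_core (h : Blk p M B ρ w) :
    cf (core p ρ) (alt (dl N) * ps N 1 ^ (Fintype.card Ω - p * w)) ≠ 0 :=
  cf_ne_zero (core_injective h.lt) (by have := h.sum; have := h.wt_le; omega)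

theorem Blk.ne_zero (h : Blk p M B ρ w) (hχ : χ ∈ B) {x : Perm Ω}
    (hx : x.cycleType = Multiset.replicate w p) : χ.1 x ≠ 0 := by
  obtain ⟨m, h1, h2⟩ := (h.mem χ).1 hχ
  obtain ⟨c, h3, h4⟩ := nv' h.mod.1.pos h.lt h1 h2.1 (h2.2.1.trans h.sum)
  refine h2.ne_zero ?_
  rw [hx, PT_replicate, h4 _ (anti_one _), Multiset.sum_replicate, smul_eq_mul, mul_comm w]
  exact mul_ne_zero h3 h.cf_core

theorem Blk.odd_of_odd (h : Blk 2 M B ρ w) (hw : Odd w) (hχ : χ ∈ B) :
    ∃ g ∉ alternatingGroup Ω, χ.1 g ≠ 0 := by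
  obtain ⟨x, hx⟩ := exists_type Nat.prime_two h.wt_le
  refine ⟨x, ?_, h.ne_zero hχ hx⟩
  rw [Perm.mem_alternatingGroup, Perm.sign_of_cycleType, hx, Odd.neg_one_pow (by
    simpa using (even_two.mul_left w).add_odd hw)]
  decide

theorem core_div_lt (h : ∀ i, ρ i < p) (i : Fin N) : core p ρ i / p < rc ρ (ρ i) :=
  pat_core h i ▸ (mem_range_core h _).1 ⟨i, rfl⟩

theorem std_sub_of (h : ∀ i, ρ i < p) (hs : Std ρ m)
    (hr : ∀ j, core p ρ j / p + 1 < rc ρ (ρ j) → m j = core p ρ j) {i : Fin N} {k : ℕ}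
    (hi : core p ρ i + k ≤ m i) : Std ρ (m - Pi.single i k) := fun j j' hj e => by
  have h1 := hs j j' hj e
  rcases eq_or_ne j' i with rfl | e'
  · have h2 := std_core (ρ := ρ) (Nat.zero_lt_of_lt (h j)) j j' hj e
    have h3 := hr j ((Nat.succ_le_of_lt ((pat_core h).div_lt e h2)).trans_lt (e ▸ core_div_lt h j'))
    simp only [Pi.sub_apply, Pi.single_eq_same, Pi.single_eq_of_ne hj.ne]
    omega
  · simp only [Pi.sub_apply, Pi.single_eq_of_ne e']
    omega

theorem core_le_of_inj (h : ∀ i, ρ i < p) (hm : Pat p ρ m)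
    (hr : ∀ j, core p ρ j / p + 1 < rc ρ (ρ j) → m j = core p ρ j) {i : Fin N} {k : ℕ}
    (hi : p * k ≤ m i) (hj : Function.Injective (m - Pi.single i (p * k) : Fin N → ℕ)) :
    core p ρ i + p * k ≤ m i := by
  by_contra! e
  have h1 : (m i - p * k) % p = ρ i := by simpa using hm.sub hi i
  have h2 : (m i - p * k) / p < core p ρ i / p := by
    have h3 := Nat.mod_add_div (m i - p * k) p
    have h4 := (pat_core h).eq i
    exact lt_of_mul_lt_mul_left (a := p) (by omega) (Nat.zero_le _)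
  obtain ⟨j, h3⟩ := (mem_range_core h (m i - p * k)).2 (h1 ▸ h2.trans (core_div_lt h i))
  have h4 : ρ j = ρ i := by rw [← h1, ← h3, pat_core h]
  have h5 : j ≠ i := by rintro rfl; rw [h3] at h2; exact h2.false
  refine h5 (hj ?_)
  rw [Pi.sub_apply, Pi.sub_apply, Pi.single_eq_same, Pi.single_eq_of_ne h5, ← h3, Nat.sub_zero]
  exact hr j (by rw [h3, h4]; exact (Nat.succ_le_of_lt h2).trans_lt (core_div_lt h i))

theorem Blk.ne_zero_two (h : Blk p M B ρ (w + 2)) (hm : Pat p ρ m) (hs : Std ρ m) (hχ : Is m χ)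
    (hr : ∀ j, core p ρ j / p + 1 < rc ρ (ρ j) → m j = core p ρ j) {i : Fin N}
    (hi : core p ρ i + p * 2 ≤ m i) {x : Perm Ω}
    (hx : x.cycleType = (p * 2) ::ₘ Multiset.replicate w p) : χ.1 x ≠ 0 := by
  have h1 : ∀ j, ∃ c : ℕ, (j = i → 0 < c) ∧ ∀ P : PR N, Anti P → (if p * 2 ≤ m j then
      cf (m - Pi.single j (p * 2)) (ps N p ^ w * P) else 0) = c * cf (core p ρ) P := fun j => by
    split_ifs with e
    · have h2 := sum_sub_single e
      have h3 := hχ.2.1.trans h.sum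
      obtain ⟨c, h4, h5⟩ := nv h.mod.1.pos w _ (hm.sub e) (fun hj => std_sub_of h.lt hs hr
        (core_le_of_inj h.lt hm hr e hj)) (by rw [mul_add] at h3; omega)
      exact ⟨c, fun e' => h4 ((std_sub_of h.lt hs hr (e' ▸ hi)).injective (hm.sub e)), h5⟩
    · exact ⟨0, fun e' => absurd (e' ▸ le_of_add_le_right hi) e, by simp⟩
  choose c h2 h3 using h1
  refine hχ.ne_zero ?_
  rw [hx, PT_cons, PT_replicate, mul_assoc, cf_ps_mul, sum_congr rfl fun j _ => h3 j _ (anti_one _),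
    ← sum_mul, Multiset.sum_cons, Multiset.sum_replicate, smul_eq_mul,
    show p * 2 + w * p = p * (w + 2) by ring, ← Nat.cast_sum]
  exact mul_ne_zero (Nat.cast_ne_zero.2 (sum_pos' (fun _ _ => Nat.zero_le _)
    ⟨i, mem_univ _, h2 i rfl⟩).ne') h.cf_core

/-- A decomposition of `w` with a single carry. -/
def HK (p w : ℕ) : Prop := ∃ k : ℕ → ℕ, ∑ r ∈ range p, k r = w ∧
  padicValNat p w ! = ∑ r ∈ range p, padicValNat p (k r)! + 1

theorem val_add_factorial [hp : Fact p.Prime] (a : ℕ) {r : ℕ} (hr : r < p) :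
    padicValNat p (p * a + r)! = a + padicValNat p a ! := by
  rw [padicValNat_factorial_mul_add a hr, val_mul_factorial]

theorem HK.step [hp : Fact p.Prime] {a r : ℕ} (h : HK p a) (hr : r < p) : HK p (p * a + r) := by
  obtain ⟨k, h1, h2⟩ := h
  refine ⟨fun i => p * k i + if i = 0 then r else 0, ?_, ?_⟩
  · simp [sum_add_distrib, ← mul_sum, h1, hp.out.pos]
  · rw [val_add_factorial a hr, sum_congr rfl fun i _ => val_add_factorial (k i)
      (by split_ifs; exacts [hr, hp.out.pos]), sum_add_distrib, h1, h2, add_assoc]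

theorem hk_base [hp : Fact p.Prime] {a r : ℕ} (ha : ¬ p ∣ a) (hr : r < p) (h : p = 2 → r = 0) :
    HK p (p * a + r) := by
  obtain ⟨v, hv⟩ : ∃ v, p * a = v + 1 := Nat.exists_eq_succ_of_ne_zero
    (mul_ne_zero hp.out.ne_zero fun e => ha (e ▸ dvd_zero _))
  have h1 : padicValNat p (p * a)! = padicValNat p v ! + 1 := by
    have h0 : a ≠ 0 := fun e => ha (e ▸ dvd_zero _)
    rw [hv, Nat.factorial_succ, padicValNat.mul v.add_one_ne_zero v.factorial_ne_zero, ← hv,
      padicValNat.mul hp.out.ne_zero h0, padicValNat_self, padicValNat.eq_zero_of_not_dvd ha,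
      add_comm]
  have h2 : ∀ f : ℕ → ℕ, f 0 = 0 → ∑ i ∈ range p, f (if i = 0 then v else if i = 1 then 1 else
      if i = 2 then r else 0) = f v + f 1 + f r := fun f hf => by
    rcases hp.out.two_le.eq_or_lt with e | e
    · rw [h e.symm, ← e]
      simp [sum_range_succ, hf]
    · obtain ⟨q, rfl⟩ := Nat.exists_eq_add_of_lt e
      rw [add_right_comm, sum_range_add]
      simp [sum_range_succ, hf, show ∀ x, 2 + 1 + x ≠ 1 ∧ 2 + 1 + x ≠ 2 from fun x => by omega]
  refine ⟨_, (h2 (fun x => x) rfl).trans (by simp [hv]), ?_⟩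
  rw [h2 (fun k => padicValNat p k !) (by simp), padicValNat_factorial_mul_add a hr, h1,
    val_factorial_of_lt hr]
  simp

theorem hk_odd [hp : Fact p.Prime] (h2 : p ≠ 2) (w : ℕ) (hw : p ≤ w) : HK p w := by
  induction w using Nat.strong_induction_on with | _ w ih => ?_
  rw [← Nat.div_add_mod w p]
  have h1 := Nat.mod_lt w hp.out.pos
  by_cases e : p ≤ w / p
  · exact (ih _ (Nat.div_lt_self (hp.out.pos.trans_le hw) hp.out.one_lt) e).step h1
  · exact hk_base (Nat.not_dvd_of_pos_of_lt (Nat.div_pos hw hp.out.pos) (not_le.1 e)) h1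
      fun h => absurd h h2

theorem hk_even (w : ℕ) (hw : 0 < w) : HK 2 (2 * w) := by
  induction w using Nat.strong_induction_on with | _ w ih => ?_
  by_cases e : 2 ∣ w
  · obtain ⟨v, rfl⟩ := e
    exact (ih v (by omega) (by omega)).step two_pos
  · exact hk_base e two_pos fun _ => rfl

theorem Blk.two_le_rc (h : Blk p M B ρ w) (hN : Fintype.card Ω + 2 * p ≤ N) {r : ℕ} (hr : r < p) :
    2 ≤ rc ρ r :=
  one_lt_card.2 ⟨⟨r, by omega⟩, by simp [h.low ⟨r, by omega⟩ (by simp; omega), Nat.mod_eq_of_lt hr],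
    ⟨r + p, by omega⟩, by simp [h.low ⟨r + p, by omega⟩ (by simp; omega), Nat.mod_eq_of_lt hr],
      by simp; omega⟩

theorem Blk.height_eq [hp : Fact p.Prime] (h : Blk p M B ρ w) {t : ℕ}
    (e : padicValNat p (charDegree χ.1) + w + padicValNat p w ! =
      padicValNat p (Fintype.card Ω)! + t) : blockHeight p B χ.1 = t := by
  have := h.mod.2.1
  have h1 := H32.blockDefect_add_minVal (p := p) (H32.isPBlock_nonempty h.blk)
  rw [h.defect_eq, Nat.card_eq_fintype_card, Fintype.card_perm, Nat.factorization_def _ hp.out,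
    val_mul_factorial] at h1
  rw [H32.blockHeight_eq, Nat.factorization_def _ hp.out]
  omega

theorem Blk.exists_row [hp : Fact p.Prime] (h : Blk p M B ρ w) (hN : Fintype.card Ω + 2 * p ≤ N)
    (hk : HK p w) (hw : 3 ≤ w) : ∃ χ ∈ B, blockHeight p B χ.1 = 1 ∧
      (p ≠ 2 ∨ ∃ g ∉ alternatingGroup Ω, χ.1 g ≠ 0) := by
  obtain ⟨k, h1, h2⟩ := hk
  have h0 : ∀ r ∈ range p, 0 < rc ρ r := fun r hr =>
    two_pos.trans_le (h.two_le_rc hN (mem_range.1 hr))
  obtain ⟨χ, h3, h4, h5⟩ := h.exists_cfg (μ := fun r => row (rc ρ r) (k r))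
    (fun r => row_mono _ _) (h1 ▸ sum_congr rfl fun r hr => sum_row (h0 r hr) _)
  rw [sum_congr rfl fun r hr => FF_row (h0 r hr) _, sum_add_distrib] at h5
  refine ⟨χ, h3, h.height_eq (by omega), or_iff_not_imp_left.2 fun e => ?_⟩
  obtain rfl := not_not.1 e
  rcases w.even_or_odd with e | e
  swap; · exact h.odd_of_odd e h3
  obtain ⟨w, rfl⟩ := Nat.exists_eq_add_of_le' (show 2 ≤ w by omega)
  obtain ⟨r, hr, h6⟩ : ∃ r < 2, 2 ≤ k r := by
    by_contra! h6
    have := h6 0 two_pos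
    have := h6 1 one_lt_two
    simp only [sum_range_succ, range_zero, sum_empty] at h1
    omega
  obtain ⟨x, hx⟩ := (Perm.exists_with_cycleType_iff Ω (m := (2 * 2) ::ₘ Multiset.replicate w 2)).2
    ⟨by have := h.wt_le; simp; omega, by simp +contextual [Multiset.mem_replicate]⟩
  have h7 := h0 r (mem_range.2 hr)
  obtain ⟨i, hi⟩ := (mem_range_core h.lt (r + 2 * (rc ρ r - 1))).2 (by
    rw [Nat.add_mul_mod_self_left, Nat.mod_eq_of_lt hr]; omega)
  have h8 : ρ i = r := by rw [← pat_core h.lt i, hi]; omega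
  refine ⟨x, ?_, h.ne_zero_two (pat_cfg h.lt _) (std_cfg two_pos fun r => row_mono _ _) h4
    (fun j hj => by simp [cfg, row, hj]) (i := i) ?_ hx⟩
  · rw [Perm.mem_alternatingGroup, Perm.sign_of_cycleType, hx, Odd.neg_one_pow (by
      obtain ⟨v, hv⟩ := e
      exact ⟨v + w + 1, by simp; omega⟩)]
    decide
  · rw [cfg, row, hi, h8, if_neg (by omega)]
    omega

theorem Blk.exists_height_one [hp : Fact p.Prime] (h : Blk p M B ρ w)
    (hN : Fintype.card Ω + 2 * p ≤ N) (h1 : p ≤ w) (hw : 3 ≤ w) : ∃ χ ∈ B,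
      blockHeight p B χ.1 = 1 ∧ (p ≠ 2 ∨ ∃ g ∉ alternatingGroup Ω, χ.1 g ≠ 0) := by
  by_cases h2 : p = 2
  swap; · exact h.exists_row hN (hk_odd h2 w h1) hw
  subst h2
  by_cases h3 : w % 4 = 3
  swap
  · refine h.exists_row hN ?_ hw
    rcases w.even_or_odd' with ⟨v, rfl | rfl⟩
    · exact hk_even v (by omega)
    · obtain ⟨u, rfl⟩ : ∃ u, v = 2 * u := ⟨v / 2, by omega⟩
      exact (hk_even u (by omega)).step one_lt_two
  obtain ⟨c, hc⟩ := Nat.exists_eq_add_of_le' (h.two_le_rc hN two_pos)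
  obtain ⟨u, rfl⟩ : ∃ u, w = 2 * (2 * u + 1) + 1 := ⟨w / 4, by omega⟩
  obtain ⟨χ, h4, -, h5⟩ := h.exists_cfg (μ := fun r => if r = 0 then row2 c (4 * u + 1) else 0)
    (fun r => by split_ifs; exacts [row2_mono _ _, monotone_const]) (by
      rw [sum_range_succ, sum_range_one, hc, if_pos rfl, sum_row2]; simp; omega)
  refine ⟨χ, h4, h.height_eq ?_, Or.inr (h.odd_of_odd (odd_two_mul_add_one _) h4)⟩
  have h6 := FF_row2 (p := 2) c (4 * u + 1)
  have h7 := FF_eq_VV (p := 2) (rc ρ 1) (β := fun a => a + 0) fun _ _ => rfl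
  rw [show 4 * u + 1 + 1 = 2 * (2 * u + 1) by ring, padicValNat.mul two_ne_zero (by omega),
    padicValNat_self, padicValNat.eq_zero_of_not_dvd (by omega),
    show 4 * u + 1 + 2 = 2 * (2 * u + 1) + 1 by ring] at h6
  simp only [sum_range_succ, range_zero, sum_empty, hc, if_true, one_ne_zero, if_false,
    Pi.zero_apply] at h5
  omega

end Cfsg.Agent.H87.Sn
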