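import Cfsg.Agent.H87.AlgGood

/-!
# Relative traces

The relative trace `Tr_P^H` in a ring on which the group acts through a homomorphism `σ`.
-/

set_option autoImplicit false
set_option linter.style.haveILetI false
set_option linter.unusedSectionVars false

open MonoidAlgebra

namespace Cfsg.Agent.H87

section General
variable {G E E' : Type*} [Group G] [Ring E] [Ring E'] {σ : G →* E} {P H H' : Subgroup G}
  {q r : E}

variable (σ) in
/-- `q` commutes with the image of `H`. -/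
def Cm (H : Subgroup G) (q : E) : Prop := ∀ g ∈ H, σ g * q = q * σ g

theorem Cm.mono (h : Cm σ H q) (hH : H' ≤ H) : Cm σ H' q := fun g hg => h g (hH hg)

theorem Cm.mul (h : Cm σ H q) (h' : Cm σ H r) : Cm σ H (q * r) := fun g hg => by
  rw [← mul_assoc, h g hg, mul_assoc, h' g hg, mul_assoc]

theorem Cm.sub (h : Cm σ H q) (h' : Cm σ H r) : Cm σ H (q - r) := fun g hg => by
  rw [mul_sub, sub_mul, h g hg, h' g hg]

theorem sig_mul_inv (g : G) : σ g * σ g⁻¹ = 1 := by rw [← map_mul, mul_inv_cancel, map_one]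

theorem sig_inv_mul (g : G) : σ g⁻¹ * σ g = 1 := by rw [← map_mul, inv_mul_cancel, map_one]

theorem Cm.conj (h : Cm σ H q) {g : G} (hg : g ∈ H) : σ g * q * σ g⁻¹ = q := by
  rw [h g hg, mul_assoc, sig_mul_inv, mul_one]

theorem cm_of_conj (h : ∀ g ∈ H, σ g * q * σ g⁻¹ = q) : Cm σ H q := fun g hg => by
  conv_rhs => rw [← h g hg, mul_assoc, sig_inv_mul, mul_one]

variable (σ P) in
/-- Conjugation by a coset representative. -/
noncomputable def cq (q : E) (c : G ⧸ P) : E := σ c.out * q * σ c.out⁻¹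

theorem cq_mk (hq : Cm σ P q) (g : G) : cq σ P q (g : G ⧸ P) = σ g * q * σ g⁻¹ := by
  obtain ⟨u, hu⟩ := QuotientGroup.mk_out_eq_mul P g
  rw [cq, hu, mul_inv_rev, map_mul, map_mul]
  conv_rhs => rw [← hq.conj u.2]
  simp only [mul_assoc]

theorem cq_smul (hq : Cm σ P q) (g : G) (c : G ⧸ P) :
    cq σ P q (g • c) = σ g * cq σ P q c * σ g⁻¹ := by
  induction c using QuotientGroup.induction_on with
  | H a =>
    rw [MulAction.Quotient.smul_mk, cq_mk hq, cq_mk hq, smul_eq_mul, mul_inv_rev, map_mul, map_mul]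
    simp only [mul_assoc]

theorem out_mk_mem (hP : P ≤ H) {g : G} : (g : G ⧸ P).out ∈ H ↔ g ∈ H := by
  obtain ⟨u, hu⟩ := QuotientGroup.mk_out_eq_mul P g
  rw [hu, H.mul_mem_cancel_right (hP u.2)]

theorem out_smul_mem (hP : P ≤ H) {g : G} (hg : g ∈ H) {c : G ⧸ P} :
    (g • c).out ∈ H ↔ c.out ∈ H := by
  induction c using QuotientGroup.induction_on with
  | H a =>
    rw [MulAction.Quotient.smul_mk, out_mk_mem hP, out_mk_mem hP, smul_eq_mul,
      H.mul_mem_cancel_left hg]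

theorem smul_eq_iff_out {g : G} {c : G ⧸ P} : g • c = c ↔ c.out⁻¹ * g * c.out ∈ P := by
  conv_lhs => rw [← QuotientGroup.out_eq' c, MulAction.Quotient.smul_mk, eq_comm, QuotientGroup.eq]
  rw [smul_eq_mul, mul_assoc]

variable [Finite G]

theorem fixed_iff {c : G ⧸ P} : (∀ g ∈ P, g • c = c) ↔ c.out ∈ No P := by
  simp only [smul_eq_iff_out]
  refine ⟨fun h => (No P).inv_mem_iff.1 (Subgroup.mem_normalizer_fintype fun n hn => ?_),
    fun h g hg => conj_mem_of_No' h hg⟩
  simpa using h n hn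

variable (P) in
/-- The cosets of `P` contained in `X`. -/
noncomputable def cs (X : Set G) : Finset (G ⧸ P) := (Set.toFinite {c : G ⧸ P | c.out ∈ X}).toFinset

theorem mem_cs {X : Set G} {c : G ⧸ P} : c ∈ cs P X ↔ c.out ∈ X := by simp [cs]

theorem sum_cs {A : Type*} [AddCommMonoid A] [Fintype P] [Fintype H] (hP : P ≤ H) (F : G → A) :
    ∑ c ∈ cs P H, ∑ u : P, F (c.out * u) = ∑ g : H, F g := by
  rw [← Finset.sum_product']
  refine Finset.sum_bij' (fun a ha => ⟨a.1.out * a.2,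
      H.mul_mem (mem_cs.1 (Finset.mem_product.1 ha).1) (hP a.2.2)⟩)
    (fun g _ => (((g : G) : G ⧸ P), ⟨((g : G) : G ⧸ P).out⁻¹ * g,
      QuotientGroup.eq.1 (QuotientGroup.out_eq' _)⟩)) (fun _ _ => Finset.mem_univ _)
    (fun g _ => Finset.mem_product.2 ⟨mem_cs.2 ((out_mk_mem hP).2 g.2), Finset.mem_univ _⟩)
    (fun a _ => ?_) (fun g _ => by simp) (fun _ _ => rfl)
  have : ((a.1.out * a.2 : G) : G ⧸ P) = a.1 := by simp
  refine Prod.ext this (Subtype.ext ?_)
  simp only [this, inv_mul_cancel_left]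

theorem card_cs (hP : P ≤ H) : (cs P H).card = P.relIndex H := by
  have := Fintype.ofFinite P
  have := Fintype.ofFinite H
  have h := sum_cs (A := ℕ) hP fun _ => 1
  simp only [Finset.sum_const, Finset.card_univ, smul_eq_mul, mul_one] at h
  have h2 := (P.subgroupOf H).index_mul_card
  rw [Nat.card_congr (Subgroup.subgroupOfEquivOfLe hP).toEquiv, Nat.card_eq_fintype_card,
    Nat.card_eq_fintype_card, ← h] at h2
  exact (Nat.eq_of_mul_eq_mul_right Fintype.card_pos h2).symm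

variable (σ P) in
/-- The relative trace. -/
noncomputable def Tr (X : Set G) (q : E) : E := ∑ c ∈ cs P X, cq σ P q c

theorem Tr_add (X : Set G) (q r : E) : Tr σ P X (q + r) = Tr σ P X q + Tr σ P X r := by
  simp only [Tr, cq, mul_add, add_mul, Finset.sum_add_distrib]

theorem Tr_zero (X : Set G) : Tr σ P X 0 = 0 := by simp [Tr, cq]

theorem cm_Tr (hP : P ≤ H) (hq : Cm σ P q) : Cm σ H (Tr σ P H q) := cm_of_conj fun g hg => by
  rw [Tr, Finset.mul_sum, Finset.sum_mul]
  simp only [← cq_smul hq]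
  exact Finset.sum_equiv (MulAction.toPerm g) (fun c => by
    rw [mem_cs, mem_cs]; exact (out_smul_mem hP hg).symm) fun _ _ => rfl

theorem Tr_mul (hr : Cm σ H r) (q : E) : Tr σ P H (q * r) = Tr σ P H q * r := by
  rw [Tr, Tr, Finset.sum_mul]
  refine Finset.sum_congr rfl fun c hc => ?_
  simp only [cq, mul_assoc, hr _ (H.inv_mem (mem_cs.1 hc))]

theorem mul_Tr (hr : Cm σ H r) (q : E) : Tr σ P H (r * q) = r * Tr σ P H q := by
  rw [Tr, Tr, Finset.mul_sum]
  refine Finset.sum_congr rfl fun c hc => ?_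
  simp only [cq, ← mul_assoc, hr _ (mem_cs.1 hc)]

theorem map_Tr {F : Type*} [FunLike F E E'] [RingHomClass F E E'] (f : F) {σ' : G →* E'}
    (h : ∀ g, f (σ g) = σ' g) (X : Set G) (q : E) : f (Tr σ P X q) = Tr σ' P X (f q) := by
  simp only [Tr, cq, map_sum, map_mul, h]

theorem Tr_sum [Fintype P] [Fintype H] (hP : P ≤ H) (q : E) :
    Tr σ P H (∑ u : P, σ u * q * σ (u : G)⁻¹) = ∑ g : H, σ g * q * σ (g : G)⁻¹ := by
  rw [← sum_cs hP fun g => σ g * q * σ g⁻¹]
  simp only [Tr, cq, Finset.mul_sum, Finset.sum_mul, map_mul, mul_inv_rev, mul_assoc]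

theorem Tr_union {X Y : Set G} (h : Disjoint X Y) (q : E) :
    Tr σ P (X ∪ Y) q = Tr σ P X q + Tr σ P Y q := by
  classical
  rw [Tr, Tr, Tr, ← Finset.sum_union (Finset.disjoint_left.2 fun c h1 h2 =>
    Set.disjoint_left.1 h (mem_cs.1 h1) (mem_cs.1 h2))]
  exact Finset.sum_congr (by ext c; simp [mem_cs]) fun _ _ => rfl

theorem Tr_diff {X Y : Set G} (h : X ⊆ Y) (q : E) :
    Tr σ P Y q = Tr σ P X q + Tr σ P (Y \ X) q := by
  rw [← Tr_union Set.disjoint_sdiff_right, Set.union_sdiff_cancel h]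

end General

section GroupAlgebra
variable {k : Type*} [Field k] {G : Type*} [Group G] {P H T : Subgroup G} {a b w : k[G]}

theorem cj_eq_of (g : G) (a : k[G]) : cj g a = of k G g * a * of k G g⁻¹ := cj_eq_mul g a

theorem cm_of_iff : Cm (of k G) H a ↔ Inv H a :=
  ⟨fun h g hg => (cj_eq_of g a).trans (h.conj hg),
    fun h => cm_of_conj fun g hg => (cj_eq_of g a).symm.trans (h g hg)⟩

theorem cq_of (a : k[G]) (c : G ⧸ P) : cq (of k G) P a c = cj c.out a := (cj_eq_of _ _).symm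

theorem supp_of {g : G} (hg : g ∈ H) : Supp H (of k G g) := fun x hx => by
  rw [of_apply, coeff_single, Finsupp.single_eq_of_ne]
  rintro rfl; exact hx hg

theorem Supp.add (ha : Supp H a) (hb : Supp H b) : Supp H (a + b) :=
  fun x hx => by simp [ha x hx, hb x hx]

theorem Supp.sub (ha : Supp H a) (hb : Supp H b) : Supp H (a - b) :=
  fun x hx => by simp [ha x hx, hb x hx]

theorem Supp.smul (ha : Supp H a) (c : k) : Supp H (c • a) :=
  fun x hx => by simp [ha x hx]

theorem supp_zero : Supp H (0 : k[G]) := fun _ _ => rfl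

theorem Supp.pow (ha : Supp H a) (n : ℕ) : Supp H (a ^ n) := by
  induction n with
  | zero => exact (pow_zero a).symm ▸ supp_one H
  | succ n ih => exact (pow_succ a n).symm ▸ ih.mul ha

theorem supp_sum {ι : Type*} {s : Finset ι} {f : ι → k[G]} (h : ∀ i ∈ s, Supp H (f i)) :
    Supp H (∑ i ∈ s, f i) :=
  Finset.sum_induction f (Supp H) (fun _ _ => Supp.add) supp_zero h

theorem Supp.cj_of_No (ha : Supp H a) {g : G} (hg : g ∈ No H) : Supp H (H87.cj g a) := by
  simpa only [mem_No_iff_cjS.1 hg] using ha.cj g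

theorem Inv.cj_of_No (ha : Inv H a) {g : G} (hg : g ∈ No H) : Inv H (H87.cj g a) := by
  simpa only [mem_No_iff_cjS.1 hg] using ha.cj g

theorem Supp.induction (Q : k[G] → Prop) (h0 : Q 0) (hadd : ∀ a b, Q a → Q b → Q (a + b))
    (h1 : ∀ g ∈ H, ∀ c : k, Q (c • of k G g)) (ha : Supp H a) : Q a := by
  rw [← sum_coeff_single a]
  refine Finset.sum_induction _ Q hadd h0 fun g hg => ?_
  simpa using h1 g (ha.mem (Finsupp.mem_support_iff.1 hg)) (a.coeff g)

variable [Finite G]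

theorem supp_Tr (hT : T ≤ No H) (ha : Supp H a) : Supp H (Tr (of k G) P T a) :=
  supp_sum fun _ hc => cq_of a _ ▸ ha.cj_of_No (hT (mem_cs.1 hc))

theorem inv_Tr (hP : P ≤ T) (ha : Inv P a) : Inv T (Tr (of k G) P T a) :=
  cm_of_iff.1 (cm_Tr hP (cm_of_iff.2 ha))

theorem coeff_Tr (X : Set G) (a : k[G]) (y : G) :
    (Tr (of k G) P X a).coeff y = ∑ c ∈ cs P X, a.coeff (c.out⁻¹ * y * c.out) := by
  simp only [Tr, cq_of, coeff_sum, Finsupp.finsetSum_apply, coeff_cj]

theorem Tr_of (hP : P ≤ T) {h : G} (hh : h ∈ Ce P) (ha : Inv T a) :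
    a.coeff h • Tr (of k G) P T (of k G h) =
      (P.relIndex (T ⊓ Subgroup.centralizer {h}) : k) • trunc (cls T h) a := by
  classical
  have hi : Inv T (Tr (of k G) P T (of k G h)) :=
    inv_Tr hP ((supp_of hh).inv_Ce.mono (le_Ce_comm.1 le_rfl))
  refine ext_coeff fun y => ?_
  by_cases hy : y ∈ cls T h
  · obtain ⟨t, ht, rfl⟩ := hy
    rw [coeff_smul_apply, coeff_smul_apply, hi.coeff_conj ht, (ha.trunc_cls h).coeff_conj ht,
      coeff_trunc_of_mem _ (self_mem_cls T h), coeff_Tr,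
      ← card_cs (le_inf hP (mem_Ce_iff_le.1 hh)), smul_eq_mul, smul_eq_mul, mul_comm]
    congr 1
    simp only [of_apply, coeff_single, Finsupp.single_apply, Finset.sum_boole]
    congr 2
    ext c
    simp only [Finset.mem_filter, mem_cs, SetLike.mem_coe, Subgroup.mem_inf,
      Subgroup.mem_centralizer_singleton_iff, mul_assoc, eq_inv_mul_iff_mul_eq]
  · rw [coeff_smul_apply, coeff_smul_apply, coeff_trunc_of_not_mem _ hy, coeff_Tr,
      Finset.sum_eq_zero, smul_zero, smul_zero]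
    intro c hc
    rw [of_apply, coeff_single, Finsupp.single_eq_of_ne]
    intro h1
    exact hy ⟨c.out, mem_cs.1 hc, by rw [← h1]; group⟩

variable {p : ℕ} [Fact p.Prime] [CharP k p]

/-- A block idempotent is a relative trace from its defect group. -/
theorem exists_Tr_eq (hHT : H ≤ T) (hb : Blk H T b) (hD : IsDef p T b P) :
    ∃ w, Supp H w ∧ Inv P w ∧ w * b = w ∧ Tr (of k G) P T w = b := by
  obtain ⟨h₀, -, u, hu, hmul⟩ := hb.exists_unit_cls hHT
  obtain ⟨h, hh, hx⟩ := Br_ne_zero_iff.1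
    (Br_ne_zero_of_mul_eq hD.le hD.pgp (hb.inv.trunc_cls h₀) hu.2 hmul hD.ne)
  have hK : h ∈ cls T h₀ := by
    by_contra hK; exact hx (coeff_trunc_of_not_mem _ hK)
  rw [coeff_trunc_of_mem _ hK] at hx
  rw [← cls_eq_of_mem hK] at hmul
  have hn : (P.relIndex (T ⊓ Subgroup.centralizer {h}) : k) ≠ 0 :=
    fun h0 => (hD.sylIn hh hx).not_dvd_relIndex ((CharP.cast_eq_zero_iff k p _).1 h0)
  have hub : Inv T (u * b) := hu.2.mul hb.inv
  refine ⟨((P.relIndex (T ⊓ Subgroup.centralizer {h}) : k)⁻¹ * b.coeff h) • (of k G h * (u * b)),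
    ((supp_of (hb.supp.mem hx)).mul (hu.1.mul hb.supp)).smul _, fun g hg => ?_, ?_, ?_⟩
  · rw [map_smul, map_mul, hub g (hD.le hg),
      ((supp_of hh).inv_Ce.mono (le_Ce_comm.1 le_rfl)) g hg]
  · rw [smul_mul_assoc, mul_assoc, mul_assoc, hb.idem.eq]
  · rw [← mul_smul_comm, Tr_mul (cm_of_iff.2 fun g hg => by rw [map_smul, hub g hg]),
      mul_smul_comm, mul_smul, ← smul_mul_assoc (b.coeff h), Tr_of hD.le hh hb.inv, smul_mul_assoc,
      smul_smul, inv_mul_cancel₀ hn, one_smul, ← mul_assoc, hmul, hb.idem.eq]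

theorem Br_Tr (hp : IsPGroup p P) (hP : P ≤ T) (ha : Inv P a) (hs : Supp (Ce P) a) :
    Br P (Tr (of k G) P T a) = Tr (of k G) P (T ⊓ No P : Subgroup G) a := by
  classical
  refine ext_coeff fun y => ?_
  by_cases hy : y ∈ Ce P
  · rw [coeff_Br_of_mem _ hy, Tr, Tr]
    simp only [coeff_sum, Finsupp.finsetSum_apply]
    rw [sum_eq_sum_fixed hp (fun g (c : G ⧸ P) => g • c) (one_smul G) mul_smul (cs P T)
      (fun g hg c hc => mem_cs.2 ((out_smul_mem hP (hP hg)).2 (mem_cs.1 hc)))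
      (fun c => (cq (of k G) P a c).coeff y)]
    · refine Finset.sum_congr ?_ fun _ _ => rfl
      ext c
      simp only [Finset.mem_filter, mem_cs, fixed_iff, SetLike.mem_coe, Subgroup.mem_inf]
    · intro g hg c _
      rw [cq_smul (cm_of_iff.2 ha), ← cj_eq_of, coeff_cj, mul_assoc, ← mem_Ce.1 hy g hg,
        inv_mul_cancel_left]
  · rw [coeff_Br_of_not_mem _ hy, supp_Tr (inf_le_right.trans (No_le_No_Ce P)) hs y hy]

end GroupAlgebra

end Cfsg.Agent.H87
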